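import Cfsg.Agent.USixTwoCover.Model
import Cfsg.Agent.Schur.CoverKernel
import Cfsg.Agent.CosetCert.Sift
import Cfsg.Agent.S0283

/-!
The multiplier of the projective special unitary group in dimension six over four elements is the product of cyclic
groups of orders 3, 2 and 2.
-/

set_option autoImplicit false
set_option maxHeartbeats 1000000
set_option maxRecDepth 100000
set_option linter.style.haveILetI false

namespace Cfsg.Lib.USixTwoCover

open Cfsg.Lib.PermCert Cfsg.Lib.CosetCert
open Cfsg.Lib.Schur.Prime (val)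
open scoped commutatorElement

theorem card_cover : Nat.card Cover = 110361968640 := card_facts.1

theorem sameC_sound {w u : List ℕ} (h : sameC w u = true) : wval imD w = wval imD u := by
  simp only [sameC, Bool.and_eq_true, List.all_eq_true, decide_eq_true_eq, beq_iff_eq] at h
  obtain ⟨⟨hw, hu⟩, he⟩ := h
  have hle : Nat.card (⊤ : Subgroup Cover) ≤ chainSize (covChain.map SLev.lev) := by
    rw [chain_size.1, Subgroup.card_top, card_cover]
  have key : ∀ v : List ℕ, (∀ l ∈ v, l < 3) → ∃ x, sift covTabs covChain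
      (covChain.map fun S => evalW covTabs v S.lev.b) = some x ∧ wval imD x = wval imD v := fun v hv => by
    refine sift_complete tabledD covChain ⊤ inferInstance (covTabs_length.symm ▸ chain_ok) chain_idx
      (fun _ _ _ _ => Subgroup.mem_top _) hle _ (Subgroup.mem_top _) _ ?_
    rw [List.forall₂_map_right_iff, List.forall₂_same]
    intro S _ p hp
    rw [evalW_apply imD (lgp imC (List.range 3)).subtype covTabs tabledD.act v
      (fun l hl => covTabs_length.symm ▸ hv l hl) p, hp]
  obtain ⟨x, hx, ex⟩ := key w hw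
  obtain ⟨y, hy, ey⟩ := key u hu
  rw [List.map_congr_left he, hy, Option.some.injEq] at hx
  rw [← ex, ← ey, hx]

theorem word_inv {w : List ℕ} (hw : ∀ l ∈ w, l < 3) : wval imD w.reverse = (wval imD w)⁻¹ :=
  wval_reverse imD fun l hl => imD_sq (hw l hl)

theorem cover_perfect : commutator Cover = ⊤ := top_eq fun l hl => by
  have h := List.all_eq_true.1 coms_ok l (List.mem_range.2 hl)
  have e := sameC_sound h
  simp only [sameC, Bool.and_eq_true, List.all_eq_true, decide_eq_true_eq] at h
  have hA : ∀ x ∈ (letterComs.getD l ([], [])).1, x < 3 :=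
    fun x hm => h.1.1 x (List.mem_append_left _ (List.mem_append_left _ (List.mem_append_left _ hm)))
  have hB : ∀ x ∈ (letterComs.getD l ([], [])).2, x < 3 :=
    fun x hm => h.1.1 x (List.mem_append_left _ (List.mem_append_left _ (List.mem_append_right _ hm)))
  rw [wval_append', wval_append', wval_append', word_inv hA, word_inv hB, ← commutatorElement_def] at e
  rw [show imD l = wval imD [l] by simp [wval], ← e, commutator_def]
  exact Subgroup.commutator_mem_commutator (Subgroup.mem_top _) (Subgroup.mem_top _)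

/-- A generator of the kernel. -/
def zD (k : ℕ) : Cover := wval imD (zWords.getD k [])

theorem wval_flatten (w : List ℕ) : ∀ n : ℕ, wval imD (List.replicate n w).flatten = wval imD w ^ n
  | 0 => by simp [wval]
  | n + 1 => by rw [List.replicate_succ, List.flatten_cons, wval_append', wval_flatten w n, pow_succ']

theorem z_central {k : ℕ} (hk : k < 3) : zD k ∈ Subgroup.center Cover := by
  have h := z_ok.2.1
  simp only [List.all_eq_true, List.mem_range] at h
  have ht := top_eq (P := Subgroup.centralizer {zD k}) fun l hl => by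
    rw [Subgroup.mem_centralizer_singleton_iff]
    have e := sameC_sound (h k hk l hl)
    simp only [wval, List.map_append, List.prod_append, List.map_cons, List.map_nil, List.prod_cons,
      List.prod_nil, mul_one] at e
    exact e.symm
  exact Subgroup.mem_center_iff.2 fun g =>
    Subgroup.mem_centralizer_singleton_iff.1 (ht.symm ▸ Subgroup.mem_top g)

theorem z_pow : zD 0 ^ 3 = 1 ∧ zD 1 ^ 2 = 1 ∧ zD 2 ^ 2 = 1 := by
  obtain ⟨-, -, h0, h1, h2, -⟩ := z_ok
  exact ⟨(wval_flatten _ 3).symm.trans (sameC_sound h0), (wval_flatten _ 2).symm.trans (sameC_sound h1),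
    (wval_flatten _ 2).symm.trans (sameC_sound h2)⟩

theorem z_lt {k : ℕ} (hk : k < 3) : ∀ l ∈ zWords.getD k [], l < 3 := by
  have h := z_ok.2.1
  simp only [List.all_eq_true, List.mem_range] at h
  have h' := h k hk 0 (by norm_num)
  simp only [sameC, Bool.and_eq_true, List.all_eq_true, decide_eq_true_eq] at h'
  exact fun l hl => h'.1.1 l (List.mem_append_left _ hl)

theorem zProd_lt (i j k : ℕ) : ∀ l ∈ zProd i j k, l < 3 := by
  intro l hl
  simp only [zProd, List.mem_append, List.mem_flatten, List.mem_replicate] at hl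
  rcases hl with ⟨w, ⟨-, rfl⟩, hl⟩ | ⟨w, ⟨-, rfl⟩, hl⟩ | ⟨w, ⟨-, rfl⟩, hl⟩
  exacts [z_lt (by norm_num) l hl, z_lt (by norm_num) l hl, z_lt (by norm_num) l hl]

theorem zProd_val (i j k : ℕ) : wval imD (zProd i j k) = zD 0 ^ i * (zD 1 ^ j * zD 2 ^ k) := by
  rw [zProd, wval_append', wval_append', wval_flatten, wval_flatten, wval_flatten]
  rfl

theorem base_lt {S : SLev} (hS : S ∈ covChain) : S.lev.b < 4704 := of_decide_eq_true
  (List.all_eq_true.1 (by decide +kernel : covChain.all (fun S => decide (S.lev.b < 4704)) = true) S hS)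

theorem zImg_eq {i j k : ℕ} (h : wval imD (zProd i j k) = 1) : zImg i j k = zImg 0 0 0 := by
  refine List.map_congr_left fun S hS => ?_
  have e1 := evalW_apply imD (lgp imC (List.range 3)).subtype covTabs tabledD.act (zProd i j k)
    (fun l hl => covTabs_length.symm ▸ zProd_lt i j k l hl) ⟨S.lev.b, base_lt hS⟩
  have e2 := evalW_apply imD (lgp imC (List.range 3)).subtype covTabs tabledD.act (zProd 0 0 0)
    (fun l hl => covTabs_length.symm ▸ zProd_lt 0 0 0 l hl) ⟨S.lev.b, base_lt hS⟩
  rw [h] at e1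
  rw [show wval imD (zProd 0 0 0) = 1 by rw [zProd_val]; simp] at e2
  exact e1.symm.trans e2

/-- The abstract kernel. -/
abbrev A12 : Type := Multiplicative (ZMod 3 × ZMod 2 × ZMod 2)

/-- The product of powers of the generators. -/
def zVal (t : A12) : Cover := zD 0 ^ t.toAdd.1.val * (zD 1 ^ t.toAdd.2.1.val * zD 2 ^ t.toAdd.2.2.val)

theorem pow_val {x : Cover} {n : ℕ} [NeZero n] (h : x ^ n = 1) (a b : ZMod n) :
    x ^ (a + b).val = x ^ a.val * x ^ b.val := by
  rw [← pow_add, ZMod.val_add, ← pow_eq_pow_mod _ h]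

/-- The map onto the kernel. -/
def zHom : A12 →* Cover where
  toFun := zVal
  map_one' := by simp [zVal]
  map_mul' := fun a b => by
    obtain ⟨h0, h1, h2⟩ := z_pow
    have c : ∀ {k : ℕ}, k < 3 → ∀ (n : ℕ) (g : Cover), zD k ^ n * g = g * zD k ^ n := fun hk n g =>
      (Subgroup.mem_center_iff.1 (pow_mem (z_central hk) n) g).symm
    simp only [zVal, toAdd_mul, Prod.fst_add, Prod.snd_add, pow_val h0, pow_val h1, pow_val h2]
    calc _ = zD 0 ^ a.toAdd.1.val * ((zD 0 ^ b.toAdd.1.val * (zD 1 ^ a.toAdd.2.1.val * zD 1 ^ b.toAdd.2.1.val)) *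
          (zD 2 ^ a.toAdd.2.2.val * zD 2 ^ b.toAdd.2.2.val)) := by simp only [mul_assoc]
      _ = zD 0 ^ a.toAdd.1.val * ((zD 1 ^ a.toAdd.2.1.val * (zD 0 ^ b.toAdd.1.val * zD 1 ^ b.toAdd.2.1.val)) *
          (zD 2 ^ a.toAdd.2.2.val * zD 2 ^ b.toAdd.2.2.val)) := by
            rw [← mul_assoc (zD 0 ^ b.toAdd.1.val), c (k := 0) (by norm_num) b.toAdd.1.val (zD 1 ^ a.toAdd.2.1.val),
              mul_assoc (zD 1 ^ a.toAdd.2.1.val)]
      _ = zD 0 ^ a.toAdd.1.val * (zD 1 ^ a.toAdd.2.1.val * ((zD 2 ^ a.toAdd.2.2.val *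
          (zD 0 ^ b.toAdd.1.val * zD 1 ^ b.toAdd.2.1.val)) * zD 2 ^ b.toAdd.2.2.val)) := by
            rw [c (k := 2) (by norm_num) a.toAdd.2.2.val (zD 0 ^ b.toAdd.1.val * zD 1 ^ b.toAdd.2.1.val)]
            simp only [mul_assoc]
      _ = _ := by simp only [mul_assoc]

theorem zHom_center (t : A12) : zHom t ∈ Subgroup.center Cover :=
  mul_mem (pow_mem (z_central (by norm_num)) _)
    (mul_mem (pow_mem (z_central (by norm_num)) _) (pow_mem (z_central (by norm_num)) _))

theorem zHom_inj : Function.Injective zHom := by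
  refine (injective_iff_map_eq_one zHom).2 fun t ht => ?_
  have e := zImg_eq (i := t.toAdd.1.val) (j := t.toAdd.2.1.val) (k := t.toAdd.2.2.val) (by rw [zProd_val]; exact ht)
  have h := z_ok.2.2.2.2.2
  simp only [List.all_eq_true, List.mem_range, Bool.or_eq_true, Bool.and_eq_true, beq_iff_eq, bne_iff_ne] at h
  rcases h _ (ZMod.val_lt t.toAdd.1) _ (ZMod.val_lt t.toAdd.2.1) _ (ZMod.val_lt t.toAdd.2.2) with ⟨⟨a, b⟩, c⟩ | h'
  · apply Multiplicative.toAdd.injective
    exact Prod.ext ((ZMod.val_eq_zero _).1 a) (Prod.ext ((ZMod.val_eq_zero _).1 b) ((ZMod.val_eq_zero _).1 c))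
  · exact absurd e h'

/-- The centre of the projective group is trivial. -/
theorem psu_center {x : Cfsg.PSU 6 K 2} (hx : x ∈ Subgroup.center (Cfsg.PSU 6 K 2)) : x = 1 := by
  haveI hs : IsSimpleGroup (Cfsg.PSU 6 K 2) :=
    Cfsg.Agent.S0283.result (F := K) (q := 2) (by rw [card_K]; norm_num) 6 (by norm_num) (by norm_num)
  rcases Subgroup.Normal.eq_bot_or_eq_top (inferInstance : (Subgroup.center (Cfsg.PSU 6 K 2)).Normal) with e | e
  · rwa [e, Subgroup.mem_bot] at hx
  · exfalso
    haveI : Finite (Cfsg.PSU 6 K 2) := Nat.finite_of_card_ne_zero (by rw [card_psu]; norm_num)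
    letI : CommGroup (Cfsg.PSU 6 K 2) :=
      { (inferInstance : Group (Cfsg.PSU 6 K 2)) with
        mul_comm := fun a b => (Subgroup.mem_center_iff.1 (e.symm ▸ Subgroup.mem_top a) b).symm }
    have hp : (Nat.card (Cfsg.PSU 6 K 2)).Prime := IsSimpleGroup.prime_card
    rw [card_psu] at hp
    norm_num at hp

theorem zHom_ker (t : A12) : zHom t ∈ toP.ker :=
  psu_center (Subgroup.mem_center_iff.2 fun y => by
    obtain ⟨g, rfl⟩ := card_facts.2.2 y
    rw [← map_mul, ← map_mul, Subgroup.mem_center_iff.1 (zHom_center t) g])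

theorem range_zHom : zHom.range = toP.ker := by
  refine Subgroup.eq_of_le_of_card_ge (by rintro _ ⟨t, rfl⟩; exact zHom_ker t) ?_
  rw [card_facts.2.1, Nat.card_congr (MonoidHom.ofInjective zHom_inj).symm.toEquiv]
  simp [A12, Nat.card_eq_fintype_card]

theorem val_pcFlat (pcw : List (List ℕ)) : ∀ l : List ℕ,
    val (fun k => wval imD (pcw.getD k [])) l = wval imD (pcFlat pcw l)
  | [] => rfl
  | k :: l => by
    rw [Cfsg.Lib.Schur.Prime.val_cons, val_pcFlat pcw l,
      show pcFlat pcw (k :: l) = pcw.getD k [] ++ pcFlat pcw l from List.flatMap_cons .., wval_append']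

theorem not_dvd_ker (c : Cfsg.Lib.Schur.Prime.Cert) (pcw fw : List (List ℕ))
    (levels : List (ℕ × List (List ℕ) × List (ℕ × ℕ × ℕ))) (hp : c.p.Prime) (hc : c.ok = true)
    (hrules : ∀ j < c.n, ruleC c pcw j = true) (hfus : fusC c pcw fw = true) (hcount : countC c pcw levels = true)
    (hfact : (110361968640 : ℕ).factorization c.p = c.n)
    {Γ : Type} [Group Γ] [Finite Γ] {σ : Γ →* Cover} (hσ : Cfsg.IsStemExtension σ) :
    ¬ c.p ∣ Nat.card σ.ker := by
  simp only [countC, Bool.and_eq_true, List.all_eq_true, decide_eq_true_eq] at hcount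
  obtain ⟨⟨hidx, hchain⟩, hsize⟩ := hcount
  set x : ℕ → Cover := fun k => wval imD (pcw.getD k [])
  have hr : ∀ j < c.n, ∀ i ≤ j, val x (c.lhs j i) = val x (c.tail j i) := fun j hj i hi => by
    have h := List.all_eq_true.mp (hrules j hj) i (List.mem_range.mpr (by omega))
    rw [val_pcFlat, val_pcFlat]
    exact sameC_sound h
  have hf : ∀ f ∈ c.fuse, ∃ g, ∀ k < f.1.length,
      g * val x (f.1.getD k []) * g⁻¹ = val x (f.2.1.getD k []) := by
    intro f hf
    obtain ⟨i, hi, rfl⟩ := List.mem_iff_getElem.mp hf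
    refine ⟨wval imD (fw.getD i []), fun k hk => ?_⟩
    have h := List.all_eq_true.mp hfus i (List.mem_range.mpr hi)
    rw [List.getD_eq_getElem _ _ hi] at h
    have e := sameC_sound (List.all_eq_true.mp h k (List.mem_range.mpr hk))
    rw [wval_append', wval_append', ← val_pcFlat, ← val_pcFlat] at e
    rw [mul_inv_eq_iff_eq_mul]
    exact e
  have hshape : c.shapesOK = true := by
    simp only [Cfsg.Lib.Schur.Prime.Cert.ok, Bool.and_eq_true] at hc
    exact hc.1.2
  have hset : ({i | 0 ≤ i ∧ i < c.n} : Set ℕ) = {i | i < c.n} := by ext; simp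
  have hup := Cfsg.Lib.Schur.Prime.card_sub_le c hshape hp.pos x hr c.n 0 (Nat.zero_add _)
  rw [Cfsg.Lib.Schur.Prime.sub, hset] at hup
  set P := Subgroup.closure (x '' {i | i < c.n}) with hP
  have hlow : c.p ^ c.n ≤ Nat.card P := by
    have hmem : ∀ K ∈ levsOf pcw levels, ∀ w ∈ K.gens, wval imD w ∈ P := by
      intro K hK w hw
      obtain ⟨L, hL, rfl⟩ := List.mem_map.mp hK
      obtain ⟨l, hl, rfl⟩ := List.mem_map.mp hw
      rw [← val_pcFlat]
      refine Subgroup.list_prod_mem _ fun z hz => ?_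
      obtain ⟨q, hq, rfl⟩ := List.mem_map.mp hz
      exact Subgroup.subset_closure ⟨q, hidx L hL l hl q hq, rfl⟩
    exact hsize ▸ chain_bound imD (lgp imC (List.range 3)).subtype covTabs tabledD.act (levsOf pcw levels) P
      (covTabs_length.symm ▸ hchain) inferInstance hmem
  have heq : Nat.card P = c.p ^ c.n := le_antisymm hup hlow
  exact Cfsg.Lib.Schur.Prime.Cert.not_dvd c hp hc hσ x hr hf (by rw [← hP, heq, card_cover, hfact]) heq.symm

theorem cover_ker_eq_bot {Γ : Type} [Group Γ] [Finite Γ] {σ : Γ →* Cover} (hσ : Cfsg.IsStemExtension σ) :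
    σ.ker = ⊥ := by
  have hf : ∀ p k : ℕ, p.Prime → p ^ k ∣ 110361968640 → ¬ p ^ (k + 1) ∣ 110361968640 →
      (110361968640 : ℕ).factorization p = k := fun p k hp h1 h2 => by
    refine le_antisymm ?_ ((hp.pow_dvd_iff_le_factorization (by norm_num)).mp h1)
    by_contra h
    exact h2 ((hp.pow_dvd_iff_le_factorization (by norm_num)).mpr (by omega))
  refine Cfsg.Lib.Schur.ker_eq_bot_of_sylow hσ fun p hp => ?_
  haveI := hp
  have hp' := hp.out
  have hone : ∀ {q : ℕ}, q.Prime → p ∣ q → p = q := fun hq h => (Nat.prime_dvd_prime_iff_eq hp' hq).mp h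
  by_cases h2 : p ^ 2 ∣ 110361968640
  · have hmem : p = 2 ∨ p = 3 := by
      have h1 : p ∣ 2 ^ 17 * 3 ^ 7 * 5 * 7 * 11 := (dvd_pow_self p two_ne_zero).trans (by norm_num; exact h2)
      rcases hp'.dvd_mul.mp h1 with h | h
      · rcases hp'.dvd_mul.mp h with h | h
        · rcases hp'.dvd_mul.mp h with h | h
          · rcases hp'.dvd_mul.mp h with h | h
            · exact Or.inl (hone Nat.prime_two (hp'.dvd_of_dvd_pow h))
            · exact Or.inr (hone Nat.prime_three (hp'.dvd_of_dvd_pow h))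
          · obtain rfl := hone (by norm_num) h
            norm_num at h2
        · obtain rfl := hone (by norm_num) h
          norm_num at h2
      · obtain rfl := hone (by norm_num) h
        norm_num at h2
    rcases hmem with rfl | rfl
    · exact certTwo.exists_sylow (not_dvd_ker certTwo pcwTwo fwTwo sylTwo (show Nat.Prime 2 by norm_num) certTwo_ok
        (fun j hj => List.all_eq_true.mp rulesTwo j (List.mem_range'_1.mpr ⟨Nat.zero_le _, by simpa [certTwo] using hj⟩))
        fusTwo countTwo (hf 2 17 (by norm_num) (by norm_num) (by norm_num)) hσ)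
    · exact certThree.exists_sylow (not_dvd_ker certThree pcwThree fwThree sylThree (show Nat.Prime 3 by norm_num) certThree_ok
        (fun j hj => List.all_eq_true.mp rulesThree j (List.mem_range'_1.mpr ⟨Nat.zero_le _, by simpa [certThree] using hj⟩))
        fusThree countThree (hf 3 7 (by norm_num) (by norm_num) (by norm_num)) hσ)
  · exact Cfsg.Lib.Schur.exists_sylow_cyclic hσ (by rwa [card_cover])

/-- The multiplier. -/
theorem multiplier {F : Type*} [Field F] [Fintype F] (hF : Fintype.card F = 4) :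
    Cfsg.HasSchurMultiplier (Cfsg.PSU 6 F 2) (Multiplicative (ZMod 3 × ZMod 2 × ZMod 2)) := by
  obtain ⟨i⟩ := Cfsg.Lib.UFourThreeCover.psu_congr (FiniteField.ringEquivOfCardEq (K := K) (K' := F) (card_K.trans hF.symm)) 6 2
  haveI : Finite (Cfsg.PSU 6 K 2) := Nat.finite_of_card_ne_zero (by rw [card_psu]; norm_num)
  refine Cfsg.Lib.Schur.hasSchurMultiplier_of_cover toP ⟨card_facts.2.2, ?_, ?_⟩ cover_perfect
    (fun _ _ _ _ hτ => cover_ker_eq_bot hτ)
    ((MulEquiv.subgroupCongr range_zHom.symm).trans (MonoidHom.ofInjective zHom_inj).symm) i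
  · rw [← range_zHom]; rintro _ ⟨t, rfl⟩; exact zHom_center t
  · rw [cover_perfect]; exact le_top

end Cfsg.Lib.USixTwoCover
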