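import Cfsg.Agent.CosetCert.Lower
import Cfsg.Agent.Schur.PrimeCert

/-!
Generated: certificates at the primes 2 and 3 for the cover.
-/

set_option autoImplicit false
set_option maxRecDepth 100000

namespace Cfsg.Lib.USixTwoCover

open Cfsg.Lib.PermCert

open Cfsg.Lib.Schur.Prime (Cert)

/-- The certificate. -/
def certTwo : Cert where
  p := 2
  n := 17
  tails := [[[9,10,12,13,15]],
    [[0,1,4,5,6,7,8,15], [9]],
    [[0,2,4,5,6,10,13,14,15,16], [1,2,4,5,9,11,12,13,15,16], [8,11,12,13,15,16]],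
    [[0,3,9,10,15,16], [1,3,4,5,6,7,10,15], [2,3,6,8,10,11,12,16], [9,10,12,14,16]],
    [[0,4,7,10,11,12,16], [1,4,6,7,8,9,10,11,13], [2,4,14,16], [3,4,6,11,13,14,15,16], []],
    [[0,5,7,8,9,10,12,15], [1,5,6,7,8,9,10,11,12,13,14,16], [2,5,12], [3,5,6,8,9,11,12,14], [4,5,8,12,15], [8,12,15]],
    [[0,6,8,9,12,13,15], [1,6,9,12,13], [2,6,11,12,14,15,16], [3,6,11,13,14,15], [4,6,12,13], [5,6,12], [12,13]],
    [[0,7,11,12], [1,7,9,12,13,14,15,16], [2,7,8,12,13,14,15,16], [3,7,8,9,11,12,14], [4,7,11,13,15,16], [5,7,11,12,14,15], [6,7,14,15,16], [13,15]],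
    [[0,8,13,14], [1,8,12,13,15,16], [2,8,14,15], [3,8,12,14,15,16], [4,8,14,15], [5,8,14,15], [6,8,14,15], [7,8], []],
    [[0,9,12,15], [1,9], [2,9], [3,9,12,13,16], [4,9,12,13,16], [5,9,12,13,16], [6,9], [7,9], [8,9], []],
    [[0,10,12,14], [1,10,12], [2,10,11,12,13,14,15], [3,10,12,13,14,15,16], [4,10,11,12,16], [5,10,11,12,13,16], [6,10,12,13], [7,10,12,14,15], [8,10,14,15], [9,10], []],
    [[0,11,12,14,15], [1,11,13], [2,11,14,15], [3,11,12,13,14,15], [4,11,14,15], [5,11,14,15], [6,11], [7,11,14,15], [8,11], [9,11], [10,11], []],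
    [[0,12], [1,12], [2,12], [3,12,14,15], [4,12,14,15], [5,12,14,15], [6,12], [7,12], [8,12], [9,12], [10,12], [11,12], []],
    [[0,13,14,15], [1,13], [2,13], [3,13,14,15], [4,13,14,15], [5,13,14,15], [6,13], [7,13], [8,13], [9,13], [10,13], [11,13], [12,13], []],
    [[0,14], [1,14], [2,14], [3,14], [4,14], [5,14], [6,14], [7,14], [8,14], [9,14], [10,14], [11,14], [12,14], [13,14], []],
    [[0,15], [1,15], [2,15], [3,15], [4,15], [5,15], [6,15], [7,15], [8,15], [9,15], [10,15], [11,15], [12,15], [13,15], [14,15], []],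
    [[0,16], [1,16], [2,16], [3,16], [4,16], [5,16], [6,16], [7,16], [8,16], [9,16], [10,16], [11,16], [12,16], [13,16], [14,16], [15,16], []]]
  overlaps := [([0,0,0],1), ([1,1,0],1), ([1,0,0],1), ([1,1,1],1), ([2,2,0],1), ([2,0,0],1), ([2,1,0],1), ([2,2,1],1), ([2,1,1],1), ([2,2,2],1), ([3,3,0],1), ([3,0,0],1), ([3,1,0],1), ([3,3,1],1), ([3,1,1],1), ([3,2,0],1), ([3,2,1],1), ([3,3,2],1), ([3,2,2],1), ([3,3,3],1), ([4,4,0],1), ([4,0,0],1), ([4,1,0],1), ([4,4,1],1), ([4,1,1],1), ([4,2,0],1), ([4,2,1],1), ([4,4,2],1), ([4,2,2],1), ([4,3,0],1), ([4,3,1],1), ([4,3,2],1), ([4,4,3],1), ([4,3,3],1), ([5,5,0],1), ([5,0,0],1), ([5,1,0],1), ([5,5,1],1), ([5,1,1],1), ([5,2,0],1), ([5,2,1],1), ([5,5,2],1), ([5,2,2],1), ([5,3,0],1), ([5,3,1],1), ([5,3,2],1), ([5,5,3],1), ([5,3,3],1), ([5,4,0],1), ([5,4,1],1), ([5,4,2],1), ([5,4,3],1), ([5,5,4],1), ([5,4,4],1), ([6,6,0],1), ([6,0,0],1), ([6,1,0],1), ([6,6,1],1), ([6,1,1],1), ([6,2,0],1), ([6,2,1],1),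 ([6,6,2],1), ([6,2,2],1), ([6,3,0],1), ([6,3,1],1), ([6,3,2],1), ([6,6,3],1), ([6,3,3],1), ([6,4,0],1), ([6,4,1],1), ([6,4,2],1), ([6,4,3],1), ([6,6,4],1), ([6,5,0],1), ([6,5,1],1), ([6,5,2],1), ([6,5,3],1), ([6,5,4],1), ([6,6,5],1), ([6,5,5],1), ([7,7,0],1), ([7,0,0],1), ([7,1,0],1), ([7,7,1],1), ([7,1,1],1), ([7,2,0],1), ([7,2,1],1), ([7,7,2],1), ([7,2,2],1), ([7,3,0],1), ([7,3,1],1), ([7,3,2],1), ([7,7,3],1), ([7,3,3],1), ([7,4,0],1), ([7,4,1],1), ([7,4,2],1), ([7,4,3],1), ([7,7,4],1), ([7,4,4],1), ([7,5,0],1), ([7,5,1],1), ([7,5,2],1), ([7,5,3],1), ([7,5,4],1), ([7,7,5],1), ([7,5,5],1), ([7,6,0],1), ([7,6,1],1), ([7,6,2],1), ([7,6,3],1), ([7,6,4],1), ([7,6,5],1), ([7,7,6],1), ([7,7,7],1), ([8,8,0],1), ([8,0,0],1), ([8,1,0],1), ([8,8,1],1), ([8,1,1],1), ([8,2,0],1), ([8,2,1],1), ([8,8,2],1), ([8,2,2],1), ([8,3,0],1), ([8,3,1],1), ([8,3,2],1)]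
  fuse := [([[0,1,3,8,10,11,15], [1,2,5,6,7,8,11,13,15,16], [2,3,5,6,7,8,11,12,13,14,15,16], [2,4,8,10,14,15], [4,5,8,9,10,11,13,15], [4,5,7,8,9,10,11,12,14,16], [4,5,6,8,10,11,12], [9,11,13,14,15], [8,12,13,14,15], [8,9,12,13,14,16], [4,5,6,7,8,9,11], [12,13,15], [13], [14], [15], [16]], [[0,2,4,7,11,13,14,15,16], [2,4,6,8,10,11,14], [1,6,7,8,10,11,12,15,16], [1,3,7,8,11,12,13,15], [1,4,5,6,10,11,13,16], [2,3,4,6,7,11,12,14,16], [1,2,3,5,7,8,10,12,13,14,16], [10,12,14,16], [4,5,6,7,8,9,10,11,13,14,15], [4,5,6,7,8,10,11,12,14], [8,9,11,12,13,14,15], [12,13,15], [13,14,15], [14], [15], [16]], [([0,0],[8,11,13,14,15]), ([1,0],[0,1,4,5,6,7,8,10,12]), ([1,1],[4,5,6,8,9,11,15]), ([2,0],[0,2,7,8,9,10,13,14]), ([2,1],[1,2,4,5,6,8,10,13,15]), ([2,2],[8,9,14,15]), ([3,0],[0,3,7,8,9,11,13,15]), ([3,1],[1,3,4,5,6,7,9,12,14,15]), ([3,2],[2,3,4,5,6,9,10,11,12,15]), ([4,1],[1,4,8,11,12,14,15]), ([4,2],[2,4,8,9,11,13,14]), ([4,3],[3,4,8,15]), ([4,4],[12,13,14]),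 ([5,0],[0,5,7,9,15]), ([5,2],[2,5,12,14,15])]),
    ([[1,2,3,4,8,9,11,13,15,16], [1,2,7,11,12,14,16], [1,2,3,4,6,10,11,12,13,14,16], [2,4,5,6,7,8,13], [2,7,8,9,10,11,12,14], [2,6,7,9,12,14,16], [2,4,5,7,8,10,11,13,15], [4,5,6,8,9,10,11,12,13,14,15,16], [6,8,9,10,11,13,14,15], [14], [9], [15], [16]], [[0,1,2,3,5,8,11,13,14,16], [2,4,7,9,12,13,14], [0,1,3,4,6,7,8,11,12,14], [4,5,9,11,12,13,14,16], [8,9,13,14,15,16], [8,9,11,12,14,15], [2,6,7,8,9,13,15], [2,6,7,8,12,15,16], [13], [2,6,7,8,14,16], [2,6,7,8,15], [15], [16]], [([0,0],[4,5,8,11,12]), ([1,1],[7,8,10]), ([2,0],[0,2,4,5,8,11,12]), ([2,1],[1,2,7,10,11,12]), ([2,2],[]), ([3,0],[0,3,5,6,10,11,12]), ([3,2],[2,3,5,6,10,11,12]), ([3,3],[]), ([4,0],[0,4,7,10,11,12]), ([4,1],[1,4,7,8,9,12]), ([4,2],[2,4,7,10,11,12]), ([5,0],[0,5,7,9,11]), ([6,0],[0,6,7,9,11]), ([6,1],[1,6,7,8,9,12])])]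
  delta := [[], [], [], [], [], [(17,1), (18,1), (34,1), (51,1), (52,1), (54,1), (68,1), (69,1)], [(0,1), (17,1), (18,1), (34,1), (35,1), (36,1), (52,1), (54,1)], [(0,1), (18,1), (51,1), (53,1), (69,1)], [(17,1), (34,1), (35,1), (36,1), (51,1), (52,1), (54,1), (68,1), (69,1)], [(18,1)], [(34,1), (35,1), (36,1), (51,1), (54,1), (68,1), (69,1)], [(0,1), (17,1), (18,1), (35,1), (51,1), (53,1), (68,1)], [(17,1), (34,1), (35,1), (52,1), (53,1), (54,1)], [(0,1), (17,1), (34,1), (36,1), (54,1), (68,1)], [(17,1), (18,1), (35,1), (54,1), (69,1)], [(18,1), (34,1), (51,1), (52,1), (53,1), (54,1), (69,1)], [(35,1), (36,1), (51,1), (52,1), (53,1), (68,1)]]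
  sels := [[[]],
    [[], []],
    [[], [], []],
    [[], [], [], []],
    [[], [], [(1,1), (3,1), (4,1), (5,1), (6,1), (8,1), (9,1), (13,1), (14,1), (15,1), (16,1), (17,1), (19,1), (20,1), (22,1), (23,1), (26,1), (29,1), (32,1), (34,1), (35,1), (37,1), (42,1), (45,1), (48,1), (50,1), (51,1), (52,1), (56,1), (60,1), (61,1), (62,1), (65,1), (67,1), (68,1), (69,1), (74,1), (79,1), (82,1), (83,1), (84,1), (86,1), (87,1), (89,1), (91,1), (92,1), (94,1), (95,1), (100,1), (102,1), (103,1), (109,1), (113,1), (114,1), (116,1), (117,1), (118,1), (121,1), (122,1), (123,1), (125,1), (126,1), (128,1), (131,1), (132,1), (138,1), (139,1), (140,1), (142,1), (143,1), (144,1), (146,1), (149,1), (150,1), (151,1), (154,1)], [(1,1), (5,1), (7,1), (8,1), (10,1), (12,1), (13,1), (14,1), (17,1), (21,1), (23,1), (24,1), (28,1), (29,1), (30,1), (31,1), (33,1), (34,1), (35,1), (36,1), (38,1), (42,1), (43,1), (45,1), (48,1), (49,1), (51,1), (52,1), (55,1),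 (57,1), (60,1), (64,1), (65,1), (67,1), (68,1), (71,1), (72,1), (74,1), (76,1), (77,1), (80,1), (81,1), (85,1), (86,1), (87,1), (89,1), (90,1), (92,1), (94,1), (95,1), (96,1), (97,1), (98,1), (100,1), (101,1), (104,1), (108,1), (121,1), (124,1), (126,1), (129,1), (130,1), (131,1), (137,1), (139,1), (140,1), (141,1), (146,1), (150,1), (152,1), (153,1), (154,1)], [(1,1), (8,1), (11,1), (12,1), (13,1), (14,1), (24,1), (25,1), (26,1), (27,1), (28,1), (29,1), (31,1), (33,1), (46,1), (47,1), (51,1), (53,1), (54,1), (55,1), (57,1), (58,1), (60,1), (61,1), (63,1), (64,1), (69,1), (70,1), (71,1), (73,1), (76,1), (77,1), (79,1), (81,1), (84,1), (89,1), (90,1), (91,1), (92,1), (94,1), (100,1), (101,1), (102,1), (107,1), (108,1), (109,1), (110,1), (112,1), (116,1), (117,1), (118,1), (119,1), (121,1), (122,1), (124,1), (126,1), (129,1), (130,1), (133,1), (135,1), (136,1), (143,1), (147,1), (148,1), (152,1), (153,1), (155,1)]],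
    [[(1,1), (5,1), (8,1), (9,1), (11,1), (13,1), (14,1), (15,1), (18,1), (20,1), (22,1), (23,1), (24,1), (26,1), (27,1), (28,1), (29,1), (31,1), (34,1), (35,1), (36,1), (37,1), (38,1), (41,1), (42,1), (43,1), (45,1), (46,1), (47,1), (48,1), (49,1), (50,1), (51,1), (52,1), (54,1), (55,1), (59,1), (63,1), (65,1), (66,1), (67,1), (69,1), (70,1), (72,1), (76,1), (78,1), (79,1), (80,1), (82,1), (85,1), (88,1), (89,1), (91,1), (92,1), (93,1), (94,1), (96,1), (97,1), (99,1), (100,1), (102,1), (103,1), (105,1), (108,1), (109,1), (110,1), (112,1), (116,1), (117,1), (118,1), (124,1), (127,1), (128,1), (129,1), (131,1), (132,1), (133,1), (134,1), (137,1), (138,1), (140,1), (142,1), (144,1), (145,1), (147,1), (148,1), (152,1)], [(0,1), (1,1), (3,1), (9,1), (10,1), (11,1), (12,1), (15,1), (16,1), (18,1), (19,1), (20,1), (21,1), (22,1), (24,1), (25,1), (27,1), (28,1), (29,1), (30,1), (31,1), (35,1), (38,1), (39,1), (41,1), (42,1), (45,1), (48,1),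 (49,1), (50,1), (52,1), (53,1), (58,1), (59,1), (61,1), (63,1), (64,1), (66,1), (68,1), (69,1), (74,1), (75,1), (76,1), (78,1), (79,1), (81,1), (82,1), (84,1), (85,1), (86,1), (89,1), (91,1), (92,1), (94,1), (95,1), (96,1), (97,1), (98,1), (99,1), (102,1), (105,1), (106,1), (107,1), (108,1), (112,1), (113,1), (116,1), (117,1), (120,1), (124,1), (126,1), (128,1), (131,1), (133,1), (137,1), (139,1), (142,1), (144,1), (146,1)], [(0,1), (1,1), (2,1), (3,1), (5,1), (7,1), (8,1), (12,1), (15,1), (18,1), (23,1), (24,1), (29,1), (31,1), (35,1), (36,1), (39,1), (40,1), (42,1), (44,1), (46,1), (47,1), (48,1), (51,1), (54,1), (57,1), (63,1), (64,1), (66,1), (73,1), (76,1), (77,1), (79,1), (80,1), (82,1), (87,1), (91,1), (94,1), (95,1), (96,1), (97,1), (98,1), (101,1), (107,1), (109,1), (111,1), (112,1), (114,1), (115,1), (121,1), (122,1), (123,1), (132,1), (133,1), (137,1), (138,1), (140,1), (143,1), (149,1), (150,1), (151,1), (154,1)], [(5,1),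 (7,1), (8,1), (9,1), (12,1), (18,1), (20,1), (22,1), (23,1), (24,1), (26,1), (30,1), (31,1), (36,1), (38,1), (39,1), (41,1), (44,1), (46,1), (47,1), (50,1), (51,1), (53,1), (55,1), (56,1), (58,1), (59,1), (62,1), (63,1), (64,1), (65,1), (72,1), (74,1), (75,1), (79,1), (80,1), (82,1), (84,1), (86,1), (88,1), (90,1), (91,1), (92,1), (93,1), (94,1), (98,1), (99,1), (101,1), (108,1), (111,1), (112,1), (113,1), (117,1), (120,1), (129,1), (130,1), (131,1), (137,1), (139,1), (140,1), (141,1), (142,1), (144,1), (146,1), (147,1), (148,1), (149,1), (151,1), (153,1), (154,1), (155,1)], [(0,1), (2,1), (3,1), (5,1), (11,1), (13,1), (15,1), (16,1), (18,1), (19,1), (21,1), (22,1), (23,1), (25,1), (28,1), (31,1), (32,1), (33,1), (34,1), (37,1), (38,1), (44,1), (47,1), (48,1), (49,1), (50,1), (52,1), (53,1), (54,1), (56,1), (58,1), (59,1), (61,1), (62,1), (64,1), (67,1), (69,1), (70,1), (71,1), (75,1), (78,1), (79,1), (81,1), (82,1), (85,1), (86,1),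 (87,1), (89,1), (92,1), (93,1), (95,1), (96,1), (97,1), (98,1), (99,1), (100,1), (103,1), (105,1), (106,1), (107,1), (111,1), (112,1), (113,1), (114,1), (115,1), (116,1), (117,1), (118,1), (119,1), (120,1), (121,1), (122,1), (123,1), (126,1), (131,1), (132,1), (135,1), (136,1), (138,1), (139,1), (141,1), (142,1), (143,1), (144,1), (145,1), (146,1), (149,1), (150,1), (152,1), (153,1), (155,1)], [(0,1), (1,1), (2,1), (3,1), (4,1), (6,1), (8,1), (9,1), (12,1), (13,1), (16,1), (17,1), (19,1), (20,1), (21,1), (25,1), (26,1), (27,1), (30,1), (33,1), (36,1), (37,1), (38,1), (41,1), (42,1), (43,1), (44,1), (45,1), (47,1), (48,1), (50,1), (58,1), (62,1), (63,1), (66,1), (70,1), (73,1), (74,1), (76,1), (77,1), (79,1), (80,1), (82,1), (83,1), (86,1), (90,1), (91,1), (93,1), (95,1), (96,1), (97,1), (100,1), (101,1), (102,1), (103,1), (107,1), (108,1), (111,1), (114,1), (117,1), (119,1), (121,1), (122,1), (123,1), (124,1), (125,1), (129,1), (130,1),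 (131,1), (132,1), (133,1), (138,1), (139,1), (141,1), (145,1), (147,1), (148,1), (152,1)]],
    [[(0,1), (4,1), (5,1), (6,1), (7,1), (8,1), (9,1), (10,1), (11,1), (12,1), (18,1), (20,1), (21,1), (23,1), (24,1), (26,1), (28,1), (32,1), (35,1), (36,1), (38,1), (42,1), (44,1), (46,1), (48,1), (49,1), (52,1), (53,1), (54,1), (56,1), (57,1), (60,1), (62,1), (63,1), (64,1), (65,1), (67,1), (68,1), (70,1), (71,1), (74,1), (76,1), (77,1), (79,1), (80,1), (81,1), (84,1), (85,1), (86,1), (88,1), (89,1), (96,1), (97,1), (98,1), (99,1), (100,1), (101,1), (102,1), (103,1), (104,1), (106,1), (107,1), (113,1), (114,1), (118,1), (119,1), (120,1), (121,1), (123,1), (124,1), (125,1), (126,1), (127,1), (128,1), (129,1), (132,1), (134,1), (135,1), (136,1), (138,1), (139,1), (141,1), (142,1), (144,1), (147,1), (148,1), (150,1), (152,1), (153,1), (154,1)], [(1,1), (4,1), (5,1), (7,1), (10,1), (12,1), (15,1), (18,1), (19,1), (21,1), (25,1), (27,1), (28,1),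 (29,1), (30,1), (31,1), (34,1), (35,1), (37,1), (38,1), (39,1), (41,1), (48,1), (51,1), (54,1), (57,1), (60,1), (61,1), (62,1), (63,1), (64,1), (73,1), (74,1), (75,1), (76,1), (79,1), (80,1), (84,1), (85,1), (87,1), (91,1), (92,1), (93,1), (95,1), (96,1), (100,1), (101,1), (102,1), (104,1), (110,1), (111,1), (112,1), (113,1), (114,1), (116,1), (117,1), (118,1), (119,1), (123,1), (127,1), (128,1), (129,1), (131,1), (132,1), (133,1), (134,1), (137,1), (138,1), (140,1), (145,1), (146,1), (152,1)], [(3,1), (5,1), (6,1), (7,1), (9,1), (10,1), (15,1), (16,1), (17,1), (19,1), (21,1), (23,1), (24,1), (26,1), (29,1), (31,1), (32,1), (33,1), (34,1), (38,1), (40,1), (43,1), (44,1), (47,1), (51,1), (54,1), (55,1), (56,1), (57,1), (59,1), (61,1), (63,1), (64,1), (65,1), (67,1), (68,1), (70,1), (71,1), (75,1), (78,1), (80,1), (81,1), (83,1), (84,1), (85,1), (87,1), (88,1), (89,1), (90,1), (91,1), (98,1), (103,1), (104,1), (106,1), (108,1), (110,1),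 (111,1), (113,1), (115,1), (116,1), (117,1), (119,1), (121,1), (124,1), (125,1), (126,1), (131,1), (132,1), (135,1), (136,1), (138,1), (139,1), (141,1), (142,1), (143,1), (144,1), (145,1), (147,1), (148,1), (154,1), (155,1)], [(2,1), (3,1), (4,1), (5,1), (7,1), (8,1), (10,1), (13,1), (14,1), (15,1), (16,1), (18,1), (22,1), (28,1), (29,1), (35,1), (36,1), (39,1), (42,1), (43,1), (45,1), (46,1), (47,1), (50,1), (53,1), (60,1), (62,1), (64,1), (66,1), (68,1), (71,1), (74,1), (78,1), (81,1), (82,1), (85,1), (87,1), (88,1), (89,1), (90,1), (92,1), (93,1), (96,1), (97,1), (98,1), (99,1), (100,1), (101,1), (102,1), (104,1), (105,1), (106,1), (107,1), (108,1), (109,1), (110,1), (111,1), (114,1), (115,1), (120,1), (121,1), (122,1), (123,1), (129,1), (130,1), (132,1), (135,1), (136,1), (137,1), (138,1), (140,1), (142,1), (143,1), (144,1), (146,1), (149,1), (150,1), (151,1), (153,1)], [(5,1), (8,1), (13,1), (15,1), (17,1), (18,1), (19,1), (20,1),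 (21,1), (22,1), (23,1), (24,1), (25,1), (27,1), (28,1), (29,1), (32,1), (38,1), (40,1), (42,1), (45,1), (47,1), (48,1), (50,1), (51,1), (54,1), (55,1), (56,1), (58,1), (59,1), (61,1), (62,1), (65,1), (67,1), (69,1), (71,1), (72,1), (77,1), (78,1), (79,1), (84,1), (86,1), (88,1), (90,1), (91,1), (92,1), (95,1), (99,1), (101,1), (103,1), (105,1), (106,1), (109,1), (110,1), (111,1), (112,1), (116,1), (118,1), (119,1), (121,1), (124,1), (125,1), (126,1), (127,1), (128,1), (130,1), (131,1), (132,1), (134,1), (135,1), (136,1), (137,1), (138,1), (140,1), (142,1), (144,1), (145,1), (149,1), (150,1)], [(1,1), (3,1), (4,1), (5,1), (6,1), (7,1), (8,1), (9,1), (12,1), (13,1), (15,1), (16,1), (18,1), (21,1), (25,1), (27,1), (28,1), (29,1), (30,1), (31,1), (33,1), (35,1), (36,1), (38,1), (39,1), (42,1), (43,1), (45,1), (47,1), (48,1), (51,1), (52,1), (53,1), (57,1), (60,1), (61,1), (63,1), (65,1), (67,1), (68,1), (69,1), (72,1), (74,1), (75,1),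 (77,1), (78,1), (80,1), (81,1), (82,1), (83,1), (87,1), (89,1), (91,1), (92,1), (93,1), (97,1), (98,1), (99,1), (100,1), (101,1), (102,1), (103,1), (104,1), (107,1), (108,1), (109,1), (110,1), (114,1), (115,1), (116,1), (117,1), (118,1), (119,1), (120,1), (123,1), (125,1), (126,1), (132,1), (133,1), (137,1), (138,1), (140,1), (142,1), (143,1), (144,1), (146,1), (147,1), (148,1), (150,1), (154,1), (155,1)], [(0,1), (1,1), (2,1), (3,1), (4,1), (5,1), (7,1), (9,1), (10,1), (11,1), (12,1), (15,1), (17,1), (21,1), (24,1), (25,1), (27,1), (28,1), (29,1), (36,1), (40,1), (41,1), (45,1), (46,1), (47,1), (50,1), (51,1), (52,1), (53,1), (55,1), (58,1), (59,1), (61,1), (64,1), (66,1), (68,1), (71,1), (73,1), (78,1), (80,1), (83,1), (86,1), (87,1), (89,1), (91,1), (93,1), (94,1), (95,1), (96,1), (100,1), (101,1), (109,1), (110,1), (112,1), (115,1), (116,1), (117,1), (118,1), (119,1), (122,1), (124,1), (126,1), (127,1), (128,1), (130,1), (131,1),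 (132,1), (134,1), (135,1), (136,1), (137,1), (138,1), (140,1), (142,1), (144,1), (145,1), (149,1), (150,1)]],
    [[(0,1), (1,1), (2,1), (3,1), (5,1), (17,1), (18,1), (20,1), (21,1), (23,1), (24,1), (28,1), (29,1), (30,1), (31,1), (36,1), (37,1), (39,1), (43,1), (44,1), (45,1), (47,1), (48,1), (50,1), (51,1), (56,1), (58,1), (59,1), (61,1), (68,1), (69,1), (70,1), (71,1), (72,1), (75,1), (78,1), (79,1), (82,1), (83,1), (84,1), (85,1), (87,1), (88,1), (89,1), (95,1), (97,1), (98,1), (100,1), (104,1), (105,1), (106,1), (109,1), (113,1), (117,1), (119,1), (120,1), (122,1), (124,1), (125,1), (126,1), (129,1), (130,1), (132,1), (135,1), (136,1), (137,1), (138,1), (140,1), (143,1), (146,1), (147,1), (148,1), (151,1), (152,1), (154,1)], [(0,1), (4,1), (5,1), (7,1), (11,1), (12,1), (14,1), (15,1), (17,1), (18,1), (19,1), (26,1), (27,1), (29,1), (31,1), (32,1), (34,1), (36,1), (47,1), (50,1), (52,1), (55,1), (60,1), (62,1), (66,1), (67,1),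 (68,1), (70,1), (72,1), (73,1), (74,1), (80,1), (81,1), (82,1), (83,1), (84,1), (87,1), (89,1), (90,1), (95,1), (96,1), (97,1), (98,1), (99,1), (104,1), (105,1), (106,1), (111,1), (112,1), (114,1), (115,1), (116,1), (118,1), (119,1), (123,1), (124,1), (125,1), (127,1), (128,1), (130,1), (132,1), (133,1), (134,1), (138,1), (139,1), (141,1), (146,1), (147,1), (148,1), (149,1), (151,1), (155,1)], [(3,1), (8,1), (15,1), (16,1), (17,1), (19,1), (20,1), (23,1), (24,1), (25,1), (27,1), (29,1), (30,1), (31,1), (32,1), (34,1), (36,1), (37,1), (38,1), (39,1), (40,1), (41,1), (42,1), (43,1), (45,1), (46,1), (47,1), (48,1), (50,1), (53,1), (54,1), (55,1), (58,1), (63,1), (66,1), (67,1), (68,1), (73,1), (74,1), (75,1), (77,1), (78,1), (80,1), (82,1), (83,1), (84,1), (86,1), (87,1), (89,1), (91,1), (92,1), (93,1), (97,1), (99,1), (100,1), (102,1), (105,1), (107,1), (109,1), (113,1), (114,1), (116,1), (117,1), (118,1), (119,1), (120,1), (121,1),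 (123,1), (124,1), (127,1), (130,1), (131,1), (133,1), (134,1), (140,1), (141,1), (142,1), (143,1), (144,1), (147,1), (148,1), (150,1), (153,1), (155,1)], [(0,1), (1,1), (3,1), (5,1), (8,1), (9,1), (10,1), (11,1), (13,1), (16,1), (25,1), (26,1), (27,1), (28,1), (29,1), (30,1), (32,1), (34,1), (35,1), (36,1), (40,1), (44,1), (46,1), (47,1), (48,1), (50,1), (54,1), (57,1), (63,1), (66,1), (68,1), (70,1), (73,1), (76,1), (78,1), (81,1), (82,1), (83,1), (84,1), (85,1), (87,1), (92,1), (95,1), (96,1), (97,1), (100,1), (101,1), (102,1), (103,1), (106,1), (107,1), (109,1), (110,1), (111,1), (112,1), (114,1), (119,1), (120,1), (122,1), (123,1), (127,1), (128,1), (130,1), (134,1), (137,1), (139,1), (140,1), (141,1), (142,1), (143,1), (144,1), (150,1), (151,1), (154,1)], [(3,1), (4,1), (6,1), (7,1), (8,1), (10,1), (11,1), (12,1), (14,1), (16,1), (20,1), (22,1), (23,1), (26,1), (27,1), (28,1), (29,1), (33,1), (35,1), (36,1), (37,1), (38,1), (39,1),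 (40,1), (41,1), (42,1), (43,1), (47,1), (48,1), (50,1), (52,1), (53,1), (55,1), (57,1), (58,1), (59,1), (61,1), (63,1), (67,1), (68,1), (76,1), (77,1), (84,1), (85,1), (86,1), (90,1), (93,1), (94,1), (97,1), (101,1), (102,1), (105,1), (106,1), (107,1), (109,1), (111,1), (112,1), (113,1), (115,1), (116,1), (118,1), (120,1), (122,1), (124,1), (126,1), (128,1), (129,1), (130,1), (131,1), (135,1), (136,1), (137,1), (139,1), (142,1), (144,1), (146,1), (147,1), (148,1), (149,1), (150,1), (151,1), (152,1), (153,1), (154,1), (155,1)], [(0,1), (1,1), (2,1), (3,1), (5,1), (8,1), (9,1), (10,1), (11,1), (12,1), (13,1), (14,1), (15,1), (17,1), (21,1), (23,1), (24,1), (29,1), (32,1), (33,1), (34,1), (35,1), (38,1), (41,1), (46,1), (47,1), (49,1), (50,1), (52,1), (54,1), (55,1), (58,1), (59,1), (60,1), (61,1), (62,1), (63,1), (64,1), (66,1), (67,1), (68,1), (71,1), (73,1), (74,1), (75,1), (77,1), (78,1), (80,1), (81,1), (82,1), (84,1), (85,1), (87,1),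 (88,1), (89,1), (90,1), (91,1), (92,1), (95,1), (96,1), (97,1), (100,1), (102,1), (103,1), (104,1), (109,1), (110,1), (117,1), (119,1), (127,1), (128,1), (129,1), (131,1), (134,1), (143,1), (145,1), (146,1), (147,1), (148,1), (151,1), (153,1)], [(1,1), (3,1), (4,1), (5,1), (10,1), (12,1), (13,1), (14,1), (15,1), (16,1), (17,1), (18,1), (19,1), (20,1), (21,1), (22,1), (24,1), (26,1), (28,1), (29,1), (31,1), (34,1), (35,1), (36,1), (39,1), (41,1), (43,1), (44,1), (46,1), (49,1), (50,1), (51,1), (54,1), (56,1), (58,1), (59,1), (60,1), (63,1), (64,1), (67,1), (69,1), (70,1), (71,1), (72,1), (76,1), (79,1), (80,1), (81,1), (82,1), (84,1), (87,1), (89,1), (91,1), (93,1), (100,1), (101,1), (105,1), (106,1), (107,1), (110,1), (111,1), (114,1), (116,1), (118,1), (122,1), (123,1), (124,1), (125,1), (126,1), (129,1), (130,1), (131,1), (137,1), (139,1), (140,1), (141,1), (142,1), (144,1), (145,1), (146,1), (147,1), (148,1), (150,1), (151,1),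 (155,1)], [(0,1), (1,1), (3,1), (5,1), (6,1), (7,1), (8,1), (10,1), (11,1), (15,1), (20,1), (21,1), (22,1), (23,1), (24,1), (26,1), (27,1), (29,1), (32,1), (33,1), (34,1), (35,1), (38,1), (39,1), (40,1), (41,1), (43,1), (45,1), (48,1), (49,1), (54,1), (56,1), (58,1), (60,1), (64,1), (65,1), (67,1), (69,1), (72,1), (74,1), (76,1), (77,1), (78,1), (80,1), (81,1), (85,1), (86,1), (87,1), (89,1), (90,1), (95,1), (98,1), (99,1), (102,1), (103,1), (104,1), (112,1), (114,1), (115,1), (117,1), (120,1), (122,1), (125,1), (126,1), (127,1), (129,1), (131,1), (132,1), (133,1), (134,1), (135,1), (136,1), (137,1), (138,1), (141,1), (146,1), (151,1), (155,1)]],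
    [[(0,1), (5,1), (6,1), (7,1), (8,1), (9,1), (12,1), (13,1), (14,1), (15,1), (16,1), (17,1), (20,1), (21,1), (23,1), (25,1), (27,1), (28,1), (31,1), (32,1), (34,1), (36,1), (37,1), (38,1), (39,1), (40,1), (43,1), (46,1), (48,1), (49,1), (50,1), (52,1), (53,1), (54,1), (56,1), (58,1), (63,1), (64,1), (65,1), (66,1), (67,1), (68,1), (70,1), (71,1), (72,1), (74,1), (76,1), (81,1), (85,1), (88,1), (93,1), (94,1), (98,1), (100,1), (101,1), (103,1), (104,1), (105,1), (106,1), (107,1), (109,1), (110,1), (111,1), (124,1), (128,1), (129,1), (130,1), (133,1), (140,1), (141,1), (145,1), (146,1), (147,1), (148,1), (151,1), (152,1), (153,1), (154,1), (155,1)], [(3,1), (4,1), (6,1), (8,1), (12,1), (16,1), (18,1), (19,1), (20,1), (21,1), (22,1), (25,1), (26,1), (27,1), (30,1), (31,1), (33,1), (34,1), (35,1), (37,1), (39,1), (40,1), (42,1), (44,1), (45,1), (46,1), (47,1), (48,1), (49,1), (53,1), (54,1), (55,1), (56,1), (57,1), (58,1), (59,1),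 (62,1), (64,1), (68,1), (70,1), (71,1), (73,1), (76,1), (77,1), (78,1), (80,1), (83,1), (84,1), (87,1), (88,1), (90,1), (91,1), (96,1), (97,1), (98,1), (99,1), (100,1), (101,1), (102,1), (103,1), (106,1), (107,1), (108,1), (111,1), (112,1), (114,1), (115,1), (121,1), (123,1), (128,1), (131,1), (132,1), (138,1), (139,1), (140,1), (143,1), (146,1), (147,1), (148,1), (150,1), (153,1), (155,1)], [(0,1), (5,1), (6,1), (7,1), (10,1), (11,1), (12,1), (14,1), (19,1), (20,1), (21,1), (22,1), (25,1), (26,1), (28,1), (30,1), (31,1), (32,1), (33,1), (35,1), (38,1), (43,1), (47,1), (50,1), (53,1), (54,1), (58,1), (59,1), (60,1), (61,1), (63,1), (64,1), (66,1), (68,1), (71,1), (72,1), (74,1), (76,1), (78,1), (79,1), (82,1), (83,1), (84,1), (85,1), (86,1), (88,1), (89,1), (92,1), (94,1), (96,1), (98,1), (100,1), (104,1), (106,1), (108,1), (111,1), (113,1), (114,1), (115,1), (120,1), (121,1), (122,1), (123,1), (124,1), (127,1), (128,1), (130,1),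 (131,1), (132,1), (134,1), (135,1), (136,1), (137,1), (138,1), (140,1), (145,1), (152,1), (153,1), (154,1)], [(0,1), (1,1), (2,1), (4,1), (8,1), (14,1), (15,1), (16,1), (18,1), (20,1), (24,1), (25,1), (26,1), (29,1), (30,1), (35,1), (36,1), (37,1), (42,1), (43,1), (44,1), (49,1), (51,1), (53,1), (55,1), (56,1), (57,1), (58,1), (65,1), (67,1), (69,1), (71,1), (72,1), (74,1), (75,1), (78,1), (80,1), (81,1), (84,1), (85,1), (86,1), (88,1), (89,1), (90,1), (93,1), (94,1), (95,1), (96,1), (97,1), (100,1), (101,1), (102,1), (104,1), (107,1), (108,1), (110,1), (112,1), (114,1), (117,1), (122,1), (123,1), (124,1), (129,1), (130,1), (131,1), (132,1), (133,1), (138,1), (139,1), (141,1), (143,1), (145,1), (150,1), (151,1), (152,1), (154,1)], [(1,1), (2,1), (3,1), (4,1), (5,1), (6,1), (13,1), (18,1), (20,1), (21,1), (23,1), (24,1), (26,1), (30,1), (31,1), (32,1), (33,1), (34,1), (35,1), (36,1), (40,1), (43,1), (45,1), (46,1), (47,1), (48,1),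 (49,1), (51,1), (52,1), (56,1), (59,1), (60,1), (62,1), (63,1), (64,1), (65,1), (67,1), (69,1), (70,1), (72,1), (74,1), (76,1), (78,1), (80,1), (84,1), (85,1), (86,1), (88,1), (89,1), (90,1), (91,1), (92,1), (93,1), (95,1), (96,1), (99,1), (100,1), (101,1), (106,1), (107,1), (108,1), (109,1), (111,1), (115,1), (116,1), (117,1), (118,1), (123,1), (126,1), (127,1), (128,1), (130,1), (131,1), (132,1), (134,1), (135,1), (136,1), (137,1), (138,1), (140,1), (145,1), (152,1), (153,1), (154,1)], [(0,1), (4,1), (8,1), (9,1), (10,1), (11,1), (12,1), (14,1), (15,1), (16,1), (17,1), (18,1), (19,1), (26,1), (27,1), (28,1), (30,1), (32,1), (34,1), (35,1), (39,1), (44,1), (45,1), (47,1), (49,1), (58,1), (59,1), (61,1), (62,1), (63,1), (64,1), (65,1), (66,1), (68,1), (69,1), (70,1), (71,1), (73,1), (74,1), (77,1), (79,1), (80,1), (83,1), (88,1), (89,1), (91,1), (93,1), (95,1), (96,1), (99,1), (101,1), (103,1), (105,1), (106,1), (107,1), (109,1),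 (111,1), (112,1), (115,1), (116,1), (120,1), (124,1), (125,1), (127,1), (128,1), (130,1), (131,1), (132,1), (134,1), (135,1), (136,1), (137,1), (138,1), (140,1), (145,1), (152,1), (153,1), (154,1)], [(1,1), (2,1), (3,1), (8,1), (15,1), (18,1), (19,1), (21,1), (22,1), (26,1), (28,1), (30,1), (33,1), (34,1), (36,1), (37,1), (39,1), (40,1), (47,1), (49,1), (50,1), (51,1), (55,1), (63,1), (64,1), (65,1), (67,1), (69,1), (70,1), (71,1), (72,1), (78,1), (79,1), (81,1), (82,1), (83,1), (85,1), (86,1), (88,1), (92,1), (96,1), (97,1), (99,1), (100,1), (103,1), (104,1), (105,1), (108,1), (110,1), (111,1), (113,1), (115,1), (120,1), (122,1), (123,1), (125,1), (126,1), (127,1), (128,1), (130,1), (131,1), (132,1), (134,1), (135,1), (136,1), (137,1), (138,1), (140,1), (145,1), (152,1), (153,1), (154,1)], [(3,1), (4,1), (7,1), (8,1), (14,1), (17,1), (19,1), (20,1), (23,1), (24,1), (25,1), (28,1), (29,1), (34,1), (37,1), (39,1), (43,1), (45,1), (46,1),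 (47,1), (48,1), (49,1), (50,1), (51,1), (52,1), (54,1), (55,1), (58,1), (59,1), (64,1), (69,1), (70,1), (73,1), (75,1), (76,1), (78,1), (80,1), (81,1), (82,1), (84,1), (86,1), (88,1), (89,1), (90,1), (91,1), (94,1), (98,1), (99,1), (100,1), (104,1), (105,1), (106,1), (107,1), (109,1), (111,1), (113,1), (117,1), (119,1), (125,1)], [(3,1), (7,1), (8,1), (13,1), (14,1), (16,1), (17,1), (18,1), (19,1), (20,1), (21,1), (22,1), (23,1), (24,1), (25,1), (30,1), (32,1), (37,1), (38,1), (41,1), (43,1), (44,1), (46,1), (48,1), (55,1), (56,1), (62,1), (63,1), (65,1), (67,1), (70,1), (71,1), (73,1), (74,1), (78,1), (79,1), (81,1), (84,1), (86,1), (92,1), (93,1), (96,1), (98,1), (100,1), (105,1), (108,1), (109,1), (110,1), (116,1), (117,1), (118,1), (119,1), (121,1), (124,1), (125,1), (126,1)]],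
    [[(0,1), (1,1), (2,1), (4,1), (7,1), (8,1), (9,1), (11,1), (16,1), (19,1), (20,1), (22,1), (23,1), (26,1), (28,1), (30,1), (31,1), (32,1), (34,1), (36,1), (42,1), (44,1), (45,1), (46,1), (49,1), (50,1), (51,1), (53,1), (54,1), (55,1), (57,1), (58,1), (62,1), (63,1), (65,1), (66,1), (68,1), (75,1), (82,1), (83,1), (85,1), (86,1), (89,1), (91,1), (92,1), (94,1), (98,1), (99,1), (100,1), (101,1), (102,1), (105,1), (106,1), (107,1), (108,1), (109,1), (110,1), (112,1), (120,1), (123,1), (124,1), (125,1), (128,1), (129,1), (130,1), (133,1), (140,1), (141,1), (142,1), (144,1), (145,1), (146,1), (147,1), (148,1), (149,1), (151,1), (152,1), (155,1)], [(3,1)], [(0,1), (3,1), (4,1), (6,1), (8,1), (12,1), (13,1), (15,1), (16,1), (17,1), (19,1), (21,1), (22,1), (23,1), (27,1), (28,1), (30,1), (31,1), (34,1), (35,1), (38,1), (42,1), (43,1), (47,1), (48,1), (50,1), (51,1), (54,1), (55,1), (56,1), (58,1), (59,1), (60,1), (63,1), (66,1), (68,1),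 (69,1), (71,1), (73,1), (75,1), (77,1), (84,1), (85,1), (86,1), (87,1), (88,1), (89,1), (92,1), (100,1), (102,1), (105,1), (106,1), (111,1), (112,1), (113,1), (114,1), (115,1), (116,1), (117,1), (121,1), (123,1), (124,1), (125,1), (126,1), (142,1), (144,1), (146,1), (147,1), (148,1), (149,1)], [(1,1), (3,1), (7,1), (15,1), (18,1), (19,1), (24,1), (26,1), (27,1), (29,1), (30,1), (32,1), (34,1), (35,1), (38,1), (40,1), (43,1), (44,1), (45,1), (46,1), (48,1), (52,1), (53,1), (55,1), (56,1), (57,1), (59,1), (64,1), (65,1), (66,1), (68,1), (69,1), (70,1), (72,1), (74,1), (78,1), (79,1), (85,1), (86,1), (87,1), (91,1), (92,1), (93,1), (94,1), (95,1), (100,1), (101,1), (104,1), (106,1), (108,1), (109,1), (112,1), (113,1), (115,1), (116,1), (117,1), (122,1), (123,1), (124,1), (125,1), (129,1), (130,1), (131,1), (137,1), (139,1), (140,1), (141,1), (142,1), (144,1), (145,1), (150,1), (151,1), (153,1), (154,1), (155,1)], [(1,1), (4,1), (5,1),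 (6,1), (7,1), (8,1), (9,1), (16,1), (18,1), (20,1), (22,1), (23,1), (27,1), (29,1), (31,1), (37,1), (38,1), (41,1), (42,1), (44,1), (45,1), (46,1), (49,1), (51,1), (53,1), (57,1), (59,1), (60,1), (61,1), (62,1), (66,1), (68,1), (70,1), (71,1), (73,1), (74,1), (76,1), (80,1), (82,1), (84,1), (86,1), (87,1), (89,1), (90,1), (92,1), (96,1), (97,1), (98,1), (101,1), (103,1), (105,1), (107,1), (109,1), (111,1), (114,1), (115,1), (118,1), (120,1), (121,1), (125,1), (126,1), (129,1), (130,1), (131,1), (137,1), (139,1), (140,1), (141,1), (145,1), (146,1), (147,1), (148,1), (149,1), (150,1), (151,1), (153,1), (154,1), (155,1)], [(0,1), (2,1), (3,1), (4,1), (5,1), (6,1), (8,1), (9,1), (10,1), (11,1), (12,1), (14,1), (18,1), (19,1), (20,1), (22,1), (23,1), (24,1), (30,1), (34,1), (35,1), (36,1), (37,1), (38,1), (40,1), (41,1), (42,1), (47,1), (48,1), (49,1), (51,1), (52,1), (53,1), (54,1), (58,1), (59,1), (61,1), (62,1), (64,1), (65,1), (66,1),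 (67,1), (68,1), (70,1), (72,1), (74,1), (75,1), (76,1), (78,1), (79,1), (80,1), (82,1), (84,1), (85,1), (88,1), (89,1), (91,1), (92,1), (96,1), (101,1), (102,1), (103,1), (104,1), (107,1), (108,1), (110,1), (111,1), (115,1), (116,1), (118,1), (120,1), (121,1), (122,1), (123,1), (124,1), (126,1), (129,1), (130,1), (131,1), (137,1), (139,1), (140,1), (141,1), (145,1), (146,1), (147,1), (148,1), (149,1), (150,1), (151,1), (153,1), (154,1), (155,1)], [(3,1), (7,1), (9,1), (10,1), (11,1), (13,1), (16,1), (17,1), (18,1), (19,1), (25,1), (26,1), (27,1), (29,1), (30,1), (31,1), (33,1), (35,1), (36,1), (37,1), (38,1), (39,1), (44,1), (46,1), (47,1), (48,1), (49,1), (50,1), (53,1), (54,1), (56,1), (57,1), (62,1), (64,1), (65,1), (67,1), (68,1), (70,1), (71,1), (73,1), (75,1), (79,1), (81,1), (83,1), (84,1), (86,1), (87,1), (89,1), (90,1), (91,1), (93,1), (97,1), (101,1), (102,1), (103,1), (104,1), (109,1), (111,1), (112,1), (113,1), (116,1),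 (119,1), (120,1), (121,1), (123,1), (124,1), (125,1)], [(0,1), (3,1), (6,1), (7,1), (9,1), (10,1), (11,1), (12,1), (14,1), (15,1), (17,1), (18,1), (19,1), (20,1), (22,1), (23,1), (26,1), (29,1), (31,1), (32,1), (33,1), (34,1), (42,1), (50,1), (51,1), (53,1), (54,1), (58,1), (62,1), (64,1), (65,1), (68,1), (69,1), (71,1), (73,1), (74,1), (75,1), (76,1), (77,1), (79,1), (80,1), (81,1), (82,1), (83,1), (85,1), (88,1), (90,1), (96,1), (97,1), (98,1), (99,1), (100,1), (101,1), (102,1), (104,1), (105,1), (107,1), (108,1), (111,1), (112,1), (113,1), (115,1), (117,1), (119,1), (120,1), (124,1), (125,1), (126,1)], [(4,1), (13,1), (16,1), (17,1), (19,1), (22,1), (23,1), (26,1), (29,1), (30,1), (35,1), (38,1), (39,1), (40,1), (44,1), (46,1), (48,1), (53,1), (55,1), (58,1), (61,1), (64,1), (68,1), (69,1), (71,1), (72,1), (73,1), (78,1), (79,1), (80,1), (81,1), (83,1), (86,1), (89,1), (91,1), (92,1), (93,1), (95,1), (97,1), (98,1), (99,1), (100,1),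 (101,1), (102,1), (106,1), (109,1), (112,1), (113,1), (114,1), (115,1), (116,1), (117,1), (118,1), (119,1), (120,1), (122,1), (123,1), (124,1), (125,1), (126,1)], [(0,1), (1,1), (2,1), (3,1), (5,1), (6,1), (7,1), (9,1), (10,1), (11,1), (12,1), (15,1), (18,1), (20,1), (23,1), (25,1), (27,1), (31,1), (32,1), (35,1), (36,1), (37,1), (43,1), (45,1), (46,1), (48,1), (50,1), (53,1), (55,1), (57,1), (58,1), (64,1), (69,1), (71,1), (73,1), (84,1), (88,1), (89,1), (94,1), (104,1), (107,1), (109,1), (113,1), (121,1), (122,1), (123,1), (124,1), (126,1)]],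
    [[(5,1), (6,1), (8,1), (9,1), (11,1), (17,1), (21,1), (23,1), (25,1), (29,1), (32,1), (33,1), (35,1), (36,1), (38,1), (39,1), (41,1), (45,1), (48,1), (49,1), (50,1), (52,1), (53,1), (54,1), (57,1), (58,1), (59,1), (64,1), (65,1), (68,1), (70,1), (72,1), (75,1), (77,1), (79,1), (81,1), (84,1), (86,1), (87,1), (88,1), (91,1), (92,1), (93,1), (94,1), (95,1), (97,1), (99,1), (100,1), (101,1), (102,1), (103,1), (107,1), (111,1), (115,1), (118,1), (120,1), (121,1), (122,1), (124,1), (127,1), (129,1), (131,1), (132,1), (133,1), (134,1), (135,1), (136,1), (137,1), (138,1), (141,1), (142,1), (144,1), (146,1), (147,1), (148,1), (149,1), (151,1), (153,1), (154,1), (155,1)], [(1,1), (2,1), (3,1), (5,1), (7,1), (8,1), (10,1), (11,1), (12,1), (13,1), (14,1), (18,1), (19,1), (20,1), (22,1), (23,1), (25,1), (29,1), (30,1), (31,1), (32,1), (36,1), (38,1), (39,1), (42,1), (44,1), (45,1), (46,1), (51,1), (52,1), (54,1), (57,1), (58,1), (60,1), (61,1),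 (64,1), (65,1), (70,1), (71,1), (74,1), (76,1), (83,1), (86,1), (88,1), (90,1), (92,1), (95,1), (96,1), (99,1), (102,1), (104,1), (110,1), (113,1), (114,1), (115,1), (116,1), (117,1), (118,1), (132,1), (133,1), (137,1), (138,1), (140,1), (143,1), (149,1), (152,1), (154,1), (155,1)], [(3,1), (4,1), (6,1), (7,1), (8,1), (10,1), (11,1), (13,1), (14,1), (17,1), (18,1), (19,1), (20,1), (23,1), (25,1), (26,1), (28,1), (29,1), (30,1), (31,1), (35,1), (36,1), (39,1), (43,1), (45,1), (46,1), (47,1), (48,1), (50,1), (52,1), (55,1), (56,1), (57,1), (60,1), (63,1), (64,1), (65,1), (68,1), (70,1), (71,1), (72,1), (74,1), (75,1), (77,1), (79,1), (81,1), (84,1), (87,1), (88,1), (92,1), (93,1), (95,1), (96,1), (97,1), (99,1), (100,1), (101,1), (103,1), (105,1), (109,1), (110,1), (114,1), (117,1), (118,1), (121,1), (123,1), (126,1), (129,1), (130,1), (133,1), (135,1), (136,1), (147,1), (148,1), (149,1), (151,1), (153,1), (154,1), (155,1)], [(1,1),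 (4,1), (6,1), (7,1), (9,1), (10,1), (11,1), (13,1), (14,1), (15,1), (17,1), (19,1), (21,1), (22,1), (24,1), (26,1), (27,1), (29,1), (30,1), (31,1), (33,1), (34,1), (36,1), (37,1), (38,1), (40,1), (41,1), (43,1), (44,1), (47,1), (48,1), (50,1), (51,1), (52,1), (55,1), (59,1), (60,1), (62,1), (63,1), (65,1), (66,1), (67,1), (70,1), (79,1), (83,1), (84,1), (90,1), (91,1), (92,1), (94,1), (97,1), (98,1), (101,1), (103,1), (104,1), (105,1), (109,1), (110,1), (112,1), (115,1), (118,1), (119,1), (120,1), (121,1), (122,1), (125,1), (127,1), (128,1), (129,1), (132,1), (134,1), (135,1), (136,1), (138,1), (139,1), (141,1), (142,1), (144,1), (150,1), (151,1), (152,1), (155,1)], [(5,1), (6,1), (7,1), (12,1), (13,1), (16,1), (18,1), (19,1), (21,1), (22,1), (24,1), (26,1), (29,1), (31,1), (32,1), (35,1), (36,1), (43,1), (45,1), (47,1), (48,1), (49,1), (54,1), (55,1), (58,1), (59,1), (60,1), (61,1), (63,1), (64,1), (66,1), (67,1), (70,1), (71,1),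 (72,1), (74,1), (76,1), (80,1), (81,1), (82,1), (84,1), (85,1), (90,1), (93,1), (96,1), (99,1), (100,1), (102,1), (104,1), (108,1), (109,1), (110,1), (111,1), (112,1), (113,1), (117,1), (118,1), (119,1), (120,1), (121,1), (123,1), (125,1), (126,1), (127,1), (128,1), (130,1), (134,1), (137,1), (139,1), (140,1), (141,1), (142,1), (143,1), (144,1), (147,1), (148,1), (150,1), (153,1), (155,1)], [(0,1), (2,1), (3,1), (4,1), (6,1), (10,1), (11,1), (12,1), (13,1), (15,1), (18,1), (19,1), (21,1), (22,1), (23,1), (25,1), (26,1), (29,1), (33,1), (34,1), (35,1), (37,1), (39,1), (40,1), (43,1), (44,1), (49,1), (51,1), (52,1), (54,1), (56,1), (57,1), (59,1), (60,1), (62,1), (66,1), (67,1), (68,1), (71,1), (73,1), (75,1), (77,1), (78,1), (81,1), (82,1), (85,1), (86,1), (88,1), (90,1), (91,1), (93,1), (94,1), (96,1), (97,1), (98,1), (99,1), (102,1), (103,1), (105,1), (106,1), (108,1), (110,1), (113,1), (116,1), (118,1), (119,1), (120,1), (122,1),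 (123,1), (124,1), (126,1), (131,1), (133,1), (135,1), (136,1), (137,1), (139,1), (140,1), (141,1), (145,1), (147,1), (148,1), (150,1), (153,1), (154,1)], [(0,1), (1,1), (2,1), (3,1), (4,1), (11,1), (15,1), (16,1), (17,1), (21,1), (22,1), (23,1), (25,1), (27,1), (28,1), (31,1), (32,1), (33,1), (34,1), (36,1), (37,1), (39,1), (40,1), (41,1), (47,1), (49,1), (51,1), (54,1), (55,1), (56,1), (58,1), (62,1), (63,1), (65,1), (67,1), (69,1), (70,1), (71,1), (72,1), (73,1), (75,1), (77,1), (78,1), (81,1), (85,1), (87,1), (88,1), (90,1), (91,1), (92,1), (96,1), (97,1), (99,1), (102,1), (105,1), (107,1), (109,1), (118,1), (123,1), (124,1), (125,1), (126,1), (127,1), (128,1), (130,1), (131,1), (132,1), (134,1), (135,1), (136,1), (137,1), (138,1), (140,1), (142,1), (144,1), (145,1), (149,1), (152,1)], [(0,1), (2,1), (4,1), (5,1), (6,1), (7,1), (10,1), (12,1), (17,1), (19,1), (20,1), (22,1), (26,1), (28,1), (32,1), (35,1), (38,1), (39,1), (42,1),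 (44,1), (45,1), (46,1), (47,1), (48,1), (52,1), (55,1), (56,1), (60,1), (63,1), (64,1), (65,1), (69,1), (70,1), (71,1), (72,1), (73,1), (76,1), (77,1), (78,1), (79,1), (80,1), (81,1), (83,1), (84,1), (85,1), (89,1), (92,1), (93,1), (95,1), (96,1), (97,1), (98,1), (106,1), (107,1), (109,1), (110,1), (112,1), (117,1), (120,1), (121,1), (122,1), (123,1), (124,1), (127,1), (128,1), (130,1), (131,1), (133,1), (134,1), (135,1), (136,1), (143,1), (145,1), (149,1), (153,1), (155,1)], [(1,1), (2,1), (3,1), (7,1), (8,1), (13,1), (15,1), (16,1), (17,1), (22,1), (23,1), (24,1), (25,1), (26,1), (27,1), (28,1), (29,1), (30,1), (39,1), (40,1), (41,1), (49,1), (50,1), (51,1), (52,1), (55,1), (58,1), (59,1), (61,1), (64,1), (68,1), (69,1), (74,1), (76,1), (77,1), (78,1), (83,1), (85,1), (92,1), (95,1), (97,1), (98,1), (99,1), (100,1), (101,1), (102,1), (103,1), (104,1), (105,1), (106,1), (107,1), (112,1), (113,1), (114,1), (115,1), (117,1), (121,1),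 (122,1), (123,1), (125,1), (126,1), (127,1), (128,1), (130,1), (131,1), (132,1), (134,1), (135,1), (136,1), (137,1), (138,1), (140,1), (145,1), (152,1), (153,1), (154,1)], [(3,1), (4,1), (9,1), (10,1), (11,1), (13,1), (16,1), (18,1), (25,1), (26,1), (29,1), (33,1), (35,1), (36,1), (37,1), (38,1), (40,1), (42,1), (45,1), (48,1), (51,1), (52,1), (53,1), (54,1), (55,1), (57,1), (59,1), (64,1), (67,1), (68,1), (69,1), (70,1), (71,1), (76,1), (77,1), (78,1), (79,1), (80,1), (82,1), (84,1), (85,1), (86,1), (87,1), (88,1), (90,1), (91,1), (92,1), (93,1), (98,1), (99,1), (101,1), (105,1), (106,1), (108,1), (109,1), (110,1), (112,1), (113,1), (114,1), (117,1), (118,1), (119,1), (120,1)], [(0,1), (1,1), (2,1), (3,1), (6,1), (7,1), (8,1), (11,1), (13,1), (14,1), (15,1), (17,1), (18,1), (19,1), (23,1), (24,1), (25,1), (26,1), (30,1), (31,1), (32,1), (33,1), (34,1), (35,1), (37,1), (38,1), (40,1), (45,1), (46,1), (47,1), (49,1), (51,1), (52,1),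 (54,1), (55,1), (56,1), (58,1), (59,1), (65,1), (68,1), (70,1), (72,1), (75,1), (76,1), (80,1), (81,1), (82,1), (84,1), (85,1), (90,1), (96,1), (97,1), (98,1), (99,1), (101,1), (103,1), (104,1), (106,1), (110,1), (111,1), (113,1), (114,1), (116,1), (122,1), (123,1), (124,1)]],
    [[(0,1), (1,1), (6,1), (7,1), (8,1), (10,1), (12,1), (13,1), (16,1), (18,1), (21,1), (23,1), (25,1), (26,1), (27,1), (28,1), (31,1), (33,1), (35,1), (36,1), (37,1), (39,1), (41,1), (42,1), (45,1), (46,1), (47,1), (49,1), (50,1), (52,1), (53,1), (54,1), (58,1), (59,1), (61,1), (63,1), (66,1), (70,1), (71,1), (73,1), (74,1), (75,1), (76,1), (77,1), (78,1), (81,1), (82,1), (83,1), (85,1), (86,1), (87,1), (89,1), (90,1), (94,1), (96,1), (99,1), (100,1), (106,1), (107,1), (110,1), (111,1), (115,1), (116,1), (118,1), (119,1), (120,1), (123,1), (127,1), (128,1), (130,1), (131,1), (133,1), (134,1), (135,1), (136,1), (143,1), (145,1), (149,1), (153,1), (155,1)],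 [(0,1), (2,1), (4,1), (6,1), (8,1), (9,1), (10,1), (11,1), (13,1), (16,1), (17,1), (22,1), (27,1), (28,1), (29,1), (30,1), (31,1), (33,1), (34,1), (37,1), (38,1), (39,1), (40,1), (42,1), (43,1), (44,1), (46,1), (47,1), (48,1), (49,1), (53,1), (54,1), (56,1), (59,1), (66,1), (70,1), (71,1), (73,1), (74,1), (76,1), (80,1), (81,1), (82,1), (84,1), (85,1), (86,1), (90,1), (93,1), (94,1), (97,1), (98,1), (102,1), (103,1), (104,1), (107,1), (113,1), (114,1), (116,1), (121,1), (122,1), (123,1), (126,1), (127,1), (128,1), (130,1), (131,1), (133,1), (134,1), (135,1), (136,1), (142,1), (143,1), (144,1), (145,1), (154,1), (155,1)], [(1,1), (2,1), (8,1), (9,1), (15,1), (17,1), (20,1), (21,1), (22,1), (23,1), (24,1), (25,1), (27,1), (28,1), (30,1), (31,1), (32,1), (33,1), (35,1), (39,1), (40,1), (41,1), (42,1), (43,1), (44,1), (45,1), (47,1), (51,1), (52,1), (53,1), (56,1), (57,1), (59,1), (60,1), (63,1), (64,1), (67,1), (70,1), (71,1), (72,1),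 (73,1), (75,1), (78,1), (79,1), (80,1), (81,1), (82,1), (85,1), (87,1), (89,1), (90,1), (94,1), (95,1), (97,1), (99,1), (101,1), (102,1), (104,1), (111,1), (112,1), (114,1), (116,1), (118,1), (119,1), (121,1), (122,1), (125,1), (127,1), (128,1), (130,1), (131,1), (132,1), (134,1), (135,1), (136,1), (137,1), (138,1), (140,1), (145,1), (152,1), (153,1), (154,1)], [(0,1), (4,1), (9,1), (11,1), (14,1), (16,1), (22,1), (23,1), (24,1), (25,1), (26,1), (27,1), (28,1), (32,1), (33,1), (36,1), (39,1), (40,1), (42,1), (44,1), (45,1), (46,1), (51,1), (53,1), (54,1), (59,1), (64,1), (65,1), (68,1), (72,1), (73,1), (74,1), (75,1), (76,1), (79,1), (83,1), (86,1), (90,1), (91,1), (94,1), (95,1), (99,1), (100,1), (101,1), (105,1), (106,1), (107,1), (108,1), (113,1), (115,1), (121,1), (122,1), (123,1), (124,1), (126,1), (142,1), (144,1), (149,1), (153,1), (154,1)], [(1,1), (2,1), (4,1), (7,1), (14,1), (15,1), (17,1), (18,1), (23,1), (25,1), (26,1),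 (28,1), (30,1), (31,1), (32,1), (35,1), (37,1), (38,1), (39,1), (41,1), (45,1), (46,1), (47,1), (48,1), (49,1), (50,1), (51,1), (55,1), (56,1), (57,1), (66,1), (68,1), (71,1), (76,1), (78,1), (79,1), (80,1), (82,1), (83,1), (84,1), (85,1), (86,1), (87,1), (88,1), (91,1), (94,1), (95,1), (96,1), (97,1), (98,1), (102,1), (103,1), (104,1), (105,1), (107,1), (108,1), (109,1), (110,1), (112,1), (115,1), (116,1), (117,1), (122,1), (124,1), (125,1), (127,1), (128,1), (130,1), (131,1), (132,1), (134,1), (135,1), (136,1), (137,1), (138,1), (140,1), (145,1), (152,1), (153,1), (154,1)], [(1,1), (2,1), (3,1), (8,1), (9,1), (15,1), (17,1), (22,1), (23,1), (26,1), (27,1), (30,1), (32,1), (34,1), (35,1), (36,1), (47,1), (48,1), (49,1), (50,1), (51,1), (52,1), (53,1), (55,1), (56,1), (58,1), (64,1), (72,1), (73,1), (76,1), (77,1), (80,1), (82,1), (84,1), (85,1), (87,1), (88,1), (90,1), (93,1), (94,1), (95,1), (96,1), (100,1), (105,1), (107,1), (109,1),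 (111,1), (112,1), (114,1), (115,1), (116,1), (117,1), (121,1), (122,1), (125,1), (126,1), (127,1), (128,1), (130,1), (131,1), (132,1), (134,1), (135,1), (136,1), (137,1), (138,1), (140,1), (145,1), (152,1), (153,1), (154,1)], [(0,1), (1,1), (2,1), (3,1), (4,1), (5,1), (6,1), (7,1), (8,1), (9,1), (10,1), (11,1), (12,1), (13,1), (14,1), (15,1), (16,1), (20,1), (22,1), (24,1), (27,1), (29,1), (30,1), (31,1), (33,1), (34,1), (36,1), (38,1), (43,1), (44,1), (46,1), (49,1), (50,1), (51,1), (54,1), (55,1), (58,1), (59,1), (63,1), (65,1), (68,1), (69,1), (70,1), (71,1), (72,1), (74,1), (75,1), (76,1), (77,1), (79,1), (83,1), (85,1), (87,1), (88,1), (89,1), (91,1), (92,1), (94,1), (98,1), (100,1), (103,1), (104,1), (105,1), (110,1), (117,1), (119,1), (123,1)], [(0,1), (4,1), (5,1), (6,1), (10,1), (11,1), (12,1), (14,1), (18,1), (19,1), (20,1), (24,1), (26,1), (30,1), (31,1), (33,1), (36,1), (40,1), (41,1), (42,1), (43,1), (45,1), (46,1), (47,1),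 (49,1), (50,1), (51,1), (52,1), (53,1), (54,1), (56,1), (58,1), (60,1), (62,1), (63,1), (66,1), (67,1), (68,1), (70,1), (75,1), (78,1), (81,1), (82,1), (83,1), (84,1), (85,1), (86,1), (87,1), (88,1), (89,1), (92,1), (93,1), (95,1), (96,1), (103,1), (104,1), (106,1), (108,1), (109,1), (111,1), (112,1), (117,1), (119,1), (121,1), (122,1), (125,1), (127,1), (128,1), (130,1), (131,1), (132,1), (134,1), (135,1), (136,1), (137,1), (138,1), (140,1), (145,1), (152,1), (153,1), (154,1)], [(0,1), (1,1), (2,1), (3,1), (4,1), (7,1), (8,1), (9,1), (10,1), (11,1), (12,1), (13,1), (17,1), (20,1), (22,1), (23,1), (24,1), (25,1), (26,1), (27,1), (29,1), (30,1), (31,1), (33,1), (34,1), (36,1), (37,1), (39,1), (40,1), (41,1), (42,1), (43,1), (44,1), (46,1), (48,1), (49,1), (52,1), (54,1), (55,1), (56,1), (58,1), (60,1), (62,1), (63,1), (66,1), (67,1), (68,1), (70,1), (72,1), (75,1), (77,1), (78,1), (84,1), (85,1), (86,1), (87,1), (88,1), (89,1), (90,1),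 (93,1), (94,1), (97,1), (98,1), (99,1), (103,1), (105,1), (109,1), (112,1), (116,1), (117,1), (118,1), (121,1), (122,1), (124,1)], [(0,1), (1,1), (2,1), (5,1), (6,1), (8,1), (9,1), (10,1), (11,1), (12,1), (13,1), (14,1), (15,1), (16,1), (17,1), (19,1), (23,1), (25,1), (26,1), (28,1), (29,1), (31,1), (32,1), (37,1), (43,1), (46,1), (49,1), (50,1), (51,1), (52,1), (55,1), (56,1), (57,1), (58,1), (61,1), (64,1), (69,1), (70,1), (72,1), (74,1), (75,1), (76,1), (77,1), (78,1), (79,1), (82,1), (84,1), (85,1), (87,1), (88,1), (89,1), (90,1), (91,1), (92,1), (96,1), (98,1), (100,1), (101,1), (102,1), (104,1), (105,1), (111,1), (116,1), (117,1), (118,1), (121,1), (123,1), (125,1), (126,1)], [(4,1), (7,1), (8,1), (9,1), (14,1), (18,1), (20,1), (22,1), (24,1), (25,1), (27,1), (32,1), (35,1), (37,1), (38,1), (40,1), (43,1), (44,1), (45,1), (47,1), (49,1), (51,1), (53,1), (54,1), (56,1), (57,1), (60,1), (62,1), (64,1), (65,1), (68,1), (69,1),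 (70,1), (71,1), (72,1), (73,1), (77,1), (79,1), (80,1), (82,1), (84,1), (85,1), (86,1), (89,1), (93,1), (94,1), (97,1), (98,1), (99,1), (100,1), (101,1), (102,1), (103,1), (105,1), (108,1), (113,1), (114,1), (115,1), (116,1), (122,1), (123,1), (124,1)], [(5,1), (6,1), (14,1), (15,1), (16,1), (18,1), (19,1), (21,1), (22,1), (23,1), (25,1), (26,1), (30,1), (32,1), (33,1), (35,1), (36,1), (37,1), (38,1), (44,1), (48,1), (49,1), (53,1), (54,1), (55,1), (57,1), (61,1), (62,1), (64,1), (65,1), (66,1), (68,1), (73,1), (74,1), (75,1), (76,1), (78,1), (79,1), (80,1), (82,1), (83,1), (86,1), (87,1), (88,1), (90,1), (93,1), (95,1), (96,1), (99,1), (100,1), (101,1), (103,1), (104,1), (107,1), (108,1), (109,1), (110,1), (111,1), (112,1), (114,1), (115,1), (116,1), (120,1), (121,1), (122,1), (123,1), (125,1), (126,1)]],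
    [[(0,1), (1,1), (2,1), (3,1), (4,1), (7,1), (8,1), (9,1), (10,1), (11,1), (12,1), (13,1), (17,1), (20,1), (21,1), (22,1), (23,1), (26,1), (29,1), (30,1), (33,1), (40,1), (42,1), (45,1), (47,1), (50,1), (52,1), (53,1), (54,1), (58,1), (59,1), (60,1), (63,1), (65,1), (69,1), (72,1), (74,1), (75,1), (76,1), (81,1), (82,1), (84,1), (85,1), (86,1), (87,1), (88,1), (90,1), (91,1), (99,1), (100,1), (101,1), (104,1), (107,1), (108,1), (109,1), (110,1), (112,1), (113,1), (114,1), (115,1), (116,1), (117,1), (119,1), (120,1)], [(5,1), (6,1), (9,1), (10,1), (11,1), (14,1), (15,1), (16,1), (18,1), (19,1), (20,1), (24,1), (25,1), (26,1), (27,1), (29,1), (30,1), (33,1), (35,1), (36,1), (37,1), (38,1), (47,1), (49,1), (50,1), (52,1), (53,1), (56,1), (59,1), (60,1), (63,1), (66,1), (68,1), (75,1), (76,1), (77,1), (78,1), (81,1), (83,1), (84,1), (85,1), (87,1), (88,1), (90,1), (91,1), (93,1), (96,1), (98,1), (99,1), (100,1), (102,1), (103,1), (104,1),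 (105,1), (106,1), (107,1), (108,1), (112,1), (113,1), (114,1), (119,1), (120,1), (121,1), (122,1), (123,1), (124,1), (125,1), (126,1)], [(4,1), (7,1), (17,1), (19,1), (20,1), (21,1), (23,1), (26,1), (27,1), (29,1), (33,1), (34,1), (35,1), (37,1), (40,1), (42,1), (43,1), (45,1), (46,1), (50,1), (51,1), (54,1), (55,1), (56,1), (57,1), (58,1), (59,1), (60,1), (63,1), (65,1), (66,1), (67,1), (68,1), (71,1), (72,1), (73,1), (78,1), (81,1), (82,1), (84,1), (89,1), (90,1), (91,1), (92,1), (94,1), (95,1), (96,1), (100,1), (101,1), (102,1), (104,1), (107,1), (110,1), (111,1), (112,1), (115,1), (117,1), (119,1), (122,1), (126,1)], [(0,1), (7,1), (8,1), (12,1), (14,1), (15,1), (16,1), (18,1), (20,1), (21,1), (24,1), (26,1), (27,1), (29,1), (30,1), (31,1), (34,1), (37,1), (38,1), (39,1), (43,1), (44,1), (45,1), (46,1), (48,1), (49,1), (51,1), (53,1), (54,1), (55,1), (59,1), (61,1), (64,1), (66,1), (68,1), (69,1), (70,1), (73,1), (75,1), (76,1),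 (77,1), (78,1), (79,1), (80,1), (81,1), (82,1), (84,1), (85,1), (87,1), (89,1), (91,1), (93,1), (94,1), (96,1), (98,1), (99,1), (100,1), (103,1), (105,1), (107,1), (110,1), (113,1), (116,1), (118,1), (119,1), (124,1), (126,1), (127,1), (128,1), (130,1), (131,1), (132,1), (134,1), (135,1), (136,1), (137,1), (138,1), (140,1), (145,1), (152,1), (153,1), (154,1)], [(0,1), (3,1), (7,1), (10,1), (11,1), (12,1), (15,1), (16,1), (18,1), (20,1), (21,1), (22,1), (26,1), (29,1), (30,1), (32,1), (34,1), (35,1), (37,1), (40,1), (45,1), (47,1), (49,1), (50,1), (51,1), (52,1), (54,1), (55,1), (56,1), (59,1), (60,1), (61,1), (63,1), (64,1), (66,1), (68,1), (72,1), (74,1), (77,1), (82,1), (84,1), (85,1), (88,1), (89,1), (91,1), (96,1), (98,1), (104,1), (107,1), (108,1), (112,1), (127,1), (128,1), (130,1), (131,1), (132,1), (134,1), (135,1), (136,1), (137,1), (138,1), (140,1), (145,1), (152,1), (153,1), (154,1)], [(0,1), (3,1), (5,1), (6,1), (8,1),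 (9,1), (10,1), (11,1), (12,1), (13,1), (16,1), (17,1), (18,1), (20,1), (21,1), (22,1), (24,1), (26,1), (30,1), (32,1), (33,1), (34,1), (35,1), (38,1), (41,1), (43,1), (44,1), (45,1), (49,1), (50,1), (51,1), (52,1), (53,1), (55,1), (56,1), (57,1), (61,1), (64,1), (65,1), (66,1), (67,1), (68,1), (71,1), (75,1), (77,1), (78,1), (79,1), (81,1), (86,1), (87,1), (88,1), (94,1), (96,1), (97,1), (98,1), (99,1), (100,1), (101,1), (103,1), (105,1), (106,1), (107,1), (108,1), (110,1), (111,1), (114,1), (116,1), (117,1), (119,1), (120,1), (122,1), (124,1), (125,1), (127,1), (128,1), (130,1), (131,1), (132,1), (134,1), (135,1), (136,1), (137,1), (138,1), (140,1), (145,1), (152,1), (153,1), (154,1)], [(0,1), (1,1), (2,1), (4,1), (5,1), (6,1), (7,1), (10,1), (11,1), (12,1), (13,1), (15,1), (16,1), (20,1), (22,1), (25,1), (26,1), (27,1), (28,1), (33,1), (34,1), (35,1), (41,1), (43,1), (44,1), (46,1), (47,1), (48,1), (50,1), (53,1), (54,1), (55,1),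 (56,1), (57,1), (58,1), (59,1), (61,1), (62,1), (63,1), (64,1), (65,1), (66,1), (68,1), (69,1), (70,1), (71,1), (73,1), (74,1), (76,1), (79,1), (81,1), (84,1), (85,1), (90,1), (91,1), (92,1), (93,1), (94,1), (100,1), (102,1), (104,1), (106,1), (108,1), (110,1), (112,1), (113,1), (115,1), (116,1), (117,1), (118,1), (122,1), (124,1), (125,1)], [(3,1), (4,1), (13,1), (16,1), (18,1), (22,1), (23,1), (25,1), (26,1), (27,1), (29,1), (30,1), (31,1), (32,1), (36,1), (39,1), (41,1), (43,1), (45,1), (46,1), (52,1), (53,1), (57,1), (58,1), (59,1), (60,1), (61,1), (62,1), (65,1), (67,1), (68,1), (69,1), (70,1), (71,1), (72,1), (73,1), (77,1), (78,1), (79,1), (80,1), (81,1), (82,1), (84,1), (86,1), (87,1), (90,1), (92,1), (95,1), (97,1), (100,1), (101,1), (102,1), (103,1), (104,1), (105,1), (106,1), (110,1), (112,1), (113,1), (114,1), (115,1), (116,1), (119,1), (123,1)], [(0,1), (1,1), (2,1), (3,1), (8,1), (10,1), (11,1), (12,1), (13,1), (19,1),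 (20,1), (23,1), (24,1), (27,1), (28,1), (29,1), (31,1), (32,1), (34,1), (35,1), (36,1), (37,1), (38,1), (39,1), (40,1), (42,1), (44,1), (46,1), (47,1), (48,1), (50,1), (51,1), (53,1), (56,1), (57,1), (59,1), (64,1), (65,1), (66,1), (67,1), (72,1), (73,1), (75,1), (80,1), (81,1), (83,1), (86,1), (87,1), (88,1), (89,1), (91,1), (94,1), (97,1), (98,1), (99,1), (101,1), (103,1), (104,1), (105,1), (106,1), (108,1), (110,1), (118,1), (119,1), (120,1), (123,1), (125,1), (126,1)], [(0,1), (1,1), (2,1), (3,1), (5,1), (6,1), (7,1), (8,1), (10,1), (11,1), (12,1), (14,1), (15,1), (18,1), (24,1), (25,1), (27,1), (28,1), (29,1), (31,1), (34,1), (35,1), (36,1), (45,1), (48,1), (50,1), (51,1), (53,1), (54,1), (55,1), (56,1), (59,1), (60,1), (61,1), (62,1), (63,1), (65,1), (70,1), (71,1), (77,1), (78,1), (79,1), (83,1), (84,1), (86,1), (87,1), (88,1), (89,1), (92,1), (95,1), (96,1), (97,1), (98,1), (99,1), (100,1), (101,1), (103,1), (106,1), (107,1),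 (108,1), (109,1), (110,1), (117,1), (119,1), (120,1), (121,1), (123,1), (124,1)], [(0,1), (1,1), (2,1), (3,1), (5,1), (6,1), (8,1), (9,1), (10,1), (11,1), (12,1), (13,1), (14,1), (15,1), (16,1), (18,1), (23,1), (27,1), (28,1), (29,1), (32,1), (33,1), (35,1), (36,1), (37,1), (38,1), (42,1), (44,1), (45,1), (47,1), (48,1), (53,1), (55,1), (57,1), (59,1), (62,1), (63,1), (64,1), (65,1), (67,1), (70,1), (71,1), (74,1), (75,1), (78,1), (79,1), (80,1), (82,1), (85,1), (89,1), (91,1), (95,1), (96,1), (97,1), (100,1), (101,1), (104,1), (107,1), (108,1), (109,1), (110,1), (111,1), (113,1), (115,1), (118,1), (119,1), (123,1), (124,1), (125,1), (126,1)], [(0,1), (1,1), (2,1), (3,1), (5,1), (6,1), (7,1), (9,1), (10,1), (11,1), (12,1), (15,1), (18,1), (20,1), (21,1), (26,1), (29,1), (32,1), (33,1), (34,1), (35,1), (37,1), (38,1), (41,1), (42,1), (43,1), (44,1), (45,1), (50,1), (52,1), (54,1), (55,1), (56,1), (57,1), (58,1), (60,1), (61,1), (62,1),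 (66,1), (68,1), (71,1), (74,1), (75,1), (76,1), (79,1), (81,1), (83,1), (85,1), (86,1), (89,1), (90,1), (91,1), (93,1), (94,1), (101,1), (105,1), (106,1), (109,1), (110,1), (111,1), (112,1), (113,1), (115,1), (116,1), (117,1), (118,1), (120,1), (123,1), (125,1), (126,1)], [(0,1), (1,1), (2,1), (3,1), (7,1), (8,1), (9,1), (10,1), (11,1), (12,1), (16,1), (19,1), (21,1), (22,1), (23,1), (25,1), (26,1), (27,1), (28,1), (29,1), (30,1), (31,1), (32,1), (40,1), (41,1), (44,1), (46,1), (47,1), (49,1), (52,1), (55,1), (56,1), (59,1), (61,1), (64,1), (75,1), (77,1), (79,1), (80,1), (82,1), (83,1), (84,1), (85,1), (86,1), (87,1), (88,1), (90,1), (93,1), (94,1), (96,1), (98,1), (99,1), (100,1), (101,1), (108,1), (110,1), (114,1), (115,1), (117,1), (120,1), (123,1), (126,1)]],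
    [[(0,1), (3,1), (5,1), (6,1), (7,1), (8,1), (9,1), (12,1), (17,1), (18,1), (21,1), (28,1), (29,1), (33,1), (34,1), (38,1), (41,1), (43,1), (45,1), (47,1), (48,1), (50,1), (51,1), (52,1), (55,1), (61,1), (62,1), (70,1), (71,1), (72,1), (73,1), (76,1), (77,1), (80,1), (83,1), (86,1), (89,1), (93,1), (94,1), (95,1), (96,1), (100,1), (101,1), (103,1), (105,1), (106,1), (109,1), (112,1), (114,1), (120,1), (126,1), (127,1), (128,1), (130,1), (131,1), (132,1), (134,1), (135,1), (136,1), (137,1), (138,1), (140,1), (145,1), (152,1), (153,1), (154,1)], [(3,1), (8,1), (9,1), (14,1), (17,1), (18,1), (19,1), (20,1), (25,1), (26,1), (27,1), (28,1), (30,1), (31,1), (34,1), (38,1), (39,1), (40,1), (41,1), (44,1), (46,1), (47,1), (48,1), (51,1), (55,1), (57,1), (60,1), (62,1), (65,1), (66,1), (67,1), (69,1), (70,1), (74,1), (77,1), (78,1), (79,1), (80,1), (81,1), (83,1), (84,1), (86,1), (88,1), (89,1), (90,1), (91,1), (92,1), (94,1), (96,1), (97,1),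 (98,1), (100,1), (103,1), (105,1), (107,1), (111,1), (114,1), (117,1), (118,1), (122,1), (125,1), (126,1)], [(0,1), (1,1), (2,1), (3,1), (7,1), (8,1), (9,1), (10,1), (11,1), (12,1), (16,1), (19,1), (20,1), (21,1), (22,1), (23,1), (25,1), (26,1), (27,1), (29,1), (30,1), (31,1), (32,1), (34,1), (35,1), (36,1), (38,1), (40,1), (43,1), (46,1), (48,1), (51,1), (55,1), (60,1), (64,1), (66,1), (67,1), (68,1), (69,1), (70,1), (75,1), (76,1), (79,1), (80,1), (81,1), (85,1), (86,1), (88,1), (89,1), (92,1), (93,1), (96,1), (99,1), (100,1), (104,1), (107,1), (108,1), (110,1), (111,1), (113,1), (116,1), (117,1), (118,1), (119,1), (120,1), (122,1), (123,1), (124,1)], [(1,1), (2,1), (3,1), (4,1), (5,1), (6,1), (7,1), (8,1), (10,1), (11,1), (14,1), (16,1), (18,1), (22,1), (24,1), (27,1), (31,1), (32,1), (33,1), (34,1), (35,1), (36,1), (37,1), (39,1), (44,1), (51,1), (52,1), (56,1), (59,1), (60,1), (61,1), (63,1), (64,1), (66,1), (67,1), (68,1), (71,1),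 (72,1), (74,1), (77,1), (82,1), (83,1), (85,1), (87,1), (90,1), (93,1), (94,1), (95,1), (97,1), (99,1), (103,1), (104,1), (105,1), (107,1), (109,1), (112,1), (115,1), (116,1), (120,1), (121,1), (127,1), (128,1), (130,1), (131,1), (132,1), (134,1), (135,1), (136,1), (137,1), (138,1), (140,1), (145,1), (152,1), (153,1), (154,1)], [(1,1), (2,1), (5,1), (6,1), (7,1), (8,1), (9,1), (13,1), (14,1), (20,1), (21,1), (23,1), (27,1), (28,1), (33,1), (34,1), (38,1), (48,1), (50,1), (54,1), (56,1), (57,1), (58,1), (59,1), (60,1), (61,1), (62,1), (64,1), (65,1), (70,1), (73,1), (74,1), (75,1), (79,1), (80,1), (81,1), (84,1), (88,1), (90,1), (91,1), (92,1), (94,1), (99,1), (101,1), (102,1), (104,1), (106,1), (107,1), (109,1), (113,1), (114,1), (116,1), (117,1), (118,1), (121,1), (122,1), (126,1), (127,1), (128,1), (130,1), (131,1), (132,1), (134,1), (135,1), (136,1), (137,1), (138,1), (140,1), (145,1), (152,1), (153,1), (154,1)], [(1,1), (2,1),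 (5,1), (6,1), (9,1), (16,1), (20,1), (23,1), (26,1), (28,1), (30,1), (31,1), (33,1), (34,1), (36,1), (37,1), (38,1), (39,1), (40,1), (42,1), (43,1), (44,1), (47,1), (48,1), (49,1), (50,1), (54,1), (56,1), (58,1), (59,1), (61,1), (63,1), (64,1), (68,1), (70,1), (71,1), (72,1), (74,1), (75,1), (77,1), (78,1), (82,1), (83,1), (85,1), (86,1), (88,1), (89,1), (92,1), (99,1), (100,1), (101,1), (102,1), (104,1), (105,1), (106,1), (107,1), (109,1), (112,1), (115,1), (117,1), (118,1), (119,1), (120,1), (121,1), (122,1), (124,1), (127,1), (128,1), (130,1), (131,1), (132,1), (134,1), (135,1), (136,1), (137,1), (138,1), (140,1), (145,1), (152,1), (153,1), (154,1)], [(0,1), (1,1), (2,1), (3,1), (4,1), (5,1), (6,1), (7,1), (10,1), (11,1), (12,1), (13,1), (15,1), (16,1), (20,1), (22,1), (25,1), (26,1), (27,1), (28,1), (33,1), (34,1), (35,1), (41,1), (43,1), (44,1), (46,1), (47,1), (48,1), (50,1), (53,1), (54,1), (55,1), (56,1), (59,1), (61,1), (62,1),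 (63,1), (64,1), (65,1), (66,1), (68,1), (69,1), (70,1), (71,1), (73,1), (74,1), (76,1), (79,1), (81,1), (84,1), (85,1), (90,1), (91,1), (92,1), (93,1), (94,1), (100,1), (102,1), (104,1), (106,1), (108,1), (110,1), (112,1), (113,1), (115,1), (116,1), (117,1), (118,1), (122,1), (124,1), (125,1)], [(0,1), (1,1), (2,1), (3,1), (4,1), (8,1), (9,1), (10,1), (11,1), (12,1), (16,1), (17,1), (21,1), (23,1), (25,1), (26,1), (28,1), (29,1), (31,1), (33,1), (34,1), (36,1), (37,1), (40,1), (41,1), (42,1), (45,1), (47,1), (50,1), (51,1), (53,1), (54,1), (56,1), (57,1), (59,1), (62,1), (64,1), (70,1), (71,1), (74,1), (78,1), (82,1), (83,1), (85,1), (86,1), (89,1), (91,1), (93,1), (94,1), (95,1), (96,1), (97,1), (98,1), (99,1), (100,1), (101,1), (104,1), (105,1), (106,1), (111,1), (112,1), (116,1), (120,1), (124,1)], [(0,1), (1,1), (2,1), (5,1), (6,1), (7,1), (8,1), (9,1), (10,1), (11,1), (12,1), (14,1), (15,1), (18,1), (20,1), (21,1), (24,1), (25,1),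 (27,1), (28,1), (31,1), (32,1), (33,1), (34,1), (35,1), (37,1), (38,1), (41,1), (42,1), (44,1), (45,1), (52,1), (53,1), (57,1), (58,1), (59,1), (61,1), (62,1), (63,1), (64,1), (65,1), (68,1), (70,1), (71,1), (72,1), (73,1), (74,1), (75,1), (76,1), (77,1), (78,1), (80,1), (86,1), (88,1), (90,1), (91,1), (92,1), (93,1), (96,1), (100,1), (101,1), (103,1), (104,1), (106,1), (107,1), (109,1), (113,1), (116,1), (117,1), (119,1), (121,1), (122,1), (125,1), (126,1)], [(3,1), (4,1), (5,1), (6,1), (7,1), (8,1), (15,1), (16,1), (17,1), (18,1), (24,1), (25,1), (29,1), (30,1), (34,1), (35,1), (36,1), (37,1), (39,1), (42,1), (46,1), (47,1), (48,1), (50,1), (55,1), (56,1), (57,1), (59,1), (60,1), (61,1), (62,1), (63,1), (66,1), (67,1), (69,1), (72,1), (74,1), (77,1), (79,1), (80,1), (82,1), (84,1), (85,1), (87,1), (88,1), (92,1), (95,1), (100,1), (102,1), (103,1), (104,1), (109,1), (111,1), (112,1), (113,1), (114,1), (115,1), (117,1), (119,1), (122,1),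 (123,1), (124,1), (125,1), (126,1)], [(0,1), (1,1), (2,1), (3,1), (8,1), (9,1), (10,1), (11,1), (12,1), (13,1), (19,1), (21,1), (23,1), (24,1), (26,1), (27,1), (29,1), (30,1), (32,1), (35,1), (37,1), (39,1), (42,1), (43,1), (44,1), (45,1), (46,1), (48,1), (49,1), (50,1), (51,1), (52,1), (54,1), (55,1), (57,1), (58,1), (61,1), (64,1), (65,1), (66,1), (68,1), (69,1), (72,1), (73,1), (74,1), (76,1), (82,1), (83,1), (85,1), (86,1), (87,1), (91,1), (93,1), (95,1), (100,1), (101,1), (103,1), (104,1), (105,1), (106,1), (109,1), (110,1), (112,1), (113,1), (117,1), (118,1), (120,1), (121,1), (122,1), (124,1), (125,1)], [(0,1), (1,1), (2,1), (3,1), (4,1), (5,1), (6,1), (7,1), (8,1), (10,1), (11,1), (12,1), (13,1), (14,1), (15,1), (16,1), (17,1), (18,1), (19,1), (21,1), (22,1), (24,1), (25,1), (26,1), (27,1), (29,1), (34,1), (37,1), (41,1), (44,1), (45,1), (46,1), (47,1), (51,1), (53,1), (54,1), (57,1), (58,1), (59,1), (61,1), (63,1), (66,1),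 (67,1), (71,1), (72,1), (73,1), (74,1), (75,1), (76,1), (77,1), (78,1), (80,1), (84,1), (85,1), (86,1), (88,1), (90,1), (91,1), (93,1), (95,1), (102,1), (105,1), (106,1), (108,1), (109,1), (113,1), (114,1), (115,1), (118,1), (122,1), (123,1), (124,1), (126,1)], [(3,1), (5,1), (6,1), (8,1), (9,1), (15,1), (16,1), (18,1), (19,1), (23,1), (24,1), (27,1), (29,1), (32,1), (33,1), (34,1), (38,1), (42,1), (43,1), (45,1), (46,1), (48,1), (51,1), (52,1), (54,1), (55,1), (63,1), (68,1), (72,1), (73,1), (74,1), (75,1), (77,1), (79,1), (80,1), (81,1), (82,1), (84,1), (85,1), (90,1), (92,1), (93,1), (94,1), (95,1), (99,1), (100,1), (101,1), (103,1), (106,1), (110,1), (111,1), (116,1), (120,1), (121,1), (124,1)], [(0,1), (1,1), (2,1), (4,1), (5,1), (6,1), (7,1), (8,1), (10,1), (11,1), (12,1), (13,1), (14,1), (15,1), (16,1), (17,1), (18,1), (19,1), (20,1), (21,1), (22,1), (23,1), (25,1), (27,1), (28,1), (30,1), (31,1), (32,1), (33,1), (35,1), (36,1),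 (39,1), (44,1), (45,1), (47,1), (49,1), (50,1), (51,1), (52,1), (54,1), (56,1), (61,1), (64,1), (65,1), (66,1), (67,1), (68,1), (69,1), (70,1), (71,1), (73,1), (74,1), (76,1), (78,1), (82,1), (83,1), (87,1), (90,1), (91,1), (95,1), (97,1), (102,1), (106,1), (108,1), (110,1), (112,1), (118,1), (120,1), (121,1), (126,1)]],
    [[(0,1), (1,1), (2,1), (3,1), (5,1), (6,1), (8,1), (9,1), (12,1), (13,1), (14,1), (15,1), (16,1), (18,1), (20,1), (22,1), (25,1), (26,1), (27,1), (28,1), (29,1), (30,1), (33,1), (36,1), (37,1), (39,1), (40,1), (41,1), (42,1), (43,1), (44,1), (45,1), (51,1), (54,1), (57,1), (59,1), (66,1), (67,1), (68,1), (70,1), (74,1), (76,1), (79,1), (80,1), (82,1), (88,1), (89,1), (90,1), (92,1), (94,1), (96,1), (97,1), (98,1), (100,1), (101,1), (102,1), (103,1), (105,1), (106,1), (107,1), (109,1), (111,1), (114,1), (115,1), (117,1), (122,1), (123,1), (124,1), (126,1)], [(1,1), (2,1), (6,1), (8,1), (14,1), (15,1), (16,1), (17,1),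 (18,1), (22,1), (24,1), (28,1), (30,1), (31,1), (32,1), (33,1), (34,1), (37,1), (41,1), (42,1), (43,1), (46,1), (51,1), (53,1), (54,1), (56,1), (58,1), (60,1), (61,1), (62,1), (64,1), (65,1), (70,1), (71,1), (72,1), (75,1), (78,1), (81,1), (82,1), (85,1), (88,1), (90,1), (92,1), (94,1), (97,1), (101,1), (102,1), (103,1), (104,1), (105,1), (106,1), (108,1), (109,1), (112,1), (116,1), (118,1), (120,1), (121,1), (124,1), (125,1), (126,1)], [(0,1), (1,1), (2,1), (4,1), (7,1), (8,1), (9,1), (10,1), (11,1), (12,1), (13,1), (18,1), (19,1), (20,1), (22,1), (25,1), (27,1), (28,1), (30,1), (33,1), (35,1), (37,1), (39,1), (41,1), (42,1), (43,1), (46,1), (48,1), (49,1), (50,1), (52,1), (53,1), (54,1), (55,1), (57,1), (58,1), (60,1), (62,1), (63,1), (67,1), (70,1), (72,1), (74,1), (75,1), (77,1), (79,1), (80,1), (81,1), (85,1), (86,1), (90,1), (91,1), (92,1), (93,1), (94,1), (98,1), (99,1), (102,1), (103,1), (105,1), (107,1), (108,1), (115,1),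 (116,1), (119,1), (122,1), (123,1), (124,1)], [(1,1), (2,1), (5,1), (8,1), (9,1), (10,1), (11,1), (17,1), (19,1), (23,1), (25,1), (26,1), (27,1), (29,1), (31,1), (33,1), (36,1), (37,1), (41,1), (42,1), (44,1), (47,1), (49,1), (50,1), (52,1), (53,1), (59,1), (60,1), (62,1), (64,1), (65,1), (66,1), (69,1), (73,1), (77,1), (79,1), (80,1), (81,1), (83,1), (84,1), (87,1), (88,1), (90,1), (93,1), (94,1), (97,1), (99,1), (100,1), (101,1), (106,1), (108,1), (109,1), (110,1), (111,1), (112,1), (116,1), (121,1), (122,1), (125,1)], [(0,1), (1,1), (2,1), (5,1), (6,1), (8,1), (10,1), (11,1), (12,1), (13,1), (14,1), (15,1), (16,1), (18,1), (22,1), (23,1), (26,1), (27,1), (28,1), (29,1), (30,1), (31,1), (32,1), (34,1), (36,1), (39,1), (41,1), (42,1), (43,1), (44,1), (45,1), (46,1), (47,1), (48,1), (50,1), (51,1), (58,1), (61,1), (62,1), (65,1), (66,1), (72,1), (74,1), (75,1), (77,1), (78,1), (79,1), (82,1), (86,1), (89,1), (90,1), (91,1), (93,1),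 (94,1), (95,1), (97,1), (102,1), (104,1), (106,1), (109,1), (110,1), (112,1), (113,1), (116,1), (117,1), (118,1), (122,1), (126,1)], [(4,1), (13,1), (16,1), (17,1), (19,1), (21,1), (24,1), (25,1), (28,1), (30,1), (33,1), (36,1), (37,1), (41,1), (43,1), (44,1), (46,1), (47,1), (50,1), (51,1), (54,1), (56,1), (57,1), (58,1), (71,1), (72,1), (74,1), (80,1), (82,1), (83,1), (85,1), (88,1), (91,1), (92,1), (94,1), (97,1), (98,1), (99,1), (100,1), (101,1), (102,1), (103,1), (109,1), (111,1), (113,1), (120,1), (121,1), (122,1), (123,1), (124,1), (125,1), (126,1)], [(3,1), (4,1), (5,1), (6,1), (7,1), (8,1), (15,1), (16,1), (17,1), (18,1), (21,1), (23,1), (24,1), (25,1), (27,1), (29,1), (30,1), (32,1), (33,1), (34,1), (36,1), (40,1), (41,1), (42,1), (45,1), (48,1), (49,1), (52,1), (53,1), (54,1), (55,1), (57,1), (62,1), (64,1), (66,1), (67,1), (70,1), (71,1), (73,1), (76,1), (77,1), (80,1), (81,1), (85,1), (86,1), (88,1), (89,1), (92,1), (93,1),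 (94,1), (95,1), (96,1), (98,1), (99,1), (100,1), (101,1), (103,1), (105,1), (106,1), (109,1), (111,1), (114,1), (118,1), (119,1), (120,1), (121,1), (126,1)], [(3,1), (23,1), (25,1), (30,1), (31,1), (33,1), (34,1), (40,1), (41,1), (42,1), (44,1), (46,1), (47,1), (49,1), (52,1), (56,1), (57,1), (59,1), (61,1), (62,1), (68,1), (69,1), (72,1), (73,1), (74,1), (81,1), (82,1), (83,1), (85,1), (88,1), (90,1), (95,1), (96,1), (99,1), (101,1), (104,1), (106,1), (109,1), (111,1), (113,1), (114,1), (115,1), (118,1), (122,1), (126,1)], [(3,1), (8,1), (14,1), (17,1), (18,1), (19,1), (21,1), (23,1), (26,1), (28,1), (32,1), (33,1), (34,1), (35,1), (38,1), (39,1), (42,1), (46,1), (50,1), (52,1), (53,1), (55,1), (56,1), (59,1), (60,1), (61,1), (62,1), (63,1), (64,1), (68,1), (70,1), (71,1), (73,1), (76,1), (77,1), (78,1), (79,1), (80,1), (81,1), (84,1), (86,1), (87,1), (89,1), (90,1), (91,1), (92,1), (93,1), (98,1), (100,1), (101,1), (103,1), (104,1),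 (106,1), (109,1), (110,1), (111,1), (112,1), (117,1), (118,1), (119,1), (120,1), (122,1), (123,1), (124,1), (125,1)], [(0,1), (1,1), (2,1), (3,1), (9,1), (10,1), (11,1), (12,1), (13,1), (14,1), (19,1), (20,1), (29,1), (37,1), (39,1), (40,1), (43,1), (45,1), (46,1), (48,1), (50,1), (53,1), (56,1), (58,1), (66,1), (67,1), (69,1), (70,1), (71,1), (75,1), (79,1), (82,1), (83,1), (86,1), (88,1), (89,1), (92,1), (93,1), (95,1), (98,1), (100,1), (102,1), (106,1), (107,1), (108,1), (110,1), (111,1), (113,1), (115,1), (119,1), (121,1), (124,1), (126,1)], [(0,1), (1,1), (2,1), (3,1), (5,1), (6,1), (7,1), (10,1), (11,1), (12,1), (15,1), (17,1), (19,1), (20,1), (22,1), (23,1), (27,1), (30,1), (32,1), (33,1), (36,1), (37,1), (38,1), (40,1), (41,1), (42,1), (47,1), (50,1), (51,1), (53,1), (54,1), (57,1), (59,1), (60,1), (61,1), (63,1), (65,1), (67,1), (69,1), (71,1), (76,1), (77,1), (78,1), (80,1), (81,1), (83,1), (84,1), (85,1), (86,1), (88,1),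 (89,1), (96,1), (101,1), (102,1), (103,1), (104,1), (105,1), (106,1), (109,1), (110,1), (111,1), (112,1), (116,1), (122,1), (123,1), (125,1)], [(5,1), (6,1), (7,1), (9,1), (13,1), (14,1), (15,1), (18,1), (19,1), (20,1), (23,1), (24,1), (25,1), (26,1), (27,1), (29,1), (32,1), (33,1), (37,1), (39,1), (41,1), (43,1), (44,1), (45,1), (46,1), (48,1), (49,1), (50,1), (51,1), (52,1), (53,1), (55,1), (56,1), (57,1), (58,1), (59,1), (60,1), (61,1), (62,1), (63,1), (64,1), (66,1), (68,1), (71,1), (72,1), (73,1), (74,1), (75,1), (80,1), (81,1), (83,1), (84,1), (88,1), (92,1), (94,1), (95,1), (97,1), (98,1), (102,1), (103,1), (104,1), (105,1), (109,1), (111,1), (112,1), (115,1), (116,1), (122,1), (123,1), (124,1), (125,1)], [(3,1), (7,1), (8,1), (9,1), (13,1), (14,1), (16,1), (17,1), (18,1), (19,1), (20,1), (21,1), (28,1), (31,1), (36,1), (39,1), (41,1), (43,1), (45,1), (48,1), (52,1), (53,1), (54,1), (55,1), (56,1), (57,1), (60,1), (63,1), (64,1),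 (65,1), (67,1), (73,1), (75,1), (76,1), (77,1), (78,1), (79,1), (81,1), (82,1), (83,1), (84,1), (85,1), (87,1), (88,1), (89,1), (96,1), (97,1), (98,1), (99,1), (103,1), (107,1), (109,1), (110,1), (111,1), (112,1), (117,1), (118,1), (120,1), (121,1)], [(4,1), (5,1), (6,1), (7,1), (14,1), (15,1), (16,1), (17,1), (18,1), (21,1), (22,1), (26,1), (29,1), (31,1), (32,1), (33,1), (40,1), (41,1), (42,1), (44,1), (45,1), (46,1), (48,1), (50,1), (52,1), (53,1), (55,1), (56,1), (57,1), (59,1), (60,1), (63,1), (65,1), (66,1), (67,1), (69,1), (71,1), (74,1), (78,1), (79,1), (80,1), (82,1), (87,1), (88,1), (89,1), (91,1), (96,1), (97,1), (99,1), (100,1), (102,1), (104,1), (105,1), (106,1), (107,1), (108,1), (109,1), (111,1), (114,1), (115,1), (116,1), (117,1), (118,1), (120,1), (121,1), (122,1), (125,1), (126,1)], [(3,1), (5,1), (6,1), (7,1), (8,1), (9,1), (13,1), (15,1), (17,1), (24,1), (28,1), (29,1), (30,1), (31,1), (35,1), (36,1), (37,1), (40,1),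 (42,1), (44,1), (45,1), (47,1), (48,1), (49,1), (50,1), (51,1), (53,1), (54,1), (56,1), (58,1), (59,1), (61,1), (63,1), (64,1), (65,1), (68,1), (70,1), (72,1), (73,1), (74,1), (75,1), (76,1), (80,1), (81,1), (83,1), (84,1), (87,1), (90,1), (95,1), (98,1), (99,1), (100,1), (104,1), (105,1), (109,1), (113,1), (114,1), (117,1), (118,1), (120,1), (121,1), (122,1), (123,1), (124,1), (125,1), (126,1)]],
    [[(4,1), (8,1), (9,1), (10,1), (11,1), (13,1), (14,1), (16,1), (17,1), (19,1), (20,1), (21,1), (22,1), (29,1), (31,1), (32,1), (40,1), (41,1), (46,1), (49,1), (50,1), (55,1), (59,1), (61,1), (62,1), (63,1), (64,1), (66,1), (67,1), (71,1), (74,1), (76,1), (77,1), (80,1), (81,1), (82,1), (83,1), (88,1), (89,1), (93,1), (94,1), (99,1), (100,1), (101,1), (104,1), (107,1), (108,1), (110,1), (111,1), (112,1), (114,1), (116,1), (117,1), (118,1), (120,1), (122,1), (125,1), (126,1)], [(1,1), (2,1), (6,1), (8,1), (9,1), (14,1), (15,1), (16,1),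 (19,1), (20,1), (24,1), (26,1), (27,1), (29,1), (30,1), (34,1), (36,1), (39,1), (41,1), (45,1), (51,1), (56,1), (57,1), (58,1), (59,1), (60,1), (62,1), (63,1), (65,1), (68,1), (69,1), (70,1), (71,1), (72,1), (73,1), (78,1), (80,1), (81,1), (86,1), (88,1), (93,1), (97,1), (99,1), (100,1), (101,1), (102,1), (106,1), (110,1), (115,1), (116,1), (120,1), (121,1), (123,1), (124,1), (125,1)], [(0,1), (1,1), (2,1), (4,1), (5,1), (6,1), (7,1), (10,1), (11,1), (12,1), (13,1), (15,1), (16,1), (17,1), (18,1), (19,1), (20,1), (21,1), (22,1), (24,1), (25,1), (26,1), (27,1), (30,1), (32,1), (35,1), (36,1), (37,1), (39,1), (40,1), (44,1), (49,1), (51,1), (52,1), (54,1), (55,1), (58,1), (59,1), (60,1), (61,1), (62,1), (63,1), (64,1), (67,1), (68,1), (69,1), (70,1), (71,1), (72,1), (73,1), (74,1), (76,1), (77,1), (78,1), (79,1), (80,1), (81,1), (86,1), (87,1), (89,1), (90,1), (92,1), (93,1), (95,1), (96,1), (99,1), (102,1), (108,1), (114,1), (116,1),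 (118,1)], [(0,1), (3,1), (5,1), (8,1), (9,1), (12,1), (13,1), (14,1), (18,1), (19,1), (20,1), (23,1), (24,1), (26,1), (34,1), (35,1), (37,1), (40,1), (41,1), (42,1), (45,1), (46,1), (50,1), (51,1), (54,1), (55,1), (56,1), (58,1), (59,1), (64,1), (66,1), (67,1), (70,1), (71,1), (74,1), (75,1), (76,1), (82,1), (83,1), (84,1), (86,1), (87,1), (88,1), (89,1), (91,1), (92,1), (93,1), (94,1), (97,1), (99,1), (100,1), (103,1), (104,1), (106,1), (109,1), (110,1), (113,1), (115,1), (117,1), (118,1), (119,1), (121,1), (122,1), (123,1), (124,1), (125,1), (126,1)], [(0,1), (1,1), (2,1), (3,1), (8,1), (10,1), (11,1), (12,1), (13,1), (17,1), (18,1), (23,1), (29,1), (33,1), (34,1), (35,1), (36,1), (41,1), (42,1), (44,1), (45,1), (47,1), (51,1), (52,1), (53,1), (55,1), (57,1), (60,1), (61,1), (63,1), (64,1), (67,1), (68,1), (72,1), (73,1), (74,1), (77,1), (79,1), (87,1), (88,1), (89,1), (90,1), (92,1), (93,1), (96,1), (99,1), (101,1), (102,1), (103,1),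 (106,1), (107,1), (109,1), (110,1), (112,1), (113,1), (120,1), (122,1), (123,1), (124,1), (126,1)], [(3,1), (4,1), (9,1), (13,1), (16,1), (18,1), (22,1), (23,1), (26,1), (31,1), (32,1), (34,1), (36,1), (37,1), (41,1), (42,1), (44,1), (45,1), (48,1), (50,1), (54,1), (55,1), (57,1), (58,1), (59,1), (61,1), (62,1), (63,1), (64,1), (65,1), (70,1), (71,1), (73,1), (74,1), (75,1), (77,1), (79,1), (81,1), (82,1), (83,1), (86,1), (88,1), (90,1), (92,1), (93,1), (94,1), (98,1), (100,1), (102,1), (103,1), (108,1), (109,1), (110,1), (113,1), (114,1), (119,1), (123,1), (124,1), (125,1)], [(0,1), (1,1), (2,1), (3,1), (4,1), (8,1), (9,1), (10,1), (11,1), (12,1), (16,1), (18,1), (19,1), (20,1), (21,1), (25,1), (29,1), (30,1), (32,1), (33,1), (36,1), (39,1), (40,1), (44,1), (52,1), (54,1), (56,1), (60,1), (63,1), (64,1), (66,1), (70,1), (73,1), (74,1), (76,1), (78,1), (84,1), (85,1), (86,1), (88,1), (91,1), (94,1), (95,1), (98,1), (101,1), (105,1),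 (107,1), (110,1), (111,1), (112,1), (115,1), (117,1), (119,1), (121,1), (122,1), (123,1), (124,1), (125,1)], [(0,1), (1,1), (2,1), (3,1), (4,1), (8,1), (9,1), (10,1), (11,1), (12,1), (16,1), (17,1), (21,1), (23,1), (25,1), (26,1), (28,1), (29,1), (31,1), (33,1), (34,1), (36,1), (37,1), (40,1), (41,1), (42,1), (45,1), (47,1), (50,1), (51,1), (53,1), (54,1), (56,1), (57,1), (59,1), (62,1), (64,1), (70,1), (71,1), (74,1), (78,1), (82,1), (83,1), (85,1), (86,1), (89,1), (91,1), (93,1), (94,1), (95,1), (96,1), (97,1), (98,1), (99,1), (100,1), (101,1), (104,1), (105,1), (106,1), (111,1), (112,1), (114,1), (116,1), (120,1), (124,1)], [(4,1), (5,1), (6,1), (7,1), (9,1), (14,1), (15,1), (16,1), (17,1), (18,1), (20,1), (22,1), (23,1), (25,1), (27,1), (29,1), (30,1), (31,1), (32,1), (33,1), (35,1), (39,1), (41,1), (45,1), (48,1), (49,1), (53,1), (55,1), (57,1), (59,1), (60,1), (62,1), (63,1), (64,1), (65,1), (66,1), (68,1), (71,1), (73,1), (74,1),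 (76,1), (77,1), (78,1), (81,1), (84,1), (88,1), (90,1), (96,1), (97,1), (98,1), (99,1), (101,1), (102,1), (104,1), (106,1), (108,1), (109,1), (111,1), (113,1), (115,1), (122,1), (123,1), (124,1)], [(3,1), (5,1), (6,1), (9,1), (14,1), (15,1), (16,1), (17,1), (20,1), (22,1), (24,1), (25,1), (27,1), (28,1), (32,1), (33,1), (34,1), (36,1), (40,1), (41,1), (45,1), (46,1), (47,1), (50,1), (53,1), (54,1), (55,1), (56,1), (57,1), (58,1), (61,1), (62,1), (63,1), (64,1), (65,1), (66,1), (67,1), (71,1), (72,1), (75,1), (76,1), (77,1), (80,1), (81,1), (84,1), (88,1), (89,1), (91,1), (92,1), (93,1), (94,1), (95,1), (99,1), (101,1), (102,1), (107,1), (114,1), (115,1), (116,1), (117,1), (119,1), (120,1), (121,1), (122,1), (123,1), (126,1)], [(0,1), (1,1), (2,1), (3,1), (5,1), (6,1), (7,1), (9,1), (10,1), (11,1), (12,1), (15,1), (17,1), (19,1), (20,1), (21,1), (22,1), (23,1), (24,1), (25,1), (27,1), (29,1), (32,1), (34,1), (38,1), (41,1), (42,1),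 (45,1), (46,1), (47,1), (50,1), (53,1), (54,1), (55,1), (56,1), (60,1), (61,1), (64,1), (65,1), (66,1), (67,1), (68,1), (69,1), (72,1), (73,1), (74,1), (75,1), (76,1), (77,1), (78,1), (79,1), (80,1), (81,1), (82,1), (83,1), (84,1), (87,1), (88,1), (89,1), (90,1), (92,1), (95,1), (96,1), (97,1), (100,1), (101,1), (103,1), (104,1), (105,1), (106,1), (117,1), (118,1), (120,1), (126,1)], [(4,1), (8,1), (9,1), (13,1), (14,1), (16,1), (17,1), (19,1), (25,1), (26,1), (37,1), (38,1), (39,1), (42,1), (44,1), (45,1), (46,1), (47,1), (48,1), (52,1), (56,1), (58,1), (60,1), (61,1), (68,1), (71,1), (75,1), (77,1), (78,1), (80,1), (83,1), (84,1), (85,1), (87,1), (89,1), (90,1), (94,1), (95,1), (96,1), (97,1), (98,1), (100,1), (101,1), (104,1), (105,1), (109,1), (113,1), (114,1), (116,1), (117,1), (118,1), (121,1), (122,1), (123,1), (124,1), (126,1)], [(4,1), (9,1), (13,1), (16,1), (17,1), (19,1), (20,1), (21,1), (22,1), (23,1), (24,1), (25,1),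 (28,1), (29,1), (30,1), (31,1), (32,1), (33,1), (37,1), (44,1), (45,1), (46,1), (47,1), (48,1), (49,1), (50,1), (51,1), (53,1), (55,1), (56,1), (60,1), (63,1), (65,1), (66,1), (69,1), (70,1), (71,1), (73,1), (74,1), (75,1), (76,1), (79,1), (81,1), (83,1), (84,1), (85,1), (86,1), (87,1), (88,1), (89,1), (90,1), (93,1), (95,1), (97,1), (98,1), (100,1), (103,1), (107,1), (108,1), (109,1), (111,1), (112,1), (117,1), (119,1), (121,1), (123,1), (124,1)], [(0,1), (1,1), (2,1), (3,1), (4,1), (5,1), (6,1), (8,1), (10,1), (11,1), (12,1), (14,1), (15,1), (22,1), (24,1), (25,1), (27,1), (29,1), (32,1), (36,1), (37,1), (38,1), (39,1), (40,1), (41,1), (42,1), (43,1), (44,1), (45,1), (47,1), (50,1), (51,1), (53,1), (60,1), (61,1), (62,1), (63,1), (68,1), (70,1), (72,1), (73,1), (75,1), (76,1), (77,1), (79,1), (80,1), (82,1), (85,1), (88,1), (89,1), (91,1), (92,1), (93,1), (94,1), (97,1), (99,1), (101,1), (104,1), (105,1), (107,1), (108,1), (112,1),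 (114,1), (115,1), (116,1), (119,1), (120,1), (122,1), (123,1), (124,1)], [(5,1), (6,1), (14,1), (15,1), (16,1), (17,1), (21,1), (25,1), (26,1), (27,1), (33,1), (36,1), (39,1), (40,1), (41,1), (42,1), (43,1), (44,1), (49,1), (50,1), (51,1), (52,1), (54,1), (56,1), (58,1), (60,1), (62,1), (63,1), (66,1), (67,1), (69,1), (70,1), (72,1), (77,1), (81,1), (82,1), (84,1), (87,1), (88,1), (89,1), (90,1), (91,1), (92,1), (96,1), (97,1), (98,1), (99,1), (101,1), (103,1), (105,1), (110,1), (111,1), (112,1), (113,1), (115,1), (117,1), (118,1), (120,1), (121,1), (122,1), (125,1)], [(4,1), (5,1), (6,1), (13,1), (14,1), (15,1), (19,1), (20,1), (22,1), (24,1), (33,1), (34,1), (35,1), (37,1), (38,1), (39,1), (42,1), (43,1), (46,1), (47,1), (49,1), (50,1), (53,1), (56,1), (57,1), (59,1), (60,1), (62,1), (64,1), (67,1), (68,1), (69,1), (70,1), (73,1), (75,1), (76,1), (77,1), (79,1), (82,1), (83,1), (86,1), (87,1), (93,1), (95,1), (99,1), (101,1), (102,1),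 (104,1), (108,1), (109,1), (111,1), (113,1), (114,1), (117,1), (118,1), (119,1), (120,1), (122,1), (123,1), (124,1), (125,1), (126,1)]],
    [[(0,1), (3,1), (6,1), (7,1), (10,1), (11,1), (12,1), (14,1), (15,1), (17,1), (18,1), (19,1), (21,1), (23,1), (24,1), (25,1), (27,1), (30,1), (31,1), (33,1), (34,1), (37,1), (41,1), (45,1), (47,1), (50,1), (52,1), (54,1), (56,1), (57,1), (61,1), (63,1), (64,1), (67,1), (69,1), (71,1), (74,1), (75,1), (76,1), (78,1), (81,1), (84,1), (85,1), (86,1), (87,1), (89,1), (90,1), (91,1), (92,1), (93,1), (95,1), (97,1), (102,1), (103,1), (105,1), (106,1), (107,1), (110,1), (112,1), (113,1), (114,1), (116,1), (117,1), (118,1), (120,1), (122,1), (125,1), (126,1)], [(0,1), (3,1), (4,1), (5,1), (8,1), (12,1), (14,1), (16,1), (19,1), (20,1), (22,1), (26,1), (27,1), (28,1), (29,1), (31,1), (32,1), (33,1), (41,1), (42,1), (46,1), (48,1), (49,1), (50,1), (51,1), (52,1), (53,1), (54,1), (55,1), (58,1), (59,1),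 (61,1), (62,1), (63,1), (65,1), (68,1), (71,1), (72,1), (73,1), (75,1), (77,1), (79,1), (83,1), (84,1), (85,1), (86,1), (88,1), (89,1), (90,1), (91,1), (92,1), (93,1), (94,1), (97,1), (98,1), (99,1), (100,1), (103,1), (104,1), (106,1), (107,1), (111,1), (113,1), (116,1), (119,1), (121,1), (123,1), (124,1), (125,1), (126,1)], [(0,1), (1,1), (2,1), (10,1), (11,1), (12,1), (13,1), (14,1), (19,1), (20,1), (22,1), (24,1), (25,1), (26,1), (28,1), (30,1), (32,1), (34,1), (35,1), (41,1), (43,1), (45,1), (46,1), (47,1), (49,1), (51,1), (52,1), (53,1), (54,1), (56,1), (58,1), (59,1), (60,1), (61,1), (63,1), (64,1), (66,1), (72,1), (76,1), (78,1), (79,1), (81,1), (82,1), (83,1), (89,1), (93,1), (94,1), (95,1), (98,1), (100,1), (101,1), (102,1), (106,1), (110,1), (111,1), (116,1), (118,1), (120,1), (121,1), (122,1), (125,1)], [(3,1), (4,1), (7,1), (8,1), (10,1), (11,1), (14,1), (18,1), (21,1), (22,1), (23,1), (27,1), (31,1), (32,1), (35,1), (36,1),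 (37,1), (38,1), (39,1), (40,1), (42,1), (46,1), (49,1), (50,1), (51,1), (52,1), (54,1), (56,1), (57,1), (60,1), (62,1), (64,1), (71,1), (72,1), (74,1), (75,1), (76,1), (77,1), (78,1), (81,1), (83,1), (86,1), (87,1), (90,1), (92,1), (93,1), (94,1), (96,1), (101,1), (104,1), (107,1), (108,1), (111,1), (112,1), (122,1), (123,1), (124,1), (125,1)], [(0,1), (1,1), (2,1), (8,1), (10,1), (11,1), (12,1), (13,1), (17,1), (18,1), (20,1), (21,1), (24,1), (25,1), (27,1), (29,1), (30,1), (32,1), (34,1), (36,1), (38,1), (40,1), (41,1), (42,1), (50,1), (51,1), (58,1), (60,1), (63,1), (65,1), (66,1), (68,1), (71,1), (72,1), (73,1), (75,1), (76,1), (78,1), (80,1), (81,1), (84,1), (86,1), (88,1), (89,1), (90,1), (91,1), (93,1), (98,1), (102,1), (103,1), (104,1), (105,1), (106,1), (107,1), (108,1), (109,1), (112,1), (113,1), (121,1), (124,1), (125,1)], [(3,1), (5,1), (6,1), (14,1), (15,1), (16,1), (18,1), (19,1), (24,1), (28,1), (29,1), (30,1), (33,1),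 (39,1), (40,1), (42,1), (43,1), (44,1), (46,1), (51,1), (53,1), (54,1), (55,1), (57,1), (58,1), (59,1), (60,1), (63,1), (64,1), (65,1), (66,1), (67,1), (68,1), (72,1), (74,1), (75,1), (78,1), (80,1), (82,1), (84,1), (85,1), (87,1), (88,1), (90,1), (92,1), (93,1), (95,1), (96,1), (97,1), (98,1), (101,1), (102,1), (107,1), (108,1), (109,1), (114,1), (116,1), (117,1), (118,1), (119,1), (123,1), (124,1), (126,1)], [(3,1), (4,1), (8,1), (9,1), (13,1), (14,1), (16,1), (18,1), (20,1), (21,1), (22,1), (23,1), (24,1), (25,1), (26,1), (28,1), (29,1), (30,1), (32,1), (33,1), (34,1), (38,1), (40,1), (42,1), (44,1), (45,1), (46,1), (48,1), (49,1), (50,1), (52,1), (53,1), (55,1), (56,1), (59,1), (61,1), (63,1), (64,1), (65,1), (66,1), (67,1), (68,1), (69,1), (70,1), (73,1), (74,1), (75,1), (76,1), (77,1), (80,1), (82,1), (83,1), (84,1), (85,1), (87,1), (91,1), (95,1), (98,1), (99,1), (102,1), (105,1), (106,1), (110,1), (112,1), (115,1), (116,1),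 (117,1), (118,1), (119,1), (120,1)], [(0,1), (1,1), (2,1), (9,1), (10,1), (11,1), (12,1), (13,1), (14,1), (17,1), (18,1), (22,1), (25,1), (26,1), (27,1), (29,1), (32,1), (35,1), (38,1), (39,1), (40,1), (42,1), (44,1), (45,1), (48,1), (49,1), (55,1), (56,1), (58,1), (60,1), (64,1), (65,1), (66,1), (67,1), (71,1), (73,1), (74,1), (75,1), (76,1), (77,1), (78,1), (80,1), (82,1), (89,1), (90,1), (92,1), (97,1), (99,1), (100,1), (101,1), (102,1), (104,1), (105,1), (106,1), (110,1), (112,1), (116,1), (119,1), (121,1), (123,1), (124,1), (125,1)], [(0,1), (1,1), (2,1), (3,1), (4,1), (8,1), (9,1), (10,1), (11,1), (12,1), (16,1), (17,1), (20,1), (21,1), (22,1), (23,1), (26,1), (27,1), (30,1), (31,1), (35,1), (36,1), (37,1), (38,1), (39,1), (40,1), (41,1), (42,1), (45,1), (47,1), (48,1), (49,1), (50,1), (52,1), (54,1), (56,1), (57,1), (61,1), (62,1), (63,1), (69,1), (70,1), (71,1), (72,1), (74,1), (76,1), (77,1), (79,1), (80,1), (83,1), (88,1),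 (90,1), (93,1), (94,1), (95,1), (101,1), (103,1), (104,1), (105,1), (106,1), (108,1), (109,1), (111,1), (113,1), (114,1), (115,1), (117,1), (122,1), (124,1), (125,1)], [(0,1), (1,1), (2,1), (3,1), (4,1), (5,1), (6,1), (8,1), (10,1), (11,1), (12,1), (14,1), (15,1), (22,1), (23,1), (24,1), (25,1), (26,1), (27,1), (28,1), (29,1), (31,1), (33,1), (34,1), (36,1), (37,1), (38,1), (40,1), (41,1), (43,1), (44,1), (45,1), (48,1), (52,1), (53,1), (55,1), (56,1), (57,1), (59,1), (61,1), (65,1), (66,1), (68,1), (70,1), (72,1), (75,1), (76,1), (78,1), (81,1), (83,1), (84,1), (85,1), (86,1), (93,1), (98,1), (99,1), (100,1), (101,1), (102,1), (103,1), (106,1), (107,1), (108,1), (109,1), (110,1), (111,1), (112,1), (113,1), (114,1), (115,1), (117,1), (119,1), (120,1), (121,1), (122,1), (123,1), (124,1), (126,1)], [(3,1), (4,1), (5,1), (6,1), (7,1), (8,1), (9,1), (15,1), (16,1), (19,1), (20,1), (21,1), (22,1), (23,1), (25,1), (28,1), (30,1), (32,1),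 (34,1), (37,1), (38,1), (40,1), (43,1), (48,1), (51,1), (52,1), (53,1), (55,1), (56,1), (57,1), (60,1), (61,1), (62,1), (67,1), (68,1), (69,1), (70,1), (71,1), (75,1), (77,1), (78,1), (79,1), (82,1), (83,1), (85,1), (86,1), (87,1), (91,1), (92,1), (94,1), (95,1), (97,1), (98,1), (99,1), (100,1), (101,1), (102,1), (104,1), (105,1), (106,1), (109,1), (110,1), (112,1), (113,1), (114,1), (115,1), (116,1), (117,1), (118,1), (120,1), (121,1), (122,1), (126,1)], [(0,1), (1,1), (2,1), (4,1), (8,1), (9,1), (10,1), (11,1), (12,1), (16,1), (18,1), (19,1), (21,1), (22,1), (25,1), (29,1), (30,1), (33,1), (34,1), (44,1), (45,1), (46,1), (48,1), (53,1), (55,1), (56,1), (58,1), (59,1), (60,1), (63,1), (64,1), (65,1), (66,1), (67,1), (68,1), (69,1), (73,1), (74,1), (75,1), (76,1), (79,1), (84,1), (85,1), (86,1), (88,1), (89,1), (90,1), (91,1), (93,1), (99,1), (100,1), (102,1), (105,1), (108,1), (110,1), (111,1), (113,1), (115,1), (117,1), (118,1),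 (120,1), (122,1), (124,1), (125,1)], [(0,1), (1,1), (2,1), (5,1), (6,1), (8,1), (10,1), (11,1), (12,1), (13,1), (14,1), (15,1), (16,1), (17,1), (19,1), (21,1), (24,1), (27,1), (28,1), (30,1), (31,1), (32,1), (33,1), (34,1), (35,1), (37,1), (38,1), (41,1), (44,1), (45,1), (47,1), (49,1), (50,1), (54,1), (55,1), (57,1), (60,1), (63,1), (67,1), (71,1), (77,1), (83,1), (87,1), (89,1), (90,1), (95,1), (96,1), (98,1), (100,1), (101,1), (102,1), (104,1), (105,1), (107,1), (108,1), (111,1), (112,1), (119,1), (120,1), (122,1), (123,1), (124,1), (125,1), (126,1)], [(5,1), (6,1), (7,1), (8,1), (13,1), (15,1), (18,1), (19,1), (20,1), (23,1), (24,1), (26,1), (27,1), (28,1), (30,1), (31,1), (33,1), (34,1), (38,1), (39,1), (40,1), (45,1), (46,1), (48,1), (50,1), (51,1), (53,1), (55,1), (57,1), (59,1), (60,1), (61,1), (64,1), (67,1), (69,1), (71,1), (72,1), (73,1), (75,1), (76,1), (77,1), (79,1), (82,1), (84,1), (85,1), (87,1), (89,1), (90,1), (92,1),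 (94,1), (95,1), (97,1), (98,1), (99,1), (100,1), (102,1), (104,1), (107,1), (108,1), (109,1), (110,1), (118,1), (119,1), (120,1), (126,1)], [(0,1), (1,1), (2,1), (7,1), (10,1), (11,1), (12,1), (14,1), (16,1), (17,1), (18,1), (20,1), (21,1), (26,1), (27,1), (32,1), (35,1), (39,1), (40,1), (44,1), (46,1), (47,1), (48,1), (50,1), (51,1), (53,1), (54,1), (59,1), (61,1), (63,1), (64,1), (69,1), (72,1), (73,1), (75,1), (76,1), (79,1), (82,1), (83,1), (84,1), (85,1), (92,1), (94,1), (96,1), (97,1), (99,1), (101,1), (105,1), (109,1), (110,1), (111,1), (112,1), (123,1), (124,1), (125,1)], [(7,1), (9,1), (13,1), (16,1), (23,1), (25,1), (26,1), (28,1), (29,1), (31,1), (35,1), (36,1), (38,1), (39,1), (42,1), (45,1), (47,1), (48,1), (52,1), (53,1), (56,1), (57,1), (60,1), (61,1), (64,1), (67,1), (70,1), (76,1), (78,1), (79,1), (83,1), (86,1), (89,1), (92,1), (93,1), (95,1), (96,1), (99,1), (100,1), (102,1), (104,1), (105,1), (108,1), (110,1),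 (111,1), (112,1), (113,1), (114,1), (117,1), (118,1), (119,1), (120,1), (123,1), (126,1)], [(0,1), (1,1), (2,1), (3,1), (8,1), (9,1), (10,1), (11,1), (12,1), (13,1), (17,1), (18,1), (22,1), (23,1), (25,1), (29,1), (30,1), (32,1), (36,1), (37,1), (38,1), (40,1), (42,1), (43,1), (44,1), (47,1), (48,1), (49,1), (56,1), (58,1), (60,1), (61,1), (62,1), (63,1), (65,1), (69,1), (70,1), (71,1), (73,1), (76,1), (77,1), (84,1), (85,1), (87,1), (88,1), (90,1), (92,1), (96,1), (100,1), (101,1), (103,1), (104,1), (105,1), (107,1), (108,1), (111,1), (112,1), (113,1), (114,1), (116,1), (120,1), (124,1), (125,1)]]]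

/-- The words of the generators. -/
def pcwTwo : List (List ℕ) := [[0,2,1,0,1,0,2,0,1,2,0,1,2,0,1,2,1,2,0,2,0,1,0,1,0,2,1,0,2,0,2,0],
  [0,2,1,0,1,2,0,2,1,2,0,1,0,2,0,1,2,0,2,1,2,1,2,0,2,0,2,1,2,1,0,2,1,0,2,0,2,1,2,0],
  [1,0,1,0,1,2,1,2,1,2,0,1,0,1,2,0,1,0,2,0,1,0,1,0,2,1,2,0,1,0,2,0,1,0,1,2,0,2,1],
  [2,0,2,1,2,0,1,0,2,0,2,0,2,1,2,1,0,2,1,0,2,0,1,0,1,2,1,2,0,1,2,1,0,2,0],
  [1,2,0,1,2,1,0,1,2,0,1,0,2,1,0,1,0,2,1,2,0,1,0,2,1,0,2,1,0,1,2,0,1,0,1,0,2,0],
  [1,0,1,0,2,1,2,0,1,2,0,1,0,1,2,0,1,0,2,1,0,2,1,2,0,2,0,2,0,1,0,2,1,0,2,0,2,1,2,1],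
  [2,0,1,0,1,2,1,2,0,1,0,2,0,2,1,2,0,1,2,1,2,0,1,0,2,0,1,2,1,2,1],
  [0,1,0,2,1,2,1,0,2,0,2,1,2,1,2,0,2,0,1,0,2,1,0,1,0,2,0,1,0,2,0,2,1,2,0,1,0],
  [2,1,2,1,0,1,2,0,1,2,0,1,0,2,1,0,2,0,1,0,2,1,0,1,0,2,1,2],
  [1,0,2,1,2,0,2,1,2,1,0,1,0,2,1,2,0,2,1,2,1],
  [2,0,1,2,0,2,1,0,1,0,1,0,2,0,1,2,0,2,0,2,1,2,1,0,2,0,2,1,2,0,1,2,0,1,2,0],
  [0,2,0,2,0,2,1,0,2,1,2,1,0,1,0,2,0,1,0,1,2,1,2,0,1,2,0,2,0,2,0],
  [0,2,1,0,1,2,1,0,2,0,1,2,0,1,2,1,0,2,1,0,2,1,0,2,0,2,1,0,1,0,1,0,2,1,0,1,0],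
  [0,2,1,0,1,2,0,1,0,1,2,1,2,0,1,2,0,2,0,2,0,1,0,2,1,2,1,0,1,0,2,1,0,1,2,0],
  [0,2,1,0,1,0,2,0,1,0,2,1,0,1,2,1,0,2,0,2,0,1,2,0,1,0,1,2,1,0,1,0,2,1,0,1,0,1,1,1,1,1,0,0,0,2,1,2,0],
  [0,1,0,1,0,1,0,1,0,1],
  [0,1,0,2,0,1,0,2,0,1,0,2,0,1,0,2,0,1,0,2]]

/-- The words of the conjugators. -/
def fwTwo : List (List ℕ) := [[2,0,2,0,1,2,0,1,2,0,2,0,2,1,0,2,1,2,0,2,0,1,2,0,1,0,2,1,0,1,0,2,1,0,1,0,2,0,1],
  [2,0,1,2,1,2,1,0,2,0,2,0,2,1,2,1,0,2,1,0,1,2,0,2,0,2,1,0,2,1,0,1,2,0,1,2,0,1]]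

def sylTwoGen0P0 : List (List ℕ) :=
  [[14],
   [1,8],
   [10,11],
   [2,6,9],
   [10,12],
   [4,5,8,11],
   [2,8,9,11],
   [7,9,12],
   [2],
   [11,12],
   [0,4,10,11],
   [0,4,8,11],
   [0,1,4,11],
   [0,4,6,11],
   [0,5,11,13],
   [0,3,9],
   [0],
   [0,6,9],
   [0,7,12],
   [0,1,2,12],
   [0,6,8],
   [0,1,6],
   [2,5,6],
   [3,7,13],
   [5,11],
   [5,7],
   [1,2,5,9],
   [5,12],
   [0,4,6,8,9],
   [0,1,2,5],
   [0,3,11,12,13],
   [0,4,8,10],
   [0,1,3,8],
   [0,3,13],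
   [9,14],
   [8,11],
   [1,10],
   [2,6],
   [9,10,12],
   [8,12,14]]

def sylTwoGen0P1 : List (List ℕ) :=
  [[2,8,11],
   [7,12],
   [2,9],
   [1,12],
   [5,6,8],
   [1,3],
   [3,6,8],
   [2,5,14],
   [4,9,13],
   [3,14],
   [1,5,7,9],
   [1,3,7],
   [2,4,6,8],
   [4,10,11],
   [0,7,8,10],
   [0,3,5,14],
   [0,1,3,4,7],
   [0,9,10,11],
   [0,7,8],
   [0,7,9,10],
   [0,8,9,13],
   [0,6,11,14],
   [0,9,11],
   [0,1,9],
   [0,9,13],
   [0,6,13],
   [0,7,14],
   [0,8,9,11],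
   [0,10,12],
   [0,1,6,9,13],
   [3,8],
   [5,10,13],
   [4,11,12],
   [4,6,7],
   [4],
   [2,4,7],
   [2,4,10],
   [1,2,4,9],
   [4,7,11],
   [4,6,14]]

def sylTwoGen0P2 : List (List ℕ) :=
  [[6,10],
   [1,8,12],
   [10,11,12],
   [2,10,14],
   [10],
   [2,7,10],
   [1,6,7],
   [7,9],
   [2,12],
   [11],
   [0,3,6,9],
   [0,3,10,13],
   [0,3,8,13],
   [0,5,9,13],
   [0,1,2,3,13],
   [0,5,7,8,13],
   [0,4,6],
   [0,4,8,9],
   [0,4,10],
   [0,1,4,8,10],
   [4,7,12,13],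
   [3,7,9],
   [1,5,9],
   [2,3,9],
   [4,7,9,10],
   [3,6,13],
   [0,6,7],
   [0,1,4,5],
   [0,3,5,6],
   [0,10,11,13],
   [0,6,7,10],
   [0,7,10,13],
   [0,8],
   [0,1,7],
   [0,11,13],
   [0,1,13],
   [0,3,6,13],
   [0,3,9,10],
   [0,3,8,9],
   [0,5]]

def sylTwoGen0P3 : List (List ℕ) :=
  [[0,1,2,3,9],
   [0,5,7,8,9],
   [0,4,8,10,11],
   [0,4,8,13],
   [0,1,3,6,12],
   [0,5,7,11,13],
   [6,9,10],
   [3,4,6],
   [3,4,8],
   [2,6,12],
   [9,10],
   [8,14],
   [1,6,7,9],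
   [7],
   [2,9,12],
   [1],
   [1,8,14],
   [6,11,12],
   [7,8],
   [6],
   [8,9,12],
   [1,2,8],
   [2,8,9,10],
   [2,14],
   [4,5,9],
   [0,4,9,10,11],
   [0,1,3,4,5],
   [0,3,11,12],
   [0,4,6,9,11],
   [0,1,2,4,8],
   [0,3],
   [0,14],
   [0,6,12,13],
   [0,7,9,13],
   [0,1,6,7,8],
   [0,10],
   [0,1,6,14],
   [4,7],
   [2,5,8,11],
   [3,10]]

def sylTwoGen0P4 : List (List ℕ) :=
  [[3,6,7],
   [2,4,8],
   [5,9],
   [0,4,6,8],
   [0,1,2,5,9],
   [0,4,6,7,11],
   [0,4,8,9,10],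
   [0,5,11],
   [0,3,9,13],
   [9],
   [8,11,14],
   [1,6,12],
   [7,8,9],
   [6,9],
   [8,12],
   [1,2,8,9],
   [2,8,10],
   [3,5,7],
   [4,5],
   [1,4,6],
   [1,5,6],
   [1,4],
   [2,5],
   [4,12,13],
   [3],
   [1,2,3],
   [2,4,11],
   [1,4,7,9],
   [3,4,5,13],
   [0,6,7,12],
   [0,3,5],
   [0,1,9,10],
   [0,1,2,6],
   [0,7,8,14],
   [0,6,7,8,13],
   [0,8,12],
   [0,6,11],
   [0,1,2,8],
   [0,3,4,13],
   [0,12]]

def sylTwoGen0P5 : List (List ℕ) :=
  [[0,6,9,12],
   [0,7],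
   [0,1,2],
   [0,6,8,12],
   [0,3,4,6],
   [3,8,14],
   [3,11,13],
   [4,9,11],
   [1,4,7,10],
   [4,14],
   [5,6],
   [5,7,11],
   [2,5,8],
   [2,3,8],
   [4,6],
   [12],
   [4,5,8],
   [6,11],
   [2,10],
   [6,12],
   [8,9],
   [3,4,7,8],
   [2,6,8],
   [6,7,8],
   [11,14],
   [0,3,6],
   [0,3,9,10,13],
   [0,3,8,9,13],
   [0,5,13],
   [0,4,6,7,8,11],
   [0,5,7,8,9,13],
   [0,4,6,9],
   [0,4,8],
   [0,4,9,10],
   [0,5,7,11],
   [1,2,5,10],
   [2,4],
   [5,6,10],
   [2,3,12],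
   [2,5,11]]

def sylTwoGen0P6 : List (List ℕ) :=
  [[5,13],
   [0,6,7,14],
   [0,3,5,9,13],
   [0,1,6,8],
   [0,1,6,7,10],
   [0,7,8,12],
   [0,3,5,11],
   [0,8,14],
   [0,1,7,14],
   [0,1,6,7],
   [0,3,4,9],
   [0,3,6,9,13],
   [0,3,10],
   [0,3,8],
   [0,5,9],
   [0,1,2,3],
   [0,5,7,8],
   [0,4,6,13],
   [0,1,2,5,11],
   [0,4,10,13],
   [0,4,6,7,8,10],
   [9,12],
   [1,3,5,6],
   [1,6],
   [2,9,10],
   [3,5,8],
   [8],
   [6,7,11],
   [7,14],
   [2,6,10],
   [1,14],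
   [7,9,11],
   [2,7],
   [3,4,7,9],
   [3,4,6,7],
   [3,4],
   [6,7,9],
   [0,1,11],
   [0,4,5,6,7],
   [0,8,9]]

def sylTwoGen0P7 : List (List ℕ) :=
  [[0,1,10,11],
   [0,1,3,5],
   [0,1,9,13],
   [0,1,7,9],
   [0,3,4,10],
   [0,3,5,7],
   [0,1,6,10],
   [4,6,11],
   [3,13],
   [3,7,10],
   [4,12],
   [2,5,10],
   [3,4,5],
   [2,5,8,9],
   [4,11],
   [2,5,13],
   [5,6,11],
   [0,5,7,9],
   [0,3,6,8,13],
   [0,5,6],
   [0,1,3,6,7],
   [0,5,10],
   [0,3,8,10],
   [0,5,8,9],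
   [0,4,6,7,8],
   [0,4,9,13],
   [0,1,2,4,7],
   [0,6,7,13],
   [0,7,10],
   [0,8,13],
   [0,7,8,9],
   [0,11],
   [0,1],
   [0,1,2,10],
   [0,1,10,14],
   [0,10,11],
   [0,1,4,5,13],
   [4,5,7],
   [3,4,11],
   [1,2,9]]

def sylTwoGen0P8 : List (List ℕ) :=
  [[1,7,8,9],
   [2,7,11],
   [3,5,7,8],
   [0,1,3,9],
   [0,3,11],
   [0,5,10,11],
   [0,4,11,13],
   [0,3,12],
   [0,5,6,11],
   [2,4,13],
   [3,9,10],
   [4,7,9],
   [2,4,8,9],
   [5],
   [2,4,6],
   [4,10,14],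
   [3,9],
   [2,3,11],
   [4,13,14],
   [1,4,7],
   [4,6,13],
   [1,2,3,6],
   [1,4,9],
   [2,5,9],
   [3,11],
   [0,1,2,4],
   [0,3,9,11,13],
   [0,5,6,8,9],
   [0,4,9,11],
   [0,4,6,7],
   [0,5,8,10],
   [7,11,12],
   [6,8,14],
   [1,2],
   [1,7,8],
   [1,2,7],
   [6,7,12],
   [0,6],
   [0,7,9,12],
   [0,9]]

def sylTwoGen0P9 : List (List ℕ) :=
  [[0,6,8,9],
   [0,1,6,9],
   [0,1,3,4],
   [0,5,7,13],
   [0,3,6,8,9],
   [0,1,3,9,10],
   [0,3,8,11],
   [0,1,3,6,9],
   [0,3,6,11,13],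
   [0,5,8,13],
   [0,3,8,12],
   [0,4],
   [0,3,10,12],
   [2,4,9],
   [3,10,13],
   [4,7,13],
   [1,4,6,7],
   [5,9,13],
   [2,3,14],
   [0,6,9,13],
   [0,7,12,13],
   [0,13],
   [0,9,10,12],
   [0,1,6,13],
   [0,8,11],
   [7,11],
   [2,7,9],
   [3,4,7],
   [1,2,10],
   [3,4,9],
   [6,7],
   [3,5],
   [2,11,12],
   [1,7],
   [1,3,5],
   [2,6,8,10],
   [2,10,11],
   [3,8,9],
   [2,5,7],
   [1,2,4]]

def sylTwoGen0P10 : List (List ℕ) :=
  [[4,7,9,11],
   [3,4,5,7],
   [1,3,13],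
   [4,11,14],
   [1,3,6,7],
   [4,9],
   [1,5,10],
   [0,5,7],
   [0,3,6,11],
   [0,5,8],
   [0,5,9,10],
   [0,4,13],
   [0,3,10,12,13],
   [0,3,8,12,13],
   [0,5,6,9],
   [0,3,8,11,13],
   [0,3,6,8,9,13],
   [0,1,11,14],
   [0,3,4],
   [0,6,11,13],
   [0,11,12],
   [0,10,11,12],
   [0,3,5,13],
   [0,1,2,7],
   [0,1,2,11],
   [0,7,8,9,12],
   [0,6,7,8],
   [4,10],
   [5,6,8,11],
   [3,7,11],
   [1,2,5,6],
   [2,5,12],
   [5,10],
   [4,6,10],
   [1,5,7],
   [4,13],
   [3,12],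
   [6,8],
   [2,9,11],
   [2,8,10,11]]

def sylTwoGen0P11 : List (List ℕ) :=
  [[8,10,11],
   [2,8],
   [2,3,5],
   [0,7,13],
   [0,12,13],
   [0,6,14],
   [0,3,4,6,13],
   [0,1,7,10],
   [0,9,10],
   [0,3,11,13],
   [0,5,6,8],
   [0,1,2,4,9],
   [0,3,12,13],
   [0,5,8,9,10],
   [0,4,11],
   [0,5,7,9,13],
   [0,3,8,10,13],
   [0,1,2,4,11],
   [0,1,3,6],
   [0,4,9],
   [0,1,3,7],
   [0,1,4,8],
   [0,1,3,10],
   [0,3,6,10],
   [0,3,6,8],
   [0,7,9],
   [0,9,12],
   [0,6,12],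
   [0,3,5,10],
   [0,1,2,9],
   [0,10,13],
   [8,10],
   [1,3,5,7],
   [1,7,9],
   [6,8,11],
   [2,8,12],
   [1,2,3,4],
   [1,5],
   [2,4,8,10],
   [3,7]]

def sylTwoGen0P12 : List (List ℕ) :=
  [[5,12,13],
   [2,3],
   [4,7,10],
   [0,3,4,11],
   [0,1,14],
   [0,6,9,11],
   [0,11,14],
   [0,6,8,11],
   [0,3,5,9],
   [0,1,10],
   [0,8,9,12],
   [0,3,4,10,11],
   [0,7,10,14],
   [0,3,9,11],
   [0,1,3,8,10],
   [0,1,3],
   [0,1,4],
   [0,5,6,9,11],
   [0,1,2,5,8],
   [1,3,6],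
   [4,7,12],
   [5,6,7],
   [3,6],
   [5,7,9],
   [1,2,5],
   [6,8,9],
   [2,11],
   [1,7,12],
   [1,8,10],
   [2,8,9],
   [1,2,6]]

def sylTwoOrb0P0 : List (ℕ × ℕ × ℕ) :=
  [(3,0,0),
   (126,0,1),
   (129,0,2),
   (132,0,3),
   (135,0,4),
   (138,0,5),
   (141,0,6),
   (144,0,7),
   (147,0,8),
   (150,0,9),
   (153,0,10),
   (156,0,11),
   (159,0,12),
   (162,0,13),
   (165,0,14),
   (168,0,15),
   (171,0,16),
   (174,0,17),
   (177,0,18),
   (180,0,19),
   (183,0,20),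
   (186,0,21),
   (189,0,22),
   (192,0,23),
   (195,0,24),
   (198,0,25),
   (201,0,26),
   (204,0,27),
   (207,0,28),
   (210,0,29),
   (213,0,30),
   (216,0,31),
   (219,0,32),
   (222,0,33),
   (225,0,34),
   (228,0,35),
   (231,0,36),
   (234,0,37),
   (237,0,38),
   (240,0,39)]

def sylTwoOrb0P1 : List (ℕ × ℕ × ℕ) :=
  [(243,0,40),
   (246,0,41),
   (249,0,42),
   (252,0,43),
   (255,0,44),
   (258,0,45),
   (261,0,46),
   (264,0,47),
   (267,0,48),
   (270,0,49),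
   (273,0,50),
   (276,0,51),
   (279,0,52),
   (282,0,53),
   (285,0,54),
   (288,0,55),
   (291,0,56),
   (294,0,57),
   (297,0,58),
   (300,0,59),
   (303,0,60),
   (306,0,61),
   (309,0,62),
   (312,0,63),
   (315,0,64),
   (318,0,65),
   (321,0,66),
   (324,0,67),
   (327,0,68),
   (330,0,69),
   (333,0,70),
   (336,0,71),
   (339,0,72),
   (342,0,73),
   (345,0,74),
   (348,0,75),
   (351,0,76),
   (354,0,77),
   (357,0,78),
   (360,0,79)]

def sylTwoOrb0P2 : List (ℕ × ℕ × ℕ) :=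
  [(363,0,80),
   (366,0,81),
   (369,0,82),
   (372,0,83),
   (375,0,84),
   (378,0,85),
   (381,0,86),
   (384,0,87),
   (387,0,88),
   (390,0,89),
   (393,0,90),
   (396,0,91),
   (399,0,92),
   (402,0,93),
   (405,0,94),
   (408,0,95),
   (411,0,96),
   (414,0,97),
   (417,0,98),
   (420,0,99),
   (423,0,100),
   (426,0,101),
   (429,0,102),
   (432,0,103),
   (435,0,104),
   (438,0,105),
   (441,0,106),
   (444,0,107),
   (447,0,108),
   (450,0,109),
   (453,0,110),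
   (456,0,111),
   (459,0,112),
   (462,0,113),
   (465,0,114),
   (468,0,115),
   (471,0,116),
   (474,0,117),
   (477,0,118),
   (480,0,119)]

def sylTwoOrb0P3 : List (ℕ × ℕ × ℕ) :=
  [(483,0,120),
   (486,0,121),
   (489,0,122),
   (492,0,123),
   (495,0,124),
   (498,0,125),
   (501,0,126),
   (504,0,127),
   (507,0,128),
   (510,0,129),
   (513,0,130),
   (516,0,131),
   (519,0,132),
   (522,0,133),
   (525,0,134),
   (528,0,135),
   (531,0,136),
   (534,0,137),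
   (537,0,138),
   (540,0,139),
   (543,0,140),
   (546,0,141),
   (549,0,142),
   (552,0,143),
   (555,0,144),
   (558,0,145),
   (561,0,146),
   (564,0,147),
   (567,0,148),
   (570,0,149),
   (573,0,150),
   (576,0,151),
   (579,0,152),
   (582,0,153),
   (585,0,154),
   (588,0,155),
   (591,0,156),
   (594,0,157),
   (597,0,158),
   (600,0,159)]

def sylTwoOrb0P4 : List (ℕ × ℕ × ℕ) :=
  [(603,0,160),
   (606,0,161),
   (609,0,162),
   (612,0,163),
   (615,0,164),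
   (618,0,165),
   (621,0,166),
   (624,0,167),
   (627,0,168),
   (630,0,169),
   (633,0,170),
   (636,0,171),
   (639,0,172),
   (642,0,173),
   (645,0,174),
   (648,0,175),
   (651,0,176),
   (654,0,177),
   (657,0,178),
   (660,0,179),
   (663,0,180),
   (666,0,181),
   (669,0,182),
   (672,0,183),
   (675,0,184),
   (678,0,185),
   (681,0,186),
   (684,0,187),
   (687,0,188),
   (690,0,189),
   (693,0,190),
   (696,0,191),
   (699,0,192),
   (702,0,193),
   (705,0,194),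
   (708,0,195),
   (711,0,196),
   (714,0,197),
   (717,0,198),
   (720,0,199)]

def sylTwoOrb0P5 : List (ℕ × ℕ × ℕ) :=
  [(723,0,200),
   (726,0,201),
   (729,0,202),
   (732,0,203),
   (735,0,204),
   (738,0,205),
   (741,0,206),
   (744,0,207),
   (747,0,208),
   (750,0,209),
   (753,0,210),
   (756,0,211),
   (759,0,212),
   (762,0,213),
   (765,0,214),
   (768,0,215),
   (771,0,216),
   (774,0,217),
   (777,0,218),
   (780,0,219),
   (783,0,220),
   (786,0,221),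
   (789,0,222),
   (792,0,223),
   (795,0,224),
   (798,0,225),
   (801,0,226),
   (804,0,227),
   (807,0,228),
   (810,0,229),
   (813,0,230),
   (816,0,231),
   (819,0,232),
   (822,0,233),
   (825,0,234),
   (828,0,235),
   (831,0,236),
   (834,0,237),
   (837,0,238),
   (840,0,239)]

def sylTwoOrb0P6 : List (ℕ × ℕ × ℕ) :=
  [(843,0,240),
   (846,0,241),
   (849,0,242),
   (852,0,243),
   (855,0,244),
   (858,0,245),
   (861,0,246),
   (864,0,247),
   (867,0,248),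
   (870,0,249),
   (873,0,250),
   (876,0,251),
   (879,0,252),
   (882,0,253),
   (885,0,254),
   (888,0,255),
   (891,0,256),
   (894,0,257),
   (897,0,258),
   (900,0,259),
   (903,0,260),
   (906,0,261),
   (909,0,262),
   (912,0,263),
   (915,0,264),
   (918,0,265),
   (921,0,266),
   (924,0,267),
   (927,0,268),
   (930,0,269),
   (933,0,270),
   (1297,0,271),
   (1300,0,272),
   (1303,0,273),
   (1306,0,274),
   (1309,0,275),
   (1312,0,276),
   (1315,0,277),
   (1318,0,278),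
   (1321,0,279)]

def sylTwoOrb0P7 : List (ℕ × ℕ × ℕ) :=
  [(1324,0,280),
   (1327,0,281),
   (1330,0,282),
   (1333,0,283),
   (1336,0,284),
   (1339,0,285),
   (1342,0,286),
   (1345,0,287),
   (1348,0,288),
   (1351,0,289),
   (1354,0,290),
   (1357,0,291),
   (1360,0,292),
   (1363,0,293),
   (1366,0,294),
   (1369,0,295),
   (1372,0,296),
   (1375,0,297),
   (1378,0,298),
   (1381,0,299),
   (1384,0,300),
   (1387,0,301),
   (1390,0,302),
   (1393,0,303),
   (1396,0,304),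
   (1399,0,305),
   (1402,0,306),
   (1405,0,307),
   (1408,0,308),
   (1411,0,309),
   (1414,0,310),
   (1417,0,311),
   (1420,0,312),
   (1423,0,313),
   (1426,0,314),
   (1429,0,315),
   (1432,0,316),
   (1435,0,317),
   (1438,0,318),
   (1441,0,319)]

def sylTwoOrb0P8 : List (ℕ × ℕ × ℕ) :=
  [(1444,0,320),
   (1447,0,321),
   (1450,0,322),
   (1453,0,323),
   (1456,0,324),
   (1459,0,325),
   (1462,0,326),
   (1465,0,327),
   (1468,0,328),
   (1471,0,329),
   (1474,0,330),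
   (1477,0,331),
   (1480,0,332),
   (1483,0,333),
   (1486,0,334),
   (1489,0,335),
   (1492,0,336),
   (1495,0,337),
   (1498,0,338),
   (1501,0,339),
   (1504,0,340),
   (1507,0,341),
   (1510,0,342),
   (1513,0,343),
   (1516,0,344),
   (1519,0,345),
   (1522,0,346),
   (1525,0,347),
   (1528,0,348),
   (1531,0,349),
   (1534,0,350),
   (1537,0,351),
   (1540,0,352),
   (1543,0,353),
   (1546,0,354),
   (1549,0,355),
   (1552,0,356),
   (1555,0,357),
   (1558,0,358),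
   (1561,0,359)]

def sylTwoOrb0P9 : List (ℕ × ℕ × ℕ) :=
  [(1564,0,360),
   (1567,0,361),
   (1570,0,362),
   (1573,0,363),
   (1576,0,364),
   (1579,0,365),
   (1582,0,366),
   (1585,0,367),
   (1588,0,368),
   (1591,0,369),
   (1594,0,370),
   (1597,0,371),
   (1600,0,372),
   (1603,0,373),
   (1606,0,374),
   (1609,0,375),
   (1612,0,376),
   (1615,0,377),
   (1618,0,378),
   (1621,0,379),
   (1624,0,380),
   (1627,0,381),
   (1630,0,382),
   (1633,0,383),
   (1636,0,384),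
   (1639,0,385),
   (1642,0,386),
   (1645,0,387),
   (1648,0,388),
   (1651,0,389),
   (1654,0,390),
   (1658,0,391),
   (1661,0,392),
   (1664,0,393),
   (1667,0,394),
   (1670,0,395),
   (1673,0,396),
   (1676,0,397),
   (1679,0,398),
   (1682,0,399)]

def sylTwoOrb0P10 : List (ℕ × ℕ × ℕ) :=
  [(1685,0,400),
   (1688,0,401),
   (1691,0,402),
   (1694,0,403),
   (1697,0,404),
   (1700,0,405),
   (1703,0,406),
   (1706,0,407),
   (1709,0,408),
   (1712,0,409),
   (1715,0,410),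
   (1718,0,411),
   (1721,0,412),
   (1724,0,413),
   (1727,0,414),
   (1730,0,415),
   (1733,0,416),
   (1736,0,417),
   (1739,0,418),
   (1742,0,419),
   (1745,0,420),
   (1748,0,421),
   (1751,0,422),
   (1754,0,423),
   (1757,0,424),
   (1760,0,425),
   (1763,0,426),
   (1766,0,427),
   (1769,0,428),
   (1772,0,429),
   (1775,0,430),
   (1778,0,431),
   (1781,0,432),
   (1784,0,433),
   (1787,0,434),
   (1790,0,435),
   (1793,0,436),
   (1796,0,437),
   (1799,0,438),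
   (1802,0,439)]

def sylTwoOrb0P11 : List (ℕ × ℕ × ℕ) :=
  [(1805,0,440),
   (1808,0,441),
   (1811,0,442),
   (1814,0,443),
   (1817,0,444),
   (1820,0,445),
   (1823,0,446),
   (1826,0,447),
   (1829,0,448),
   (1832,0,449),
   (1835,0,450),
   (1838,0,451),
   (1841,0,452),
   (1844,0,453),
   (1847,0,454),
   (1850,0,455),
   (1853,0,456),
   (1856,0,457),
   (1859,0,458),
   (1862,0,459),
   (1865,0,460),
   (1868,0,461),
   (1871,0,462),
   (1874,0,463),
   (1877,0,464),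
   (1880,0,465),
   (1883,0,466),
   (1886,0,467),
   (1889,0,468),
   (1892,0,469),
   (1895,0,470),
   (1898,0,471),
   (1901,0,472),
   (1904,0,473),
   (1907,0,474),
   (1910,0,475),
   (1913,0,476),
   (1916,0,477),
   (1919,0,478),
   (1922,0,479)]

def sylTwoOrb0P12 : List (ℕ × ℕ × ℕ) :=
  [(1925,0,480),
   (1928,0,481),
   (1931,0,482),
   (1934,0,483),
   (1937,0,484),
   (1940,0,485),
   (1943,0,486),
   (1946,0,487),
   (1949,0,488),
   (1952,0,489),
   (1955,0,490),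
   (1958,0,491),
   (1961,0,492),
   (1964,0,493),
   (1967,0,494),
   (1970,0,495),
   (1973,0,496),
   (1976,0,497),
   (1979,0,498),
   (1982,0,499),
   (1985,0,500),
   (1988,0,501),
   (1991,0,502),
   (1994,0,503),
   (1997,0,504),
   (2000,0,505),
   (2003,0,506),
   (2006,0,507),
   (2009,0,508),
   (2012,0,509),
   (2015,0,510)]

def sylTwoLev0 : ℕ × List (List ℕ) × List (ℕ × ℕ × ℕ) := (0, sylTwoGen0P0 ++ sylTwoGen0P1 ++ sylTwoGen0P2 ++ sylTwoGen0P3 ++ sylTwoGen0P4 ++ sylTwoGen0P5 ++ sylTwoGen0P6 ++ sylTwoGen0P7 ++ sylTwoGen0P8 ++ sylTwoGen0P9 ++ sylTwoGen0P10 ++ sylTwoGen0P11 ++ sylTwoGen0P12, sylTwoOrb0P0 ++ sylTwoOrb0P1 ++ sylTwoOrb0P2 ++ sylTwoOrb0P3 ++ sylTwoOrb0P4 ++ sylTwoOrb0P5 ++ sylTwoOrb0P6 ++ sylTwoOrb0P7 ++ sylTwoOrb0P8 ++ sylTwoOrb0P9 ++ sylTwoOrb0P10 ++ sylTwoOrb0P11 ++ sylTwoOrb0P12)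

def sylTwoGen1P0 : List (List ℕ) :=
  [[15]]

def sylTwoOrb1P0 : List (ℕ × ℕ × ℕ) :=
  [(3361,3360,0)]

def sylTwoLev1 : ℕ × List (List ℕ) × List (ℕ × ℕ × ℕ) := (3360, sylTwoGen1P0, sylTwoOrb1P0)

def sylTwoGen2P0 : List (List ℕ) :=
  [[9,13],
   [6,9,10,12,13,14],
   [1,6,10,11,12,13,14],
   [1,3,4,6,8,15],
   [1,4,5,6,9,10,13],
   [4,5,6,9,10,11],
   [3,4,6,8,11,12,15],
   [1,2,3,4,6,7,8,10,11],
   [3,4,8,9,10,11,12],
   [4,5,9,11,12,14],
   [6,10,12,14],
   [1,6,9,10,11,12,14],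
   [1,2,3,5,7,8,12,14],
   [1,4,5,6,10],
   [4,5,6,10,11,13],
   [2,3,4,7,8,14],
   [1,3,5,8,10,11,12,13,14],
   [3,4,8,10,11,12,13],
   [4,5,11,12,13,14],
   [1,3,4,8,10,13],
   [1,9,11],
   [3,5,8,9,10,14],
   [1,2,3,4,7,8,11,12,14],
   [1,4,5,12,14],
   [3,5,6,8,14,15],
   [1,11,13],
   [3,5,8,10,13,14],
   [1,3,4,8,9,10],
   [1,4,5,9,12,13,14],
   [2,3,5,7,8,11,14],
   [1,3,5,6,8,11,12,14,15]]

def sylTwoOrb2P0 : List (ℕ × ℕ × ℕ) :=
  [(9,6,0),
   (18,6,1),
   (21,6,2),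
   (24,6,3),
   (27,6,4),
   (30,6,5),
   (33,6,6),
   (36,6,7),
   (39,6,8),
   (42,6,9),
   (45,6,10),
   (48,6,11),
   (51,6,12),
   (54,6,13),
   (57,6,14),
   (60,6,15),
   (63,6,16),
   (66,6,17),
   (69,6,18),
   (91,6,19),
   (94,6,20),
   (97,6,21),
   (100,6,22),
   (103,6,23),
   (106,6,24),
   (110,6,25),
   (113,6,26),
   (116,6,27),
   (119,6,28),
   (122,6,29),
   (125,6,30)]

def sylTwoLev2 : ℕ × List (List ℕ) × List (ℕ × ℕ × ℕ) := (6, sylTwoGen2P0, sylTwoOrb2P0)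

def sylTwoGen3P0 : List (List ℕ) :=
  [[16]]

def sylTwoOrb3P0 : List (ℕ × ℕ × ℕ) :=
  [(2017,2016,0)]

def sylTwoLev3 : ℕ × List (List ℕ) × List (ℕ × ℕ × ℕ) := (2016, sylTwoGen3P0, sylTwoOrb3P0)

def sylTwoGen4P0 : List (List ℕ) :=
  [[2,6,7,8,14,15,16]]

def sylTwoOrb4P0 : List (ℕ × ℕ × ℕ) :=
  [(15,12,0)]

def sylTwoLev4 : ℕ × List (List ℕ) × List (ℕ × ℕ × ℕ) := (12, sylTwoGen4P0, sylTwoOrb4P0)

/-- A chain for the Sylow subgroup. -/
def sylTwo : List (ℕ × List (List ℕ) × List (ℕ × ℕ × ℕ)) := [sylTwoLev0, sylTwoLev1, sylTwoLev2, sylTwoLev3, sylTwoLev4]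

/-- The certificate. -/
def certThree : Cert where
  p := 3
  n := 7
  tails := [[[]],
    [[0,1,2,3,3,6], []],
    [[0,2,4,6,6], [1,2,5,5,6,6], []],
    [[0,3,4,6,6], [1,3,5], [2,3,5,6,6], []],
    [[0,4], [1,4,5,5,6], [2,4,5,5], [3,4,5,5], []],
    [[0,5], [1,5], [2,5], [3,5], [4,5], []],
    [[0,6], [1,6], [2,6], [3,6], [4,6], [5,6], []]]
  overlaps := [([1,1,1,0],2), ([1,0,0,0],1), ([2,2,2,0],2), ([2,0,0,0],1), ([2,1,0],1), ([2,2,2,1],2), ([3,3,3,0],2), ([3,1,0],1), ([3,3,3,1],2), ([3,2,0],1), ([3,2,1],1), ([4,1,0],1), ([4,2,0],1), ([4,2,1],1), ([4,3,1],1), ([4,3,2],1), ([5,1,0],1)]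
  fuse := [([[5], [0,0,2,3,3,5,5,6], [0,2,2,3,4,4,5,5], [0,0,2,2,3,4], [6]], [[0,4,4,5], [0,0,2,3,3,4,5,6], [0,0,2,3,3,4,4,5,6,6], [0,4,5,5], [6]], [([0,0,0],[]), ([1,0],[0,1]), ([2,0],[0,2])]),
    ([[1,1,5], [1,1,2,3,3,4,6], [3,5], [1,1,2,5,6], [5,5], [6]], [[2,2,3,3,4,5,5], [1,2,5], [4,4], [1,2,3,4,5,6,6], [5], [6]], [([0,0,0],[]), ([1,0],[0,1]), ([1,1,1],[]), ([2,0],[0,2,4]), ([2,1],[1,2,4,4,5,5]), ([3,0],[0,3,4,4,5])])]
  delta := [[], [], [], [(7,2), (15,2), (22,2)], [(14,1), (15,2), (22,2)], [(22,1)], [(15,2), (22,2)]]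
  sels := [[[(3,1), (5,1), (8,1), (17,2)]],
    [[], [(1,2), (3,2), (6,1), (9,2), (14,1), (16,2), (20,1), (22,2)]],
    [[], [], [(0,1), (1,1), (2,2), (3,1), (6,1), (8,2), (9,1), (13,2), (15,1), (16,2), (20,1), (22,1)]],
    [[(2,2), (8,1), (9,2), (12,1), (13,2), (14,1), (15,2), (16,2), (18,1)], [], [(0,1), (1,1), (4,2), (6,2), (7,2), (8,2), (9,2), (12,1), (13,2), (23,1), (24,2), (25,2)], [(0,2), (1,1), (2,1), (3,1), (5,2), (6,2), (9,1), (14,2), (16,1), (20,1), (22,1)]],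
    [[(2,1), (4,1), (5,1), (6,2), (7,2), (8,2), (13,2), (14,1), (15,1), (16,2), (18,1), (19,2)], [(0,1), (1,1), (3,1), (4,1), (5,2), (8,2), (9,2), (10,2), (11,2), (12,1), (13,2), (14,1), (15,2), (16,2), (23,2), (24,1), (25,1)], [(0,1), (1,1), (2,2), (3,1), (4,2), (5,1), (6,1), (7,2), (9,2), (10,2), (12,1), (14,1), (15,2), (16,2), (21,1), (23,1), (24,2), (25,2)], [(0,1), (1,1), (2,2), (3,1), (4,1), (6,1), (8,1), (10,2), (12,1), (13,2), (14,2), (15,1), (21,1), (23,1), (24,2), (25,2)], [(3,1), (5,1), (8,1)]],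
    [[(12,2), (15,1), (16,2)], [(0,1), (1,1), (4,2), (5,2), (6,2), (7,1), (11,1), (13,1), (14,1), (15,2), (16,1)], [(2,1), (3,1), (4,2), (5,2), (7,1), (9,2), (11,1), (13,2), (14,1), (15,2), (16,2)], [(3,1), (4,2), (5,2), (6,1), (7,1), (9,2), (11,1), (13,2), (14,1), (15,2), (16,2)], [(4,2), (5,2), (7,1), (8,2), (9,2), (11,1), (13,2), (14,1), (15,2), (16,2)], [(8,2)]],
    [[(4,2), (5,2), (7,1), (8,1), (12,2), (13,1), (14,2), (15,2)], [(0,2), (1,2), (2,2), (4,2), (5,2), (6,2), (7,1), (8,1), (9,1), (10,2), (11,1), (14,2), (15,2)], [(0,2), (1,2), (2,2), (3,1), (4,2), (5,2), (7,1), (8,2), (9,1), (11,1), (13,2), (14,1)], [(0,2), (1,2), (2,1), (3,1), (4,2), (5,2), (6,1), (7,1), (8,2), (9,1), (11,1), (15,2), (16,1)], [(2,1), (4,2), (5,2), (6,2), (7,1), (8,2), (9,2), (11,1), (13,2), (14,1), (15,1), (16,1)], [(2,1), (6,2), (16,1)], [(5,1), (8,1)]]]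

/-- The words of the generators. -/
def pcwThree : List (List ℕ) := [[1,2,0,2,0,1,2,0,2,1,0,1,0,1,2,1,2,1,2,0,1,0,2,0,1,0,2,0,2,1,2,0,2,0,2,0,1],
  [0,2,1,0,1,0,1,2,0,2,1,2,0,1,2,0,1,2,0,2,0,1,0,2,1,0,2,0,1,2,1,2,0,1,0,1],
  [0,2,0,2,1,2,1,0,2,1,2,0,1,0,1,2,1,2,0,2,0,2,1,0,2,1,2,1,2,0,1,2,0,1,2],
  [0,1,0,2,0,2,0,1,0,2,1,2,0,2,1,0,1,0,1,2,1,2,0,1,0,1,2,0,2,1,0,2,1,0],
  [0,1,0,1,2,1,2,0,1,2,0,1,2,1,2,0,1,0,2,1,0,1,2,1,2,0,2,1,2,1,2,1,0,2,1,0],
  [0,2,1,2,1,0,2,0,1,0,1,2,1,0,2,1,2,0,2,0,2,1,0,1,2,0,2,0,1,0,2,1,0,2,0,2,0,1,2,0],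
  [2,1,2,1,0,2,1,2,1,0,2,1,2,1,0,2,0,2,1,2,0,1,2,1,0,2,1,2,0,1,2,1,0,1,0]]

/-- The words of the conjugators. -/
def fwThree : List (List ℕ) := [[0,1,2,0,1,0,1,2,0,2,1,2,1,2,0,2,0,1,0,2,0,1,0,1,2,1,0,2,0,2,1,2,1,0,1,0],
  [1,0,2,0,1,0,2,0,2,1,2,1,2,0,1,2,0,1,0,2,1,2,0,1,0,1,0,2,0,1,0,2,0,1,2,0,1]]

def sylThreeGen0P0 : List (List ℕ) :=
  [[5],
   [6],
   [2,3],
   [1],
   [1,5],
   [3],
   [3,4],
   [2]]

def sylThreeOrb0P0 : List (ℕ × ℕ × ℕ) :=
  [(1,0,0),
   (2,0,1),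
   (3,0,2),
   (4,0,3),
   (5,0,4),
   (6,0,5),
   (7,0,6),
   (8,0,7)]

def sylThreeLev0 : ℕ × List (List ℕ) × List (ℕ × ℕ × ℕ) := (0, sylThreeGen0P0, sylThreeOrb0P0)

def sylThreeGen1P0 : List (List ℕ) :=
  [[0,0],
   [0]]

def sylThreeOrb1P0 : List (ℕ × ℕ × ℕ) :=
  [(4,3,0),
   (5,3,1)]

def sylThreeLev1 : ℕ × List (List ℕ) × List (ℕ × ℕ × ℕ) := (3, sylThreeGen1P0, sylThreeOrb1P0)

def sylThreeGen2P0 : List (List ℕ) :=
  [[0,4,4],
   [0,0,4]]

def sylThreeOrb2P0 : List (ℕ × ℕ × ℕ) :=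
  [(7,6,0),
   (8,6,1)]

def sylThreeLev2 : ℕ × List (List ℕ) × List (ℕ × ℕ × ℕ) := (6, sylThreeGen2P0, sylThreeOrb2P0)

def sylThreeGen3P0 : List (List ℕ) :=
  [[5,6],
   [5,5,6,6],
   [1,1,2,2,5,6],
   [1,1,2,3,4,4],
   [1,1,2,2],
   [1,2],
   [1,3,4,4],
   [1,3,4,4,5,6]]

def sylThreeOrb3P0 : List (ℕ × ℕ × ℕ) :=
  [(10,9,0),
   (11,9,1),
   (12,9,2),
   (13,9,3),
   (14,9,4),
   (15,9,5),
   (16,9,6),
   (17,9,7)]

def sylThreeLev3 : ℕ × List (List ℕ) × List (ℕ × ℕ × ℕ) := (9, sylThreeGen3P0, sylThreeOrb3P0)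

def sylThreeGen4P0 : List (List ℕ) :=
  [[2,3,3,4,5,5,6],
   [2,2,3,4,4]]

def sylThreeOrb4P0 : List (ℕ × ℕ × ℕ) :=
  [(13,12,0),
   (14,12,1)]

def sylThreeLev4 : ℕ × List (List ℕ) × List (ℕ × ℕ × ℕ) := (12, sylThreeGen4P0, sylThreeOrb4P0)

/-- A chain for the Sylow subgroup. -/
def sylThree : List (ℕ × List (List ℕ) × List (ℕ × ℕ × ℕ)) := [sylThreeLev0, sylThreeLev1, sylThreeLev2, sylThreeLev3, sylThreeLev4]

end Cfsg.Lib.USixTwoCover
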