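import Cfsg.Agent.USixTwoCover.Cert
import Cfsg.Agent.Schur.PrimeCertLit

/-!
The certificate at the prime 2 checked in small parts from written-out equations.
-/

set_option autoImplicit false
set_option maxRecDepth 100000
set_option Elab.async false

namespace Cfsg.Lib.USixTwoCover

open Cfsg.Lib.Schur.Prime (Cert)

def ovP0 : List (List ℕ × ℕ) :=
  [([0,0,0], 1), ([1,1,0], 1), ([1,0,0], 1), ([1,1,1], 1), ([2,2,0], 1), ([2,0,0], 1), ([2,1,0], 1), ([2,2,1], 1), ([2,1,1], 1), ([2,2,2], 1), ([3,3,0], 1), ([3,0,0], 1)]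

def ovE0 : List (Bool × Cfsg.Lib.Schur.Prime.Form) := [
  (true, [(153, 1), (170, 1), (204, 1), (214, 1), (216, 1), (221, 1), (250, 1), (251, 1), (252, 1), (255, 1), (265, 1), (268, 1), (270, 1)]),
  (true, [(69, 1), (72, 1), (86, 1), (89, 1), (90, 1), (103, 1), (106, 1), (120, 1), (123, 1), (137, 1), (140, 1), (141, 1), (144, 1), (153, 1), (158, 1), (159, 1), (161, 1), (175, 1), (176, 1), (177, 1), (178, 1), (179, 1), (180, 1), (193, 1), (194, 1), (195, 1), (196, 1), (198, 1), (208, 1), (209, 1), (210, 1), (212, 1), (213, 1), (214, 1), (215, 1), (216, 1), (226, 1), (227, 1), (231, 1), (232, 1), (233, 1), (242, 1), (246, 1), (247, 1), (248, 1), (249, 1), (250, 1), (251, 1), (256, 1), (259, 1), (261, 1), (262, 1), (265, 1), (270, 1), (277, 1), (282, 1), (283, 1), (284, 1), (285, 1), (287, 1), (288, 1)]),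
  (true, [(68, 1), (72, 1), (85, 1), (89, 1), (90, 1), (102, 1), (106, 1), (107, 1), (108, 1), (119, 1), (123, 1), (125, 1), (136, 1), (140, 1), (143, 1), (144, 1), (154, 1), (159, 1), (161, 1), (162, 1), (171, 1), (175, 1), (177, 1), (178, 1), (179, 1), (180, 1), (193, 1), (195, 1), (196, 1), (198, 1), (205, 1), (213, 1), (216, 1), (222, 1), (226, 1), (231, 1), (232, 1), (234, 1), (243, 1), (245, 1), (246, 1), (247, 1), (248, 1), (249, 1), (250, 1), (251, 1), (252, 1), (255, 1), (256, 1), (259, 1), (260, 1), (262, 1), (263, 1), (264, 1), (270, 1), (278, 1), (282, 1), (283, 1), (285, 1), (287, 1), (288, 1)]),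
  (true, [(154, 1)]),
  (true, [(70, 1), (72, 1), (87, 1), (89, 1), (90, 1), (104, 1), (106, 1), (107, 1), (108, 1), (136, 1), (141, 1), (144, 1), (172, 1), (174, 1), (175, 1), (176, 1), (180, 1), (187, 1), (192, 1), (197, 1), (204, 1), (208, 1), (212, 1), (216, 1), (221, 1), (223, 1), (226, 1), (232, 1), (234, 1), (240, 1), (242, 1), (246, 1), (248, 1), (249, 1), (251, 1), (252, 1), (255, 1), (257, 1), (260, 1), (265, 1), (266, 1), (267, 1), (268, 1), (272, 1), (274, 1), (276, 1), (277, 1), (282, 1), (285, 1), (288, 1)]),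
  (true, [(68, 1), (72, 1), (85, 1), (89, 1), (90, 1), (102, 1), (106, 1), (107, 1), (108, 1), (124, 1), (126, 1), (141, 1), (142, 1), (155, 1), (159, 1), (161, 1), (162, 1), (170, 1), (172, 1), (174, 1), (176, 1), (177, 1), (178, 1), (179, 1), (193, 1), (194, 1), (195, 1), (196, 1), (197, 1), (198, 1), (206, 1), (208, 1), (209, 1), (213, 1), (221, 1), (223, 1), (225, 1), (227, 1), (230, 1), (231, 1), (234, 1), (238, 1), (242, 1), (243, 1), (244, 1), (245, 1), (247, 1), (255, 1), (257, 1), (259, 1), (261, 1), (262, 1), (264, 1), (265, 1), (266, 1), (272, 1), (276, 1), (277, 1), (278, 1), (279, 1), (282, 1), (284, 1), (285, 1), (288, 1)]),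
  (true, [(68, 1), (69, 1), (70, 1), (85, 1), (86, 1), (87, 1), (103, 1), (104, 1), (107, 1), (108, 1), (121, 1), (138, 1), (141, 1), (142, 1), (143, 1), (153, 1), (157, 1), (160, 1), (161, 1), (162, 1), (171, 1), (177, 1), (187, 1), (195, 1), (204, 1), (209, 1), (211, 1), (221, 1), (222, 1), (225, 1), (227, 1), (229, 1), (230, 1), (232, 1), (233, 1), (234, 1), (239, 1), (243, 1), (247, 1), (249, 1), (250, 1), (252, 1), (255, 1), (256, 1), (257, 1), (259, 1), (262, 1), (267, 1), (268, 1), (270, 1), (272, 1), (273, 1), (277, 1), (278, 1), (279, 1), (280, 1), (281, 1), (282, 1), (283, 1), (287, 1), (288, 1)]),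
  (true, [(70, 1), (72, 1), (87, 1), (89, 1), (90, 1), (137, 1), (141, 1), (144, 1), (155, 1), (157, 1), (158, 1), (162, 1), (188, 1), (189, 1), (191, 1), (192, 1), (196, 1), (198, 1), (205, 1), (206, 1), (212, 1), (213, 1), (216, 1), (222, 1), (223, 1), (225, 1), (230, 1), (234, 1), (243, 1), (249, 1), (250, 1), (252, 1), (256, 1), (257, 1), (260, 1), (263, 1), (264, 1), (266, 1), (267, 1), (273, 1), (274, 1), (281, 1)]),
  (true, [(69, 1), (72, 1), (86, 1), (89, 1), (90, 1), (107, 1), (108, 1), (124, 1), (125, 1), (126, 1), (142, 1), (143, 1), (154, 1), (155, 1), (157, 1), (159, 1), (160, 1), (161, 1), (175, 1), (176, 1), (177, 1), (178, 1), (179, 1), (180, 1), (188, 1), (191, 1), (193, 1), (194, 1), (195, 1), (196, 1), (198, 1), (205, 1), (208, 1), (209, 1), (212, 1), (213, 1), (214, 1), (216, 1), (222, 1), (225, 1), (226, 1), (227, 1), (231, 1), (232, 1), (233, 1), (243, 1), (252, 1), (256, 1), (259, 1), (260, 1), (263, 1), (264, 1), (268, 1), (270, 1), (273,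 1), (276, 1), (279, 1), (281, 1), (282, 1), (283, 1), (284, 1)]),
  (true, [(138, 1), (189, 1), (206, 1), (223, 1), (249, 1), (252, 1), (257, 1), (266, 1), (269, 1), (270, 1), (274, 1)]),
  (true, [(153, 1), (156, 1), (162, 1), (170, 1), (173, 1), (179, 1), (180, 1), (204, 1), (231, 1), (233, 1), (234, 1), (238, 1), (247, 1), (248, 1), (250, 1), (258, 1), (265, 1), (270, 1), (272, 1), (275, 1), (281, 1), (284, 1), (285, 1), (287, 1)]),
  (true, [(153, 1), (156, 1), (162, 1), (170, 1), (173, 1), (179, 1), (180, 1), (207, 1), (224, 1), (231, 1), (233, 1), (234, 1), (250, 1), (255, 1), (258, 1), (264, 1), (269, 1), (270, 1), (272, 1), (281, 1), (284, 1), (285, 1), (287, 1)])]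

theorem ov_eq0 : (ovP0.map certTwo.overlapEq == ovE0) = true := by decide +kernel

def ovP1 : List (List ℕ × ℕ) :=
  [([3,1,0], 1), ([3,3,1], 1), ([3,1,1], 1), ([3,2,0], 1), ([3,2,1], 1), ([3,3,2], 1), ([3,2,2], 1), ([3,3,3], 1), ([4,4,0], 1), ([4,0,0], 1), ([4,1,0], 1), ([4,4,1], 1)]

def ovE1 : List (Bool × Cfsg.Lib.Schur.Prime.Form) := [
  (true, [(68, 1), (71, 1), (85, 1), (88, 1), (102, 1), (105, 1), (107, 1), (108, 1), (119, 1), (122, 1), (124, 1), (126, 1), (139, 1), (140, 1), (141, 1), (142, 1), (154, 1), (160, 1), (161, 1), (170, 1), (171, 1), (174, 1), (176, 1), (178, 1), (180, 1), (192, 1), (194, 1), (196, 1), (198, 1), (209, 1), (210, 1), (211, 1), (213, 1), (214, 1), (225, 1), (226, 1), (227, 1), (228, 1), (229, 1), (232, 1), (233, 1), (234, 1), (242, 1), (243, 1), (244, 1), (245, 1), (250, 1), (255, 1), (256, 1), (258, 1), (259, 1), (264, 1), (267, 1), (269, 1), (273, 1), (277, 1), (279, 1), (283, 1), (287, 1)]),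
  (true, [(71, 1), (72, 1), (88, 1), (89, 1), (90, 1), (105, 1), (106, 1), (122, 1), (123, 1), (124, 1), (125, 1), (126, 1), (141, 1), (142, 1), (143, 1), (154, 1), (159, 1), (160, 1), (161, 1), (162, 1), (171, 1), (173, 1), (174, 1), (175, 1), (176, 1), (177, 1), (180, 1), (192, 1), (194, 1), (195, 1), (205, 1), (208, 1), (209, 1), (210, 1), (213, 1), (214, 1), (215, 1), (227, 1), (230, 1), (232, 1), (239, 1), (243, 1), (245, 1), (247, 1), (249, 1), (258, 1), (259, 1), (261, 1), (265, 1), (267, 1), (268, 1), (269, 1), (273, 1), (277, 1), (278, 1), (279, 1), (282, 1), (284, 1), (287, 1), (288, 1)]),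
  (true, [(69, 1), (72, 1), (86, 1), (89, 1), (90, 1), (103, 1), (106, 1), (120, 1), (123, 1), (142, 1), (143, 1), (156, 1), (158, 1), (159, 1), (161, 1), (171, 1), (174, 1), (178, 1), (179, 1), (192, 1), (193, 1), (194, 1), (195, 1), (213, 1), (215, 1), (216, 1), (229, 1), (231, 1), (232, 1), (233, 1), (243, 1), (245, 1), (246, 1), (248, 1), (250, 1), (251, 1), (256, 1), (259, 1), (260, 1), (261, 1), (263, 1), (264, 1), (265, 1), (266, 1), (267, 1), (268, 1), (269, 1), (270, 1), (277, 1), (280, 1), (281, 1), (282, 1), (284, 1), (286, 1), (287, 1), (288, 1)]),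
  (true, [(71, 1), (88, 1), (102, 1), (105, 1), (106, 1), (108, 1), (136, 1), (140, 1), (141, 1), (142, 1), (144, 1), (155, 1), (157, 1), (158, 1), (161, 1), (162, 1), (170, 1), (172, 1), (173, 1), (187, 1), (192, 1), (195, 1), (198, 1), (204, 1), (212, 1), (213, 1), (214, 1), (216, 1), (224, 1), (225, 1), (230, 1), (231, 1), (233, 1), (234, 1), (241, 1), (242, 1), (244, 1), (246, 1), (249, 1), (252, 1), (257, 1), (258, 1), (260, 1), (261, 1), (264, 1), (265, 1), (266, 1), (267, 1), (268, 1), (272, 1), (274, 1), (275, 1), (280, 1), (281, 1), (282, 1), (283, 1), (284, 1), (285, 1), (287, 1)]),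
  (true, [(70, 1), (71, 1), (87, 1), (88, 1), (103, 1), (104, 1), (106, 1), (108, 1), (121, 1), (123, 1), (124, 1), (125, 1), (137, 1), (142, 1), (156, 1), (161, 1), (162, 1), (171, 1), (172, 1), (174, 1), (175, 1), (177, 1), (179, 1), (188, 1), (190, 1), (191, 1), (194, 1), (195, 1), (196, 1), (205, 1), (207, 1), (208, 1), (209, 1), (210, 1), (214, 1), (216, 1), (224, 1), (225, 1), (227, 1), (229, 1), (233, 1), (234, 1), (243, 1), (245, 1), (257, 1), (258, 1), (260, 1), (264, 1), (265, 1), (267, 1), (269, 1), (273, 1), (275, 1), (278, 1), (280, 1), (281, 1), (282, 1), (284, 1), (285, 1), (287, 1), (288, 1)]),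
  (true, [(105, 1), (108, 1), (139, 1), (142, 1), (144, 1), (155, 1), (172, 1), (173, 1), (176, 1), (178, 1), (180, 1), (190, 1), (195, 1), (197, 1), (198, 1), (206, 1), (207, 1), (210, 1), (213, 1), (215, 1), (216, 1), (230, 1), (231, 1), (232, 1), (240, 1), (247, 1), (249, 1), (250, 1), (252, 1), (264, 1), (268, 1), (270, 1), (274, 1), (275, 1), (278, 1), (280, 1), (284, 1)]),
  (true, [(104, 1), (108, 1), (138, 1), (139, 1), (142, 1), (144, 1), (172, 1), (176, 1), (178, 1), (180, 1), (189, 1), (190, 1), (193, 1), (206, 1), (207, 1), (210, 1), (214, 1), (215, 1), (224, 1), (231, 1), (232, 1), (233, 1), (244, 1), (246, 1), (248, 1), (250, 1), (252, 1), (258, 1), (261, 1), (263, 1), (265, 1), (267, 1), (268, 1), (269, 1), (270, 1), (274, 1), (275, 1), (278, 1), (284, 1), (287, 1)]),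
  (true, [(156, 1), (173, 1), (207, 1), (214, 1), (216, 1), (231, 1), (233, 1), (234, 1), (241, 1), (250, 1), (252, 1), (267, 1), (269, 1), (270, 1), (275, 1), (282, 1), (284, 1), (285, 1), (286, 1), (287, 1), (288, 1)]),
  (true, [(123, 1), (126, 1), (174, 1), (177, 1), (180, 1), (191, 1), (194, 1), (208, 1), (214, 1), (215, 1), (228, 1), (232, 1), (233, 1), (234, 1), (249, 1), (250, 1), (262, 1), (268, 1), (270, 1), (276, 1), (279, 1)]),
  (true, [(119, 1), (126, 1), (157, 1), (170, 1), (174, 1), (177, 1), (180, 1), (187, 1), (194, 1), (204, 1), (208, 1), (214, 1), (225, 1), (230, 1), (232, 1), (233, 1), (234, 1), (250, 1), (251, 1), (252, 1), (259, 1), (264, 1), (265, 1), (267, 1), (268, 1), (270, 1), (272, 1), (279, 1), (283, 1), (284, 1), (287, 1)]),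
  (true, [(89, 1), (102, 1), (107, 1), (119, 1), (120, 1), (123, 1), (136, 1), (141, 1), (144, 1), (153, 1), (161, 1), (170, 1), (171, 1), (176, 1), (179, 1), (187, 1), (188, 1), (197, 1), (198, 1), (205, 1), (209, 1), (211, 1), (212, 1), (215, 1), (221, 1), (226, 1), (230, 1), (231, 1), (234, 1), (242, 1), (245, 1), (246, 1), (247, 1), (248, 1), (252, 1), (259, 1), (260, 1), (262, 1), (264, 1), (266, 1), (267, 1), (269, 1), (273, 1), (279, 1), (280, 1), (284, 1), (285, 1), (286, 1)]),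
  (true, [(106, 1), (108, 1), (123, 1), (125, 1), (126, 1), (140, 1), (142, 1), (143, 1), (144, 1), (157, 1), (159, 1), (160, 1), (161, 1), (162, 1), (174, 1), (176, 1), (177, 1), (178, 1), (179, 1), (180, 1), (191, 1), (193, 1), (194, 1), (210, 1), (211, 1), (214, 1), (215, 1), (216, 1), (225, 1), (229, 1), (230, 1), (232, 1), (244, 1), (245, 1), (247, 1), (248, 1), (264, 1), (265, 1), (266, 1), (270, 1), (278, 1), (282, 1), (284, 1), (285, 1), (286, 1)])]

theorem ov_eq1 : (ovP1.map certTwo.overlapEq == ovE1) = true := by decide +kernel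

def ovP2 : List (List ℕ × ℕ) :=
  [([4,1,1], 1), ([4,2,0], 1), ([4,2,1], 1), ([4,4,2], 1), ([4,2,2], 1), ([4,3,0], 1), ([4,3,1], 1), ([4,3,2], 1), ([4,4,3], 1), ([4,3,3], 1), ([5,5,0], 1), ([5,0,0], 1)]

def ovE2 : List (Bool × Cfsg.Lib.Schur.Prime.Form) := [
  (true, [(103, 1), (108, 1), (120, 1), (125, 1), (126, 1), (137, 1), (142, 1), (143, 1), (144, 1), (154, 1), (157, 1), (159, 1), (161, 1), (171, 1), (176, 1), (177, 1), (178, 1), (179, 1), (180, 1), (188, 1), (193, 1), (194, 1), (195, 1), (196, 1), (197, 1), (198, 1), (214, 1), (222, 1), (227, 1), (228, 1), (231, 1), (233, 1), (234, 1), (251, 1), (252, 1), (265, 1), (266, 1), (267, 1), (279, 1), (280, 1), (281, 1), (284, 1), (285, 1), (286, 1)]),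
  (true, [(89, 1), (106, 1), (121, 1), (123, 1), (124, 1), (125, 1), (140, 1), (141, 1), (143, 1), (172, 1), (175, 1), (176, 1), (177, 1), (189, 1), (194, 1), (197, 1), (206, 1), (208, 1), (210, 1), (211, 1), (212, 1), (214, 1), (215, 1), (216, 1), (225, 1), (226, 1), (229, 1), (232, 1), (238, 1), (242, 1), (244, 1), (246, 1), (249, 1), (250, 1), (252, 1), (263, 1), (267, 1), (269, 1), (270, 1), (272, 1), (274, 1), (277, 1), (279, 1), (280, 1), (282, 1), (283, 1), (284, 1), (285, 1), (286, 1)]),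
  (true, [(89, 1), (104, 1), (106, 1), (107, 1), (121, 1), (123, 1), (124, 1), (138, 1), (142, 1), (143, 1), (155, 1), (158, 1), (159, 1), (160, 1), (161, 1), (172, 1), (174, 1), (175, 1), (179, 1), (189, 1), (192, 1), (193, 1), (195, 1), (196, 1), (198, 1), (210, 1), (213, 1), (223, 1), (228, 1), (229, 1), (230, 1), (231, 1), (233, 1), (234, 1), (239, 1), (242, 1), (248, 1), (252, 1), (259, 1), (261, 1), (262, 1), (264, 1), (265, 1), (268, 1), (269, 1), (270, 1), (273, 1), (278, 1), (280, 1), (286, 1), (287, 1), (288, 1)]),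
  (true, [(242, 1), (252, 1), (276, 1), (286, 1), (288, 1)]),
  (true, [(140, 1), (191, 1), (208, 1), (225, 1), (240, 1), (249, 1), (251, 1), (252, 1), (259, 1), (266, 1), (268, 1), (274, 1), (276, 1), (286, 1), (288, 1)]),
  (true, [(102, 1), (122, 1), (125, 1), (157, 1), (159, 1), (160, 1), (161, 1), (173, 1), (174, 1), (177, 1), (179, 1), (187, 1), (190, 1), (195, 1), (207, 1), (214, 1), (216, 1), (221, 1), (227, 1), (230, 1), (232, 1), (238, 1), (245, 1), (246, 1), (248, 1), (255, 1), (259, 1), (261, 1), (267, 1), (268, 1), (269, 1), (270, 1), (272, 1), (275, 1), (276, 1), (286, 1), (287, 1), (288, 1)]),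
  (true, [(89, 1), (103, 1), (105, 1), (106, 1), (122, 1), (124, 1), (139, 1), (156, 1), (159, 1), (161, 1), (173, 1), (175, 1), (178, 1), (179, 1), (188, 1), (190, 1), (195, 1), (209, 1), (210, 1), (211, 1), (214, 1), (222, 1), (224, 1), (225, 1), (228, 1), (229, 1), (230, 1), (232, 1), (233, 1), (234, 1), (239, 1), (242, 1), (244, 1), (245, 1), (249, 1), (250, 1), (252, 1), (256, 1), (259, 1), (261, 1), (262, 1), (264, 1), (265, 1), (268, 1), (269, 1), (273, 1), (278, 1), (281, 1), (284, 1), (285, 1)]),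
  (true, [(104, 1), (106, 1), (140, 1), (142, 1), (174, 1), (176, 1), (189, 1), (191, 1), (193, 1), (195, 1), (197, 1), (198, 1), (208, 1), (210, 1), (212, 1), (214, 1), (223, 1), (232, 1), (234, 1), (240, 1), (241, 1), (249, 1), (251, 1), (252, 1), (257, 1), (263, 1), (265, 1), (270, 1), (274, 1), (275, 1), (276, 1), (278, 1), (287, 1), (288, 1)]),
  (true, [(106, 1), (108, 1), (191, 1), (193, 1), (198, 1), (210, 1), (216, 1), (225, 1), (232, 1), (233, 1), (242, 1), (244, 1), (249, 1), (259, 1), (261, 1), (266, 1), (276, 1), (278, 1), (283, 1), (285, 1), (286, 1), (287, 1), (288, 1)]),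
  (true, [(105, 1), (108, 1), (157, 1), (174, 1), (190, 1), (193, 1), (208, 1), (210, 1), (213, 1), (216, 1), (224, 1), (230, 1), (232, 1), (241, 1), (242, 1), (244, 1), (249, 1), (252, 1), (258, 1), (261, 1), (267, 1), (270, 1), (275, 1), (276, 1), (278, 1), (282, 1), (284, 1), (285, 1), (286, 1), (287, 1)]),
  (true, [(124, 1), (126, 1), (136, 1), (141, 1), (143, 1), (144, 1), (158, 1), (160, 1), (161, 1), (162, 1), (175, 1), (177, 1), (178, 1), (179, 1), (180, 1), (195, 1), (196, 1), (197, 1), (198, 1), (204, 1), (209, 1), (214, 1), (216, 1), (229, 1), (231, 1), (232, 1), (233, 1), (234, 1), (245, 1), (246, 1), (247, 1), (248, 1), (250, 1), (251, 1), (255, 1), (260, 1), (263, 1), (267, 1), (268, 1), (269, 1), (282, 1), (283, 1), (284, 1), (285, 1), (288, 1)]),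
  (true, [(119, 1), (126, 1), (136, 1), (143, 1), (144, 1), (153, 1), (158, 1), (160, 1), (161, 1), (162, 1), (170, 1), (175, 1), (177, 1), (178, 1), (179, 1), (180, 1), (195, 1), (196, 1), (197, 1), (198, 1), (204, 1), (209, 1), (215, 1), (226, 1), (231, 1), (245, 1), (251, 1), (255, 1), (260, 1), (263, 1), (264, 1), (268, 1), (270, 1), (282, 1), (283, 1), (284, 1), (285, 1), (288, 1)])]

theorem ov_eq2 : (ovP2.map certTwo.overlapEq == ovE2) = true := by decide +kernel

def ovP3 : List (List ℕ × ℕ) :=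
  [([5,1,0], 1), ([5,5,1], 1), ([5,1,1], 1), ([5,2,0], 1), ([5,2,1], 1), ([5,5,2], 1), ([5,2,2], 1), ([5,3,0], 1), ([5,3,1], 1), ([5,3,2], 1), ([5,5,3], 1), ([5,3,3], 1)]

def ovE3 : List (Bool × Cfsg.Lib.Schur.Prime.Form) := [
  (true, [(89, 1), (102, 1), (106, 1), (119, 1), (120, 1), (124, 1), (136, 1), (137, 1), (153, 1), (154, 1), (157, 1), (158, 1), (170, 1), (171, 1), (176, 1), (178, 1), (187, 1), (191, 1), (192, 1), (195, 1), (198, 1), (204, 1), (205, 1), (209, 1), (210, 1), (221, 1), (228, 1), (229, 1), (230, 1), (232, 1), (233, 1), (234, 1), (238, 1), (242, 1), (243, 1), (244, 1), (250, 1), (251, 1), (252, 1), (256, 1), (259, 1), (260, 1), (262, 1), (263, 1), (264, 1), (272, 1), (276, 1), (278, 1), (280, 1), (282, 1), (285, 1), (287, 1)]),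
  (true, [(107, 1), (108, 1), (124, 1), (125, 1), (126, 1), (137, 1), (141, 1), (142, 1), (143, 1), (144, 1), (158, 1), (159, 1), (160, 1), (161, 1), (162, 1), (175, 1), (176, 1), (177, 1), (178, 1), (179, 1), (180, 1), (192, 1), (193, 1), (194, 1), (205, 1), (209, 1), (210, 1), (211, 1), (213, 1), (215, 1), (226, 1), (227, 1), (231, 1), (234, 1), (243, 1), (244, 1), (245, 1), (247, 1), (248, 1), (249, 1), (256, 1), (268, 1), (269, 1), (270, 1), (277, 1), (278, 1), (281, 1), (284, 1), (285, 1), (286, 1)]),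
  (true, [(103, 1), (108, 1), (120, 1), (125, 1), (126, 1), (137, 1), (142, 1), (143, 1), (144, 1), (154, 1), (158, 1), (159, 1), (161, 1), (171, 1), (176, 1), (177, 1), (178, 1), (179, 1), (180, 1), (188, 1), (193, 1), (194, 1), (195, 1), (196, 1), (197, 1), (198, 1), (205, 1), (210, 1), (211, 1), (212, 1), (213, 1), (215, 1), (216, 1), (222, 1), (227, 1), (228, 1), (231, 1), (234, 1), (239, 1), (244, 1), (245, 1), (246, 1), (247, 1), (248, 1), (249, 1), (265, 1), (266, 1), (267, 1), (273, 1), (278, 1), (282, 1), (283, 1), (286, 1), (288, 1)]),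
  (true, [(89, 1), (107, 1), (121, 1), (123, 1), (124, 1), (125, 1), (138, 1), (141, 1), (142, 1), (143, 1), (144, 1), (155, 1), (157, 1), (158, 1), (159, 1), (172, 1), (174, 1), (176, 1), (177, 1), (178, 1), (179, 1), (191, 1), (192, 1), (193, 1), (194, 1), (196, 1), (204, 1), (206, 1), (209, 1), (212, 1), (213, 1), (214, 1), (216, 1), (226, 1), (229, 1), (231, 1), (232, 1), (234, 1), (242, 1), (243, 1), (245, 1), (246, 1), (247, 1), (248, 1), (250, 1), (257, 1), (261, 1), (263, 1), (264, 1), (266, 1), (268, 1), (270, 1), (276, 1), (277, 1), (280, 1), (281, 1), (286, 1), (287, 1), (288, 1)]),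
  (true, [(89, 1), (104, 1), (106, 1), (107, 1), (121, 1), (123, 1), (124, 1), (138, 1), (141, 1), (142, 1), (143, 1), (144, 1), (155, 1), (157, 1), (159, 1), (160, 1), (161, 1), (172, 1), (174, 1), (175, 1), (179, 1), (189, 1), (191, 1), (193, 1), (196, 1), (198, 1), (205, 1), (206, 1), (208, 1), (211, 1), (212, 1), (214, 1), (215, 1), (216, 1), (223, 1), (225, 1), (226, 1), (228, 1), (229, 1), (230, 1), (231, 1), (234, 1), (240, 1), (242, 1), (243, 1), (244, 1), (245, 1), (248, 1), (249, 1), (250, 1), (251, 1), (252, 1), (260, 1), (261, 1), (262, 1), (263, 1), (268, 1), (269, 1), (274, 1), (276, 1), (277, 1), (279, 1), (280, 1), (281, 1), (282, 1), (283, 1), (285, 1), (288, 1)]),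
  (true, [(138, 1), (206, 1), (209, 1), (216, 1), (257, 1), (269, 1)]),
  (true, [(141, 1), (192, 1), (206, 1), (209, 1), (216, 1), (226, 1), (249, 1), (251, 1), (260, 1), (266, 1), (268, 1), (277, 1)]),
  (true, [(102, 1), (122, 1), (125, 1), (136, 1), (139, 1), (142, 1), (143, 1), (153, 1), (156, 1), (158, 1), (161, 1), (173, 1), (175, 1), (177, 1), (178, 1), (187, 1), (193, 1), (197, 1), (204, 1), (207, 1), (211, 1), (212, 1), (215, 1), (216, 1), (229, 1), (232, 1), (234, 1), (238, 1), (244, 1), (245, 1), (248, 1), (250, 1), (252, 1), (258, 1), (260, 1), (261, 1), (262, 1), (263, 1), (264, 1), (265, 1), (267, 1), (268, 1), (269, 1), (277, 1), (278, 1), (279, 1), (281, 1), (282, 1), (286, 1)]),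
  (true, [(89, 1), (103, 1), (105, 1), (107, 1), (122, 1), (123, 1), (137, 1), (139, 1), (140, 1), (144, 1), (154, 1), (156, 1), (157, 1), (158, 1), (159, 1), (161, 1), (173, 1), (174, 1), (178, 1), (179, 1), (188, 1), (190, 1), (195, 1), (196, 1), (205, 1), (207, 1), (209, 1), (210, 1), (211, 1), (213, 1), (216, 1), (224, 1), (228, 1), (229, 1), (230, 1), (231, 1), (239, 1), (241, 1), (243, 1), (244, 1), (245, 1), (246, 1), (247, 1), (248, 1), (250, 1), (259, 1), (260, 1), (261, 1), (262, 1), (263, 1), (265, 1), (266, 1), (267, 1), (268, 1), (269, 1), (275, 1), (277, 1), (278, 1), (282, 1), (288, 1)]),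
  (true, [(104, 1), (107, 1), (138, 1), (141, 1), (155, 1), (159, 1), (161, 1), (175, 1), (176, 1), (178, 1), (179, 1), (189, 1), (192, 1), (193, 1), (196, 1), (197, 1), (198, 1), (206, 1), (207, 1), (209, 1), (212, 1), (214, 1), (227, 1), (232, 1), (234, 1), (240, 1), (244, 1), (248, 1), (252, 1), (263, 1), (266, 1), (270, 1), (277, 1), (280, 1), (281, 1), (286, 1), (288, 1)]),
  (true, [(107, 1), (108, 1), (139, 1), (141, 1), (142, 1), (144, 1), (158, 1), (159, 1), (161, 1), (162, 1), (192, 1), (193, 1), (195, 1), (196, 1), (198, 1), (207, 1), (209, 1), (210, 1), (212, 1), (215, 1), (227, 1), (230, 1), (233, 1), (234, 1), (243, 1), (244, 1), (247, 1), (249, 1), (250, 1), (258, 1), (263, 1), (268, 1), (270, 1), (278, 1), (280, 1), (281, 1), (284, 1), (286, 1)]),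
  (true, [(105, 1), (108, 1), (139, 1), (142, 1), (144, 1), (156, 1), (158, 1), (159, 1), (161, 1), (162, 1), (175, 1), (190, 1), (193, 1), (207, 1), (209, 1), (216, 1), (227, 1), (230, 1), (232, 1), (233, 1), (241, 1), (243, 1), (247, 1), (248, 1), (252, 1), (261, 1), (263, 1), (265, 1), (266, 1), (267, 1), (277, 1), (281, 1), (282, 1), (284, 1), (285, 1)])]

theorem ov_eq3 : (ovP3.map certTwo.overlapEq == ovE3) = true := by decide +kernel

def ovP4 : List (List ℕ × ℕ) :=
  [([5,4,0], 1), ([5,4,1], 1), ([5,4,2], 1), ([5,4,3], 1), ([5,5,4], 1), ([5,4,4], 1), ([6,6,0], 1), ([6,0,0], 1), ([6,1,0], 1), ([6,6,1], 1), ([6,1,1], 1), ([6,2,0], 1)]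

def ovE4 : List (Bool × Cfsg.Lib.Schur.Prime.Form) := [
  (true, [(123, 1), (124, 1), (136, 1), (140, 1), (143, 1), (157, 1), (160, 1), (161, 1), (174, 1), (175, 1), (178, 1), (179, 1), (192, 1), (194, 1), (195, 1), (197, 1), (204, 1), (208, 1), (209, 1), (213, 1), (228, 1), (229, 1), (231, 1), (232, 1), (233, 1), (245, 1), (246, 1), (247, 1), (248, 1), (255, 1), (259, 1), (262, 1), (264, 1), (267, 1), (270, 1), (277, 1), (279, 1), (280, 1), (281, 1), (282, 1), (285, 1), (287, 1), (288, 1)]),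
  (true, [(106, 1), (107, 1), (123, 1), (124, 1), (137, 1), (140, 1), (141, 1), (157, 1), (158, 1), (174, 1), (175, 1), (191, 1), (192, 1), (205, 1), (208, 1), (213, 1), (214, 1), (216, 1), (225, 1), (226, 1), (227, 1), (230, 1), (231, 1), (232, 1), (233, 1), (242, 1), (249, 1), (250, 1), (256, 1), (264, 1), (265, 1), (266, 1), (267, 1), (276, 1), (281, 1), (282, 1), (286, 1), (287, 1)]),
  (true, [(138, 1), (206, 1), (208, 1), (212, 1), (243, 1), (246, 1), (250, 1), (257, 1), (269, 1), (277, 1), (280, 1), (286, 1)]),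
  (true, [(106, 1), (107, 1), (139, 1), (140, 1), (142, 1), (157, 1), (159, 1), (161, 1), (191, 1), (192, 1), (195, 1), (196, 1), (207, 1), (208, 1), (212, 1), (213, 1), (215, 1), (226, 1), (227, 1), (229, 1), (232, 1), (234, 1), (242, 1), (243, 1), (247, 1), (250, 1), (251, 1), (258, 1), (260, 1), (261, 1), (266, 1), (268, 1), (277, 1), (281, 1), (283, 1), (284, 1), (285, 1)]),
  (true, [(140, 1), (141, 1), (144, 1), (208, 1), (209, 1), (212, 1), (216, 1), (259, 1), (260, 1), (263, 1), (267, 1), (270, 1)]),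
  (true, [(140, 1), (144, 1), (208, 1), (212, 1), (216, 1), (250, 1), (252, 1), (259, 1), (263, 1), (269, 1)]),
  (true, [(142, 1), (144, 1), (159, 1), (161, 1), (162, 1), (204, 1), (210, 1), (212, 1), (213, 1), (216, 1), (221, 1), (227, 1), (229, 1), (230, 1), (233, 1), (234, 1), (246, 1), (261, 1), (264, 1), (267, 1), (268, 1), (270, 1)]),
  (true, [(136, 1), (144, 1), (153, 1), (159, 1), (161, 1), (162, 1), (176, 1), (204, 1), (210, 1), (212, 1), (213, 1), (221, 1), (227, 1), (229, 1), (233, 1), (246, 1), (251, 1), (255, 1), (261, 1), (270, 1)]),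
  (true, [(106, 1), (107, 1), (125, 1), (137, 1), (140, 1), (141, 1), (143, 1), (153, 1), (154, 1), (161, 1), (204, 1), (205, 1), (208, 1), (210, 1), (211, 1), (213, 1), (216, 1), (221, 1), (222, 1), (225, 1), (230, 1), (234, 1), (243, 1), (245, 1), (252, 1), (256, 1), (260, 1), (261, 1), (262, 1), (263, 1), (267, 1), (268, 1), (270, 1), (276, 1), (277, 1), (278, 1), (279, 1), (280, 1), (281, 1), (285, 1), (287, 1)]),
  (true, [(159, 1), (162, 1), (205, 1), (210, 1), (213, 1), (216, 1), (222, 1), (227, 1), (230, 1), (233, 1), (234, 1)]),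
  (true, [(154, 1), (159, 1), (162, 1), (205, 1), (213, 1), (216, 1), (222, 1), (230, 1), (233, 1), (234, 1)]),
  (true, [(106, 1), (107, 1), (138, 1), (140, 1), (141, 1), (142, 1), (155, 1), (157, 1), (158, 1), (159, 1), (176, 1), (178, 1), (179, 1), (187, 1), (191, 1), (192, 1), (193, 1), (195, 1), (196, 1), (197, 1), (204, 1), (206, 1), (216, 1), (223, 1), (225, 1), (226, 1), (227, 1), (229, 1), (230, 1), (233, 1), (234, 1), (238, 1), (243, 1), (244, 1), (247, 1), (248, 1), (249, 1), (250, 1), (252, 1), (255, 1), (257, 1), (259, 1), (264, 1), (267, 1), (268, 1), (270, 1), (272, 1), (276, 1), (282, 1), (283, 1), (285, 1), (286, 1), (287, 1), (288, 1)])]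

theorem ov_eq4 : (ovP4.map certTwo.overlapEq == ovE4) = true := by decide +kernel

def ovP5 : List (List ℕ × ℕ) :=
  [([6,2,1], 1), ([6,6,2], 1), ([6,2,2], 1), ([6,3,0], 1), ([6,3,1], 1), ([6,3,2], 1), ([6,6,3], 1), ([6,3,3], 1), ([6,4,0], 1), ([6,4,1], 1), ([6,4,2], 1), ([6,4,3], 1)]

def ovE5 : List (Bool × Cfsg.Lib.Schur.Prime.Form) := [
  (true, [(106, 1), (107, 1), (155, 1), (157, 1), (158, 1), (159, 1), (188, 1), (191, 1), (192, 1), (193, 1), (196, 1), (205, 1), (206, 1), (210, 1), (223, 1), (225, 1), (226, 1), (227, 1), (232, 1), (233, 1), (234, 1), (239, 1), (242, 1), (243, 1), (249, 1), (256, 1), (259, 1), (260, 1), (261, 1), (264, 1), (269, 1), (273, 1), (276, 1), (278, 1), (281, 1), (286, 1), (288, 1)]),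
  (true, [(193, 1), (198, 1), (206, 1), (210, 1), (215, 1), (216, 1), (223, 1), (244, 1), (249, 1), (250, 1), (252, 1), (261, 1), (266, 1), (267, 1), (269, 1), (270, 1), (278, 1), (283, 1), (284, 1), (286, 1), (287, 1), (288, 1)]),
  (true, [(142, 1), (189, 1), (193, 1), (198, 1), (206, 1), (210, 1), (215, 1), (216, 1), (227, 1), (240, 1), (250, 1), (251, 1), (257, 1), (261, 1), (267, 1), (268, 1), (269, 1), (274, 1), (278, 1), (283, 1), (284, 1), (286, 1), (287, 1), (288, 1)]),
  (true, [(139, 1), (156, 1), (159, 1), (161, 1), (176, 1), (178, 1), (179, 1), (187, 1), (195, 1), (197, 1), (207, 1), (212, 1), (213, 1), (214, 1), (221, 1), (224, 1), (230, 1), (231, 1), (233, 1), (238, 1), (246, 1), (247, 1), (249, 1), (251, 1), (255, 1), (258, 1), (261, 1), (264, 1), (265, 1), (266, 1), (267, 1), (278, 1), (280, 1), (283, 1), (284, 1), (285, 1), (286, 1), (288, 1)]),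
  (true, [(106, 1), (107, 1), (125, 1), (156, 1), (157, 1), (158, 1), (159, 1), (160, 1), (176, 1), (179, 1), (188, 1), (191, 1), (192, 1), (193, 1), (194, 1), (196, 1), (197, 1), (207, 1), (213, 1), (222, 1), (224, 1), (225, 1), (226, 1), (230, 1), (232, 1), (233, 1), (234, 1), (239, 1), (242, 1), (243, 1), (244, 1), (245, 1), (248, 1), (249, 1), (250, 1), (252, 1), (256, 1), (259, 1), (260, 1), (262, 1), (264, 1), (265, 1), (268, 1), (270, 1), (276, 1), (278, 1), (279, 1), (281, 1), (283, 1), (284, 1), (285, 1), (286, 1), (287, 1), (288, 1)]),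
  (true, [(142, 1), (176, 1), (189, 1), (190, 1), (193, 1), (207, 1), (210, 1), (223, 1), (233, 1), (240, 1), (241, 1), (248, 1), (249, 1), (251, 1), (257, 1), (258, 1), (265, 1), (266, 1), (268, 1), (275, 1), (280, 1), (282, 1), (286, 1), (287, 1)]),
  (true, [(193, 1), (198, 1), (207, 1), (224, 1), (227, 1), (232, 1), (234, 1), (244, 1), (249, 1), (261, 1), (266, 1)]),
  (true, [(159, 1), (176, 1), (190, 1), (198, 1), (210, 1), (216, 1), (224, 1), (232, 1), (233, 1), (241, 1), (244, 1), (249, 1), (258, 1), (266, 1), (267, 1), (268, 1), (278, 1), (284, 1), (285, 1)]),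
  (true, [(125, 1), (140, 1), (143, 1), (157, 1), (160, 1), (176, 1), (178, 1), (179, 1), (193, 1), (195, 1), (196, 1), (204, 1), (208, 1), (210, 1), (211, 1), (212, 1), (213, 1), (214, 1), (221, 1), (225, 1), (228, 1), (231, 1), (245, 1), (246, 1), (247, 1), (249, 1), (250, 1), (251, 1), (259, 1), (263, 1), (264, 1), (265, 1), (267, 1), (269, 1), (278, 1), (279, 1), (287, 1)]),
  (true, [(125, 1), (142, 1), (157, 1), (160, 1), (161, 1), (176, 1), (179, 1), (193, 1), (196, 1), (205, 1), (208, 1), (210, 1), (211, 1), (212, 1), (213, 1), (214, 1), (222, 1), (225, 1), (228, 1), (229, 1), (231, 1), (246, 1), (251, 1), (263, 1), (268, 1), (278, 1), (279, 1), (281, 1), (286, 1), (287, 1)]),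
  (true, [(191, 1), (206, 1), (208, 1), (215, 1), (223, 1), (232, 1), (233, 1), (242, 1), (244, 1), (249, 1), (252, 1), (259, 1), (268, 1), (270, 1), (276, 1), (278, 1), (283, 1), (284, 1), (287, 1)]),
  (true, [(191, 1), (207, 1), (210, 1), (224, 1), (225, 1), (227, 1), (242, 1), (259, 1), (278, 1), (283, 1), (284, 1), (286, 1), (287, 1)])]

theorem ov_eq5 : (ovP5.map certTwo.overlapEq == ovE5) = true := by decide +kernel

def ovP6 : List (List ℕ × ℕ) :=
  [([6,6,4], 1), ([6,5,0], 1), ([6,5,1], 1), ([6,5,2], 1), ([6,5,3], 1), ([6,5,4], 1), ([6,6,5], 1), ([6,5,5], 1), ([7,7,0], 1), ([7,0,0], 1), ([7,1,0], 1), ([7,7,1], 1)]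

def ovE6 : List (Bool × Cfsg.Lib.Schur.Prime.Form) := [
  (true, [(208, 1), (210, 1), (216, 1), (225, 1), (227, 1), (233, 1), (234, 1), (251, 1), (252, 1), (268, 1), (269, 1), (270, 1)]),
  (true, [(125, 1), (141, 1), (142, 1), (143, 1), (158, 1), (159, 1), (160, 1), (176, 1), (178, 1), (179, 1), (204, 1), (209, 1), (210, 1), (211, 1), (214, 1), (226, 1), (229, 1), (230, 1), (233, 1), (245, 1), (247, 1), (248, 1), (250, 1), (251, 1), (260, 1), (261, 1), (264, 1), (267, 1), (279, 1), (280, 1), (281, 1), (285, 1), (286, 1), (287, 1)]),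
  (true, [(125, 1), (142, 1), (158, 1), (160, 1), (161, 1), (176, 1), (179, 1), (193, 1), (196, 1), (205, 1), (209, 1), (211, 1), (212, 1), (214, 1), (226, 1), (227, 1), (232, 1), (233, 1), (244, 1), (246, 1), (247, 1), (263, 1), (268, 1), (279, 1), (286, 1), (287, 1)]),
  (true, [(192, 1), (206, 1), (209, 1), (210, 1), (243, 1), (250, 1), (252, 1), (260, 1), (267, 1), (269, 1), (270, 1), (277, 1)]),
  (true, [(142, 1), (159, 1), (192, 1), (195, 1), (196, 1), (207, 1), (212, 1), (213, 1), (215, 1), (226, 1), (227, 1), (229, 1), (230, 1), (232, 1), (243, 1), (246, 1), (250, 1), (251, 1), (260, 1), (261, 1), (263, 1), (266, 1)]),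
  (true, [(142, 1), (208, 1), (209, 1), (210, 1), (226, 1), (229, 1), (250, 1), (261, 1), (267, 1), (268, 1), (269, 1)]),
  (true, [(209, 1), (210, 1), (216, 1), (226, 1), (251, 1), (252, 1), (268, 1), (269, 1), (270, 1)]),
  (true, [(142, 1), (209, 1), (210, 1), (216, 1), (250, 1), (252, 1), (261, 1), (267, 1), (270, 1)]),
  (true, [(194, 1), (198, 1), (211, 1), (215, 1), (216, 1), (221, 1), (249, 1), (255, 1), (266, 1), (269, 1)]),
  (true, [(160, 1), (177, 1), (187, 1), (198, 1), (204, 1), (211, 1), (215, 1), (228, 1), (233, 1), (250, 1), (251, 1), (252, 1), (262, 1), (268, 1), (270, 1)]),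
  (true, [(123, 1), (124, 1), (125, 1), (143, 1), (153, 1), (157, 1), (158, 1), (159, 1), (160, 1), (161, 1), (188, 1), (191, 1), (193, 1), (194, 1), (195, 1), (196, 1), (198, 1), (204, 1), (205, 1), (209, 1), (210, 1), (211, 1), (212, 1), (216, 1), (221, 1), (227, 1), (228, 1), (229, 1), (230, 1), (232, 1), (238, 1), (242, 1), (245, 1), (250, 1), (255, 1), (259, 1), (260, 1), (261, 1), (262, 1), (263, 1), (268, 1), (272, 1), (276, 1), (277, 1), (279, 1), (280, 1), (285, 1), (286, 1)]),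
  (true, [(160, 1), (162, 1), (211, 1), (213, 1), (216, 1), (222, 1), (228, 1), (230, 1), (233, 1), (234, 1), (245, 1), (247, 1), (250, 1), (251, 1), (252, 1), (256, 1), (262, 1), (264, 1), (267, 1), (268, 1), (269, 1), (270, 1), (279, 1), (281, 1), (284, 1), (285, 1), (286, 1), (287, 1), (288, 1)])]

theorem ov_eq6 : (ovP6.map certTwo.overlapEq == ovE6) = true := by decide +kernel

def ovP7 : List (List ℕ × ℕ) :=
  [([7,1,1], 1), ([7,2,0], 1), ([7,2,1], 1), ([7,7,2], 1), ([7,2,2], 1), ([7,3,0], 1), ([7,3,1], 1), ([7,3,2], 1), ([7,7,3], 1), ([7,3,3], 1), ([7,4,0], 1), ([7,4,1], 1)]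

def ovE7 : List (Bool × Cfsg.Lib.Schur.Prime.Form) := [
  (true, [(154, 1), (160, 1), (162, 1), (205, 1), (213, 1), (216, 1), (222, 1), (230, 1), (233, 1), (234, 1), (239, 1), (247, 1), (250, 1), (251, 1), (252, 1), (256, 1), (264, 1), (267, 1), (268, 1), (269, 1), (270, 1), (273, 1), (281, 1), (284, 1), (285, 1), (286, 1), (287, 1), (288, 1)]),
  (true, [(123, 1), (124, 1), (125, 1), (136, 1), (140, 1), (141, 1), (142, 1), (177, 1), (178, 1), (189, 1), (191, 1), (193, 1), (195, 1), (197, 1), (198, 1), (204, 1), (206, 1), (210, 1), (212, 1), (214, 1), (221, 1), (225, 1), (228, 1), (232, 1), (238, 1), (243, 1), (244, 1), (245, 1), (248, 1), (249, 1), (255, 1), (262, 1), (263, 1), (267, 1), (268, 1), (270, 1), (272, 1), (276, 1), (279, 1), (280, 1), (282, 1), (288, 1)]),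
  (true, [(123, 1), (124, 1), (137, 1), (140, 1), (141, 1), (155, 1), (157, 1), (158, 1), (160, 1), (192, 1), (194, 1), (195, 1), (196, 1), (198, 1), (205, 1), (206, 1), (209, 1), (211, 1), (212, 1), (215, 1), (216, 1), (222, 1), (223, 1), (228, 1), (229, 1), (234, 1), (239, 1), (240, 1), (243, 1), (246, 1), (249, 1), (251, 1), (256, 1), (257, 1), (262, 1), (263, 1), (264, 1), (268, 1), (273, 1), (274, 1), (279, 1), (280, 1), (285, 1), (286, 1), (287, 1), (288, 1)]),
  (true, [(143, 1), (144, 1), (211, 1), (212, 1), (216, 1), (223, 1), (228, 1), (229, 1), (233, 1), (234, 1), (245, 1), (246, 1), (250, 1), (251, 1), (252, 1), (257, 1), (262, 1), (263, 1), (267, 1), (268, 1), (269, 1), (270, 1), (279, 1), (280, 1), (284, 1), (285, 1), (286, 1), (287, 1), (288, 1)]),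
  (true, [(138, 1), (143, 1), (144, 1), (194, 1), (206, 1), (211, 1), (212, 1), (216, 1), (223, 1), (228, 1), (229, 1), (233, 1), (234, 1), (240, 1), (246, 1), (250, 1), (251, 1), (257, 1), (262, 1), (263, 1), (267, 1), (268, 1), (269, 1), (274, 1), (279, 1), (280, 1), (284, 1), (285, 1), (286, 1), (287, 1), (288, 1)]),
  (true, [(136, 1), (153, 1), (160, 1), (161, 1), (177, 1), (178, 1), (179, 1), (187, 1), (190, 1), (195, 1), (196, 1), (204, 1), (207, 1), (213, 1), (214, 1), (215, 1), (216, 1), (231, 1), (232, 1), (238, 1), (246, 1), (248, 1), (251, 1), (252, 1), (262, 1), (264, 1), (266, 1), (267, 1), (268, 1), (270, 1), (279, 1), (280, 1), (281, 1), (285, 1), (286, 1)]),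
  (true, [(123, 1), (124, 1), (125, 1), (137, 1), (140, 1), (141, 1), (142, 1), (143, 1), (154, 1), (156, 1), (161, 1), (177, 1), (178, 1), (188, 1), (191, 1), (193, 1), (194, 1), (196, 1), (197, 1), (198, 1), (205, 1), (207, 1), (208, 1), (209, 1), (212, 1), (213, 1), (215, 1), (224, 1), (226, 1), (227, 1), (228, 1), (231, 1), (232, 1), (239, 1), (241, 1), (243, 1), (244, 1), (245, 1), (247, 1), (250, 1), (252, 1), (258, 1), (259, 1), (260, 1), (261, 1), (264, 1), (266, 1), (269, 1), (270, 1), (275, 1), (277, 1), (278, 1), (280, 1), (284, 1), (285, 1), (288, 1)]),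
  (true, [(125, 1), (138, 1), (139, 1), (143, 1), (155, 1), (159, 1), (177, 1), (179, 1), (189, 1), (193, 1), (194, 1), (196, 1), (197, 1), (206, 1), (207, 1), (210, 1), (211, 1), (212, 1), (213, 1), (214, 1), (215, 1), (224, 1), (227, 1), (230, 1), (231, 1), (240, 1), (241, 1), (244, 1), (246, 1), (247, 1), (250, 1), (252, 1), (258, 1), (263, 1), (264, 1), (265, 1), (266, 1), (268, 1), (269, 1), (270, 1), (275, 1), (279, 1), (281, 1), (282, 1), (285, 1), (286, 1), (288, 1)]),
  (true, [(143, 1), (144, 1), (160, 1), (161, 1), (162, 1), (194, 1), (195, 1), (196, 1), (198, 1), (211, 1), (212, 1), (213, 1), (215, 1), (216, 1), (224, 1), (245, 1), (250, 1), (252, 1), (258, 1), (263, 1), (264, 1), (266, 1), (269, 1)]),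
  (true, [(139, 1), (144, 1), (156, 1), (160, 1), (161, 1), (162, 1), (177, 1), (190, 1), (195, 1), (196, 1), (198, 1), (207, 1), (211, 1), (212, 1), (215, 1), (216, 1), (232, 1), (233, 1), (234, 1), (241, 1), (245, 1), (247, 1), (250, 1), (263, 1), (266, 1), (269, 1), (270, 1), (279, 1), (281, 1), (285, 1), (286, 1), (287, 1), (288, 1)]),
  (true, [(177, 1), (187, 1), (191, 1), (194, 1), (208, 1), (214, 1), (215, 1), (216, 1), (221, 1), (228, 1), (231, 1), (249, 1), (250, 1), (251, 1), (252, 1), (255, 1), (262, 1), (265, 1), (266, 1), (267, 1), (268, 1), (269, 1), (270, 1), (272, 1), (282, 1), (285, 1), (287, 1)]),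
  (true, [(125, 1), (143, 1), (157, 1), (159, 1), (161, 1), (177, 1), (179, 1), (188, 1), (193, 1), (195, 1), (196, 1), (197, 1), (208, 1), (213, 1), (215, 1), (222, 1), (225, 1), (227, 1), (229, 1), (230, 1), (231, 1), (232, 1), (242, 1), (244, 1), (246, 1), (248, 1), (252, 1), (256, 1), (259, 1), (262, 1), (266, 1), (268, 1), (270, 1), (273, 1), (276, 1), (278, 1), (284, 1), (286, 1), (287, 1), (288, 1)])]

theorem ov_eq7 : (ovP7.map certTwo.overlapEq == ovE7) = true := by decide +kernel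

def ovP8 : List (List ℕ × ℕ) :=
  [([7,4,2], 1), ([7,4,3], 1), ([7,7,4], 1), ([7,4,4], 1), ([7,5,0], 1), ([7,5,1], 1), ([7,5,2], 1), ([7,5,3], 1), ([7,5,4], 1), ([7,7,5], 1), ([7,5,5], 1), ([7,6,0], 1)]

def ovE8 : List (Bool × Cfsg.Lib.Schur.Prime.Form) := [
  (true, [(140, 1), (189, 1), (195, 1), (208, 1), (215, 1), (223, 1), (225, 1), (229, 1), (232, 1), (233, 1), (242, 1), (245, 1), (246, 1), (252, 1), (257, 1), (259, 1), (263, 1), (266, 1), (268, 1), (270, 1), (274, 1), (276, 1), (279, 1), (286, 1), (287, 1)]),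
  (true, [(125, 1), (140, 1), (142, 1), (157, 1), (159, 1), (190, 1), (191, 1), (194, 1), (208, 1), (224, 1), (228, 1), (233, 1), (242, 1), (245, 1), (246, 1), (247, 1), (251, 1), (252, 1), (258, 1), (262, 1), (267, 1), (269, 1), (270, 1), (275, 1), (279, 1), (280, 1), (281, 1), (283, 1), (284, 1), (288, 1)]),
  (true, [(194, 1), (198, 1), (225, 1), (228, 1), (232, 1), (234, 1), (249, 1), (259, 1), (262, 1), (268, 1), (269, 1), (270, 1), (279, 1), (283, 1), (285, 1), (287, 1), (288, 1)]),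
  (true, [(191, 1), (198, 1), (225, 1), (232, 1), (234, 1), (251, 1), (252, 1), (259, 1), (266, 1), (269, 1), (276, 1), (283, 1), (285, 1), (287, 1), (288, 1)]),
  (true, [(143, 1), (160, 1), (177, 1), (187, 1), (192, 1), (204, 1), (209, 1), (211, 1), (216, 1), (238, 1), (245, 1), (246, 1), (247, 1), (248, 1), (249, 1), (255, 1), (263, 1), (264, 1), (265, 1), (266, 1), (267, 1)]),
  (true, [(125, 1), (143, 1), (158, 1), (159, 1), (161, 1), (177, 1), (179, 1), (188, 1), (193, 1), (195, 1), (196, 1), (197, 1), (205, 1), (209, 1), (210, 1), (212, 1), (214, 1), (215, 1), (226, 1), (228, 1), (230, 1), (233, 1), (239, 1), (243, 1), (247, 1), (250, 1), (252, 1), (256, 1), (260, 1), (262, 1), (266, 1), (267, 1), (269, 1), (270, 1), (277, 1), (280, 1), (281, 1), (282, 1), (285, 1), (286, 1), (288, 1)]),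
  (true, [(141, 1), (189, 1), (195, 1), (206, 1), (209, 1), (211, 1), (226, 1), (232, 1), (240, 1), (243, 1), (246, 1), (249, 1), (250, 1), (251, 1), (252, 1), (257, 1), (260, 1), (263, 1), (266, 1), (267, 1), (268, 1), (269, 1), (270, 1), (277, 1), (283, 1)]),
  (true, [(125, 1), (141, 1), (142, 1), (143, 1), (158, 1), (159, 1), (160, 1), (190, 1), (192, 1), (194, 1), (207, 1), (209, 1), (210, 1), (211, 1), (212, 1), (213, 1), (227, 1), (229, 1), (230, 1), (233, 1), (241, 1), (243, 1), (244, 1), (245, 1), (246, 1), (247, 1), (251, 1), (252, 1), (258, 1), (263, 1), (264, 1), (268, 1), (269, 1), (270, 1), (278, 1), (280, 1), (281, 1), (283, 1), (285, 1), (286, 1), (287, 1), (288, 1)]),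
  (true, [(143, 1), (191, 1), (192, 1), (208, 1), (211, 1), (212, 1), (215, 1), (226, 1), (229, 1), (232, 1), (242, 1), (246, 1), (249, 1), (259, 1), (260, 1), (262, 1), (267, 1), (268, 1), (277, 1), (280, 1), (283, 1), (286, 1)]),
  (true, [(194, 1), (198, 1), (211, 1), (215, 1), (216, 1), (226, 1), (245, 1), (250, 1), (252, 1), (260, 1), (262, 1), (267, 1), (270, 1)]),
  (true, [(143, 1), (192, 1), (198, 1), (209, 1), (211, 1), (215, 1), (216, 1), (243, 1), (249, 1), (260, 1), (262, 1), (266, 1)]),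
  (true, [(143, 1), (160, 1), (193, 1), (195, 1), (196, 1), (210, 1), (211, 1), (212, 1), (213, 1), (215, 1), (228, 1), (232, 1), (233, 1), (238, 1), (246, 1), (247, 1), (249, 1), (251, 1), (255, 1), (262, 1), (263, 1), (264, 1), (267, 1), (268, 1), (269, 1), (272, 1), (280, 1), (281, 1), (283, 1), (285, 1), (287, 1)])]

theorem ov_eq8 : (ovP8.map certTwo.overlapEq == ovE8) = true := by decide +kernel

def ovP9 : List (List ℕ × ℕ) :=
  [([7,6,1], 1), ([7,6,2], 1), ([7,6,3], 1), ([7,6,4], 1), ([7,6,5], 1), ([7,7,6], 1), ([7,7,7], 1), ([8,8,0], 1), ([8,0,0], 1), ([8,1,0], 1), ([8,8,1], 1), ([8,1,1], 1)]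

def ovE9 : List (Bool × Cfsg.Lib.Schur.Prime.Form) := [
  (true, [(159, 1), (160, 1), (210, 1), (211, 1), (227, 1), (228, 1), (239, 1), (244, 1), (247, 1), (250, 1), (251, 1), (256, 1), (261, 1), (264, 1), (267, 1), (268, 1), (273, 1), (278, 1), (281, 1), (284, 1), (285, 1)]),
  (true, [(142, 1), (194, 1), (195, 1), (210, 1), (211, 1), (212, 1), (215, 1), (227, 1), (232, 1), (233, 1), (240, 1), (244, 1), (245, 1), (246, 1), (249, 1), (257, 1), (261, 1), (262, 1), (263, 1), (266, 1), (274, 1), (278, 1), (279, 1), (286, 1), (287, 1)]),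
  (true, [(142, 1), (159, 1), (193, 1), (194, 1), (195, 1), (196, 1), (210, 1), (215, 1), (228, 1), (229, 1), (230, 1), (232, 1), (233, 1), (241, 1), (244, 1), (245, 1), (246, 1), (249, 1), (258, 1), (262, 1), (263, 1), (268, 1), (275, 1), (280, 1), (281, 1), (284, 1), (285, 1), (286, 1)]),
  (true, [(193, 1), (211, 1), (215, 1), (227, 1), (228, 1), (232, 1), (233, 1), (242, 1), (249, 1), (250, 1), (259, 1), (261, 1), (266, 1), (268, 1), (269, 1), (276, 1), (278, 1), (283, 1), (285, 1), (286, 1)]),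
  (true, [(193, 1), (210, 1), (211, 1), (215, 1), (243, 1), (244, 1), (249, 1), (250, 1), (260, 1), (261, 1), (266, 1), (267, 1), (277, 1), (283, 1), (286, 1), (287, 1)]),
  (true, [(227, 1), (245, 1), (252, 1), (261, 1), (262, 1), (269, 1), (270, 1), (279, 1), (286, 1), (287, 1), (288, 1)]),
  (true, [(228, 1), (262, 1)]),
  (true, [(229, 1), (234, 1), (246, 1), (251, 1), (252, 1)]),
  (true, [(161, 1), (178, 1), (212, 1), (221, 1), (229, 1), (234, 1), (238, 1), (250, 1), (263, 1), (267, 1), (268, 1), (269, 1), (270, 1)]),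
  (true, [(140, 1), (141, 1), (142, 1), (143, 1), (204, 1), (208, 1), (209, 1), (210, 1), (211, 1), (212, 1), (221, 1), (222, 1), (233, 1), (239, 1), (242, 1), (243, 1), (244, 1), (251, 1), (255, 1), (259, 1), (260, 1), (261, 1), (263, 1), (268, 1), (272, 1), (276, 1), (277, 1), (278, 1), (279, 1), (280, 1), (285, 1), (286, 1), (287, 1)]),
  (true, [(212, 1), (216, 1), (229, 1), (233, 1), (234, 1), (263, 1), (267, 1), (268, 1), (270, 1), (280, 1), (284, 1), (285, 1), (287, 1), (288, 1)]),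
  (true, [(161, 1), (205, 1), (216, 1), (222, 1), (233, 1), (234, 1), (256, 1), (267, 1), (268, 1), (270, 1), (273, 1), (284, 1), (285, 1), (287, 1), (288, 1)])]

theorem ov_eq9 : (ovP9.map certTwo.overlapEq == ovE9) = true := by decide +kernel

def ovP10 : List (List ℕ × ℕ) :=
  [([8,2,0], 1), ([8,2,1], 1), ([8,8,2], 1), ([8,2,2], 1), ([8,3,0], 1), ([8,3,1], 1), ([8,3,2], 1)]

def ovE10 : List (Bool × Cfsg.Lib.Schur.Prime.Form) := [
  (true, [(140, 1), (141, 1), (142, 1), (178, 1), (223, 1), (225, 1), (226, 1), (227, 1), (229, 1), (231, 1), (238, 1), (240, 1), (246, 1), (248, 1), (255, 1), (259, 1), (260, 1), (261, 1), (263, 1), (268, 1), (280, 1), (285, 1), (287, 1)]),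
  (true, [(140, 1), (141, 1), (161, 1), (195, 1), (206, 1), (208, 1), (209, 1), (212, 1), (213, 1), (215, 1), (223, 1), (225, 1), (226, 1), (229, 1), (230, 1), (232, 1), (239, 1), (242, 1), (247, 1), (249, 1), (252, 1), (256, 1), (257, 1), (260, 1), (263, 1), (269, 1), (270, 1), (274, 1), (276, 1), (277, 1), (280, 1), (281, 1), (283, 1)]),
  (true, [(246, 1), (252, 1), (263, 1), (269, 1), (270, 1)]),
  (true, [(195, 1), (212, 1), (229, 1), (240, 1), (252, 1), (257, 1), (263, 1), (269, 1), (270, 1), (280, 1)]),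
  (true, [(161, 1), (178, 1), (204, 1), (213, 1), (214, 1), (224, 1), (230, 1), (231, 1), (233, 1), (238, 1), (241, 1), (247, 1), (248, 1), (255, 1), (263, 1), (268, 1), (269, 1), (272, 1), (280, 1), (281, 1), (282, 1), (284, 1), (287, 1)]),
  (true, [(140, 1), (141, 1), (142, 1), (143, 1), (178, 1), (205, 1), (207, 1), (224, 1), (225, 1), (226, 1), (227, 1), (228, 1), (231, 1), (233, 1), (239, 1), (242, 1), (243, 1), (244, 1), (250, 1), (252, 1), (256, 1), (258, 1), (262, 1), (263, 1), (265, 1), (268, 1), (269, 1), (270, 1), (273, 1), (275, 1), (285, 1), (286, 1)]),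
  (true, [(142, 1), (178, 1), (195, 1), (206, 1), (210, 1), (214, 1), (215, 1), (240, 1), (241, 1), (246, 1), (248, 1), (250, 1), (257, 1), (258, 1), (263, 1), (265, 1), (267, 1), (274, 1), (278, 1), (282, 1), (283, 1), (286, 1), (287, 1)])]

theorem ov_eq10 : (ovP10.map certTwo.overlapEq == ovE10) = true := by decide +kernel

def fuP0_0 : List (List ℕ × List ℕ) :=
  [([0,0], [8,11,13,14,15]), ([1,0], [0,1,4,5,6,7,8,10,12])]

def fuE0_0 : List (Bool × Cfsg.Lib.Schur.Prime.Form) := [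
  (true, [(17, 1), (18, 1), (34, 1), (36, 1), (51, 1), (52, 1), (54, 1), (68, 1), (69, 1), (71, 1), (86, 1), (87, 1), (88, 1), (89, 1), (90, 1), (103, 1), (104, 1), (105, 1), (106, 1), (107, 1), (108, 1), (119, 1), (120, 1), (122, 1), (123, 1), (126, 1), (136, 1), (138, 1), (139, 1), (141, 1), (142, 1), (143, 1), (144, 1), (154, 1), (156, 1), (158, 1), (160, 1), (161, 1), (162, 1), (170, 1), (173, 1), (177, 1), (178, 1), (179, 1), (180, 1), (188, 1), (190, 1), (191, 1), (194, 1), (197, 1), (198, 1), (206, 1), (207, 1), (208, 1), (209, 1), (211, 1), (212, 1), (214, 1), (215, 1), (216, 1), (221, 1), (224, 1), (225, 1), (226, 1), (227, 1), (228, 1), (231, 1), (232, 1), (234, 1), (238, 1), (240, 1), (243, 1), (247, 1), (248, 1), (249, 1), (250, 1), (256, 1), (257, 1), (258, 1), (261, 1), (263, 1), (265, 1), (266, 1), (272, 1), (273, 1), (275, 1), (276, 1), (277, 1), (278, 1), (282, 1), (287, 1), (297, 1), (300, 1), (302, 1), (303, 1), (304, 1)]),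
  (true, [(17, 1), (18, 1), (36, 1), (54, 1), (68, 1), (71, 1), (72, 1), (85, 1), (87, 1), (88, 1), (89, 1), (90, 1), (103, 1), (104, 1), (108, 1), (119, 1), (121, 1), (122, 1), (125, 1), (138, 1), (139, 1), (141, 1), (142, 1), (155, 1), (156, 1), (158, 1), (159, 1), (160, 1), (162, 1), (170, 1), (172, 1), (175, 1), (177, 1), (194, 1), (195, 1), (196, 1), (197, 1), (207, 1), (208, 1), (209, 1), (210, 1), (215, 1), (221, 1), (222, 1), (223, 1), (224, 1), (226, 1), (227, 1), (233, 1), (238, 1), (241, 1), (242, 1), (244, 1), (246, 1), (247, 1), (248, 1), (250, 1), (251, 1), (255, 1), (258, 1), (259, 1), (264, 1), (265, 1), (266, 1), (267, 1), (268, 1), (272, 1), (273, 1), (275, 1), (276, 1), (277, 1), (279, 1), (280, 1), (281, 1), (283, 1), (284, 1), (287, 1), (288, 1), (293, 1), (294, 1), (295, 1), (296, 1), (297, 1), (299, 1), (301, 1)])]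

theorem fu_eq0_0 : (fuP0_0.map (certTwo.fuseEq 0 (certTwo.fuse.getD 0 ([], [], [])).1
    (certTwo.fuse.getD 0 ([], [], [])).2.1) == fuE0_0) = true := by decide +kernel

def fuP0_1 : List (List ℕ × List ℕ) :=
  [([1,1], [4,5,6,8,9,11,15]), ([2,0], [0,2,7,8,9,10,13,14])]

def fuE0_1 : List (Bool × Cfsg.Lib.Schur.Prime.Form) := [
  (true, [(36, 1), (52, 1), (53, 1), (54, 1), (70, 1), (72, 1), (88, 1), (90, 1), (103, 1), (106, 1), (107, 1), (121, 1), (122, 1), (137, 1), (142, 1), (143, 1), (154, 1), (155, 1), (158, 1), (160, 1), (171, 1), (173, 1), (175, 1), (177, 1), (178, 1), (179, 1), (188, 1), (189, 1), (190, 1), (191, 1), (193, 1), (195, 1), (196, 1), (197, 1), (209, 1), (212, 1), (216, 1), (223, 1), (224, 1), (225, 1), (233, 1), (239, 1), (241, 1), (242, 1), (244, 1), (246, 1), (248, 1), (249, 1), (250, 1), (251, 1), (252, 1), (259, 1), (263, 1), (265, 1), (269, 1), (270, 1), (273, 1), (275, 1), (276, 1), (278, 1), (279, 1), (281, 1), (288, 1), (293, 1), (294,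 1), (295, 1), (297, 1), (298, 1), (300, 1), (304, 1)]),
  (true, [(17, 1), (34, 1), (51, 1), (52, 1), (53, 1), (70, 1), (71, 1), (85, 1), (87, 1), (89, 1), (107, 1), (120, 1), (123, 1), (125, 1), (137, 1), (139, 1), (140, 1), (141, 1), (142, 1), (143, 1), (144, 1), (155, 1), (157, 1), (158, 1), (159, 1), (160, 1), (161, 1), (170, 1), (171, 1), (174, 1), (175, 1), (189, 1), (190, 1), (193, 1), (194, 1), (196, 1), (208, 1), (213, 1), (214, 1), (215, 1), (216, 1), (221, 1), (224, 1), (225, 1), (227, 1), (231, 1), (232, 1), (233, 1), (238, 1), (239, 1), (240, 1), (242, 1), (245, 1), (246, 1), (249, 1), (251, 1), (258, 1), (260, 1), (261, 1), (262, 1), (263, 1), (264, 1), (266, 1), (270, 1), (273, 1), (276, 1), (278, 1), (281, 1), (283, 1), (286, 1), (287, 1), (288, 1), (296, 1), (297, 1), (298, 1), (299, 1), (302, 1), (303, 1)])]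

theorem fu_eq0_1 : (fuP0_1.map (certTwo.fuseEq 0 (certTwo.fuse.getD 0 ([], [], [])).1
    (certTwo.fuse.getD 0 ([], [], [])).2.1) == fuE0_1) = true := by decide +kernel

def fuP0_2 : List (List ℕ × List ℕ) :=
  [([2,1], [1,2,4,5,6,8,10,13,15]), ([2,2], [8,9,14,15])]

def fuE0_2 : List (Bool × Cfsg.Lib.Schur.Prime.Form) := [
  (true, [(18, 1), (35, 1), (36, 1), (54, 1), (71, 1), (86, 1), (87, 1), (88, 1), (89, 1), (105, 1), (120, 1), (121, 1), (122, 1), (124, 1), (125, 1), (137, 1), (139, 1), (140, 1), (141, 1), (144, 1), (155, 1), (157, 1), (158, 1), (159, 1), (160, 1), (171, 1), (180, 1), (192, 1), (195, 1), (198, 1), (205, 1), (210, 1), (211, 1), (212, 1), (214, 1), (215, 1), (216, 1), (222, 1), (223, 1), (225, 1), (226, 1), (227, 1), (229, 1), (231, 1), (234, 1), (240, 1), (242, 1), (245, 1), (246, 1), (251, 1), (252, 1), (257, 1), (258, 1), (264, 1), (266, 1), (267, 1), (273, 1), (277, 1), (278, 1), (283, 1), (285, 1), (286, 1), (293, 1), (294, 1), (295, 1),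 (297, 1), (299, 1), (302, 1), (304, 1)]),
  (true, [(18, 1), (36, 1), (53, 1), (54, 1), (72, 1), (87, 1), (88, 1), (89, 1), (103, 1), (104, 1), (106, 1), (107, 1), (120, 1), (121, 1), (122, 1), (123, 1), (125, 1), (126, 1), (137, 1), (138, 1), (139, 1), (140, 1), (142, 1), (143, 1), (157, 1), (158, 1), (159, 1), (160, 1), (161, 1), (171, 1), (173, 1), (174, 1), (175, 1), (180, 1), (188, 1), (189, 1), (191, 1), (192, 1), (194, 1), (198, 1), (205, 1), (206, 1), (209, 1), (212, 1), (213, 1), (214, 1), (216, 1), (223, 1), (225, 1), (228, 1), (229, 1), (232, 1), (240, 1), (241, 1), (242, 1), (243, 1), (249, 1), (250, 1), (251, 1), (256, 1), (257, 1), (258, 1), (259, 1), (260, 1), (265, 1), (269, 1), (273, 1), (274, 1), (278, 1), (279, 1), (280, 1), (282, 1), (284, 1), (285, 1), (286, 1), (287, 1), (288, 1), (297, 1), (298, 1), (303, 1), (304, 1)])]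

theorem fu_eq0_2 : (fuP0_2.map (certTwo.fuseEq 0 (certTwo.fuse.getD 0 ([], [], [])).1
    (certTwo.fuse.getD 0 ([], [], [])).2.1) == fuE0_2) = true := by decide +kernel

def fuP0_3 : List (List ℕ × List ℕ) :=
  [([3,0], [0,3,7,8,9,11,13,15]), ([3,1], [1,3,4,5,6,7,9,12,14,15])]

def fuE0_3 : List (Bool × Cfsg.Lib.Schur.Prime.Form) := [
  (true, [(17, 1), (34, 1), (51, 1), (68, 1), (69, 1), (70, 1), (86, 1), (87, 1), (103, 1), (104, 1), (107, 1), (108, 1), (119, 1), (122, 1), (123, 1), (124, 1), (138, 1), (139, 1), (140, 1), (141, 1), (142, 1), (143, 1), (144, 1), (155, 1), (156, 1), (157, 1), (159, 1), (160, 1), (161, 1), (170, 1), (171, 1), (173, 1), (174, 1), (176, 1), (187, 1), (188, 1), (189, 1), (190, 1), (191, 1), (192, 1), (194, 1), (195, 1), (196, 1), (197, 1), (198, 1), (204, 1), (206, 1), (207, 1), (209, 1), (211, 1), (213, 1), (214, 1), (221, 1), (225, 1), (226, 1), (238, 1), (239, 1), (241, 1), (244, 1), (245, 1), (247, 1), (248, 1), (249, 1), (251,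 1), (261, 1), (270, 1), (274, 1), (279, 1), (284, 1), (288, 1), (296, 1), (297, 1), (298, 1), (300, 1), (302, 1), (304, 1)]),
  (true, [(18, 1), (35, 1), (36, 1), (52, 1), (54, 1), (70, 1), (86, 1), (103, 1), (104, 1), (107, 1), (108, 1), (120, 1), (124, 1), (126, 1), (138, 1), (139, 1), (141, 1), (144, 1), (157, 1), (159, 1), (160, 1), (161, 1), (171, 1), (173, 1), (174, 1), (175, 1), (177, 1), (179, 1), (180, 1), (188, 1), (189, 1), (191, 1), (192, 1), (193, 1), (197, 1), (208, 1), (209, 1), (210, 1), (213, 1), (214, 1), (222, 1), (223, 1), (224, 1), (226, 1), (227, 1), (228, 1), (229, 1), (230, 1), (232, 1), (239, 1), (241, 1), (245, 1), (247, 1), (248, 1), (256, 1), (257, 1), (258, 1), (260, 1), (261, 1), (263, 1), (266, 1), (267, 1), (268, 1), (273, 1), (274, 1), (276, 1), (277, 1), (279, 1), (281, 1), (283, 1), (284, 1), (293, 1), (294, 1), (295, 1), (296, 1), (298, 1), (301, 1), (303, 1), (304, 1)])]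

theorem fu_eq0_3 : (fuP0_3.map (certTwo.fuseEq 0 (certTwo.fuse.getD 0 ([], [], [])).1
    (certTwo.fuse.getD 0 ([], [], [])).2.1) == fuE0_3) = true := by decide +kernel

def fuP0_4 : List (List ℕ × List ℕ) :=
  [([3,2], [2,3,4,5,6,9,10,11,12,15]), ([4,1], [1,4,8,11,12,14,15])]

def fuE0_4 : List (Bool × Cfsg.Lib.Schur.Prime.Form) := [
  (true, [(18, 1), (35, 1), (36, 1), (54, 1), (69, 1), (70, 1), (71, 1), (88, 1), (89, 1), (103, 1), (105, 1), (107, 1), (121, 1), (122, 1), (123, 1), (126, 1), (137, 1), (138, 1), (139, 1), (140, 1), (143, 1), (154, 1), (155, 1), (157, 1), (158, 1), (159, 1), (160, 1), (171, 1), (174, 1), (175, 1), (176, 1), (177, 1), (180, 1), (190, 1), (192, 1), (193, 1), (194, 1), (195, 1), (196, 1), (205, 1), (207, 1), (208, 1), (213, 1), (214, 1), (216, 1), (223, 1), (224, 1), (225, 1), (226, 1), (229, 1), (232, 1), (239, 1), (242, 1), (245, 1), (249, 1), (250, 1), (251, 1), (252, 1), (256, 1), (257, 1), (258, 1), (259, 1), (260, 1), (261, 1),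 (262, 1), (263, 1), (264, 1), (273, 1), (277, 1), (278, 1), (281, 1), (282, 1), (284, 1), (286, 1), (293, 1), (294, 1), (295, 1), (298, 1), (299, 1), (300, 1), (301, 1), (304, 1)]),
  (true, [(35, 1), (72, 1), (86, 1), (90, 1), (103, 1), (104, 1), (106, 1), (107, 1), (123, 1), (138, 1), (140, 1), (141, 1), (143, 1), (154, 1), (155, 1), (157, 1), (159, 1), (162, 1), (175, 1), (176, 1), (177, 1), (179, 1), (192, 1), (194, 1), (195, 1), (198, 1), (208, 1), (211, 1), (212, 1), (213, 1), (216, 1), (222, 1), (223, 1), (228, 1), (229, 1), (230, 1), (231, 1), (232, 1), (233, 1), (234, 1), (239, 1), (242, 1), (243, 1), (244, 1), (246, 1), (248, 1), (250, 1), (256, 1), (259, 1), (260, 1), (263, 1), (265, 1), (267, 1), (270, 1), (285, 1), (288, 1), (297, 1), (300, 1), (301, 1), (303, 1), (304, 1)])]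

theorem fu_eq0_4 : (fuP0_4.map (certTwo.fuseEq 0 (certTwo.fuse.getD 0 ([], [], [])).1
    (certTwo.fuse.getD 0 ([], [], [])).2.1) == fuE0_4) = true := by decide +kernel

def fuP0_5 : List (List ℕ × List ℕ) :=
  [([4,2], [2,4,8,9,11,13,14]), ([4,3], [3,4,8,15])]

def fuE0_5 : List (Bool × Cfsg.Lib.Schur.Prime.Form) := [
  (true, [(69, 1), (70, 1), (71, 1), (72, 1), (86, 1), (87, 1), (88, 1), (90, 1), (106, 1), (107, 1), (108, 1), (120, 1), (123, 1), (125, 1), (137, 1), (138, 1), (139, 1), (140, 1), (143, 1), (155, 1), (156, 1), (157, 1), (159, 1), (172, 1), (173, 1), (176, 1), (189, 1), (191, 1), (195, 1), (196, 1), (205, 1), (208, 1), (209, 1), (212, 1), (213, 1), (216, 1), (222, 1), (223, 1), (226, 1), (228, 1), (229, 1), (246, 1), (249, 1), (256, 1), (257, 1), (260, 1), (262, 1), (265, 1), (268, 1), (270, 1), (275, 1), (277, 1), (279, 1), (280, 1), (282, 1), (283, 1), (286, 1), (288, 1), (297, 1), (298, 1), (300, 1), (302, 1), (303, 1)]),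
  (true, [(52, 1), (69, 1), (70, 1), (71, 1), (72, 1), (86, 1), (87, 1), (88, 1), (90, 1), (103, 1), (105, 1), (106, 1), (107, 1), (108, 1), (120, 1), (124, 1), (125, 1), (137, 1), (138, 1), (141, 1), (143, 1), (155, 1), (156, 1), (157, 1), (158, 1), (162, 1), (171, 1), (172, 1), (173, 1), (174, 1), (175, 1), (177, 1), (178, 1), (179, 1), (189, 1), (190, 1), (191, 1), (192, 1), (193, 1), (194, 1), (195, 1), (197, 1), (205, 1), (208, 1), (209, 1), (211, 1), (212, 1), (213, 1), (214, 1), (215, 1), (223, 1), (226, 1), (228, 1), (230, 1), (233, 1), (234, 1), (245, 1), (246, 1), (248, 1), (250, 1), (251, 1), (256, 1), (257, 1), (261, 1), (262, 1), (263, 1), (267, 1), (268, 1), (269, 1), (270, 1), (273, 1), (275, 1), (276, 1), (278, 1), (279, 1), (280, 1), (281, 1), (282, 1), (285, 1), (287, 1), (288, 1), (297, 1), (304, 1)])]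

theorem fu_eq0_5 : (fuP0_5.map (certTwo.fuseEq 0 (certTwo.fuse.getD 0 ([], [], [])).1
    (certTwo.fuse.getD 0 ([], [], [])).2.1) == fuE0_5) = true := by decide +kernel

def fuP0_6 : List (List ℕ × List ℕ) :=
  [([4,4], [12,13,14]), ([5,0], [0,5,7,9,15])]

def fuE0_6 : List (Bool × Cfsg.Lib.Schur.Prime.Form) := [
  (true, [(18, 1), (69, 1), (86, 1), (103, 1), (106, 1), (124, 1), (125, 1), (126, 1), (140, 1), (142, 1), (143, 1), (158, 1), (160, 1), (162, 1), (171, 1), (175, 1), (177, 1), (180, 1), (188, 1), (192, 1), (194, 1), (195, 1), (209, 1), (210, 1), (211, 1), (214, 1), (215, 1), (222, 1), (225, 1), (226, 1), (227, 1), (228, 1), (229, 1), (231, 1), (233, 1), (234, 1), (243, 1), (246, 1), (247, 1), (249, 1), (251, 1), (252, 1), (259, 1), (264, 1), (265, 1), (268, 1), (269, 1), (273, 1), (276, 1), (277, 1), (280, 1), (285, 1), (286, 1), (287, 1), (301, 1), (302, 1), (303, 1)]),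
  (true, [(34, 1), (51, 1), (53, 1), (69, 1), (70, 1), (71, 1), (85, 1), (86, 1), (87, 1), (102, 1), (105, 1), (106, 1), (108, 1), (120, 1), (121, 1), (123, 1), (125, 1), (136, 1), (138, 1), (139, 1), (141, 1), (142, 1), (144, 1), (153, 1), (155, 1), (156, 1), (157, 1), (160, 1), (161, 1), (162, 1), (170, 1), (171, 1), (172, 1), (175, 1), (176, 1), (177, 1), (178, 1), (180, 1), (188, 1), (189, 1), (191, 1), (192, 1), (193, 1), (197, 1), (198, 1), (207, 1), (211, 1), (212, 1), (214, 1), (215, 1), (222, 1), (223, 1), (224, 1), (225, 1), (226, 1), (229, 1), (230, 1), (231, 1), (234, 1), (239, 1), (242, 1), (243, 1), (244, 1), (245, 1), (247, 1), (249, 1), (250, 1), (252, 1), (256, 1), (258, 1), (261, 1), (262, 1), (266, 1), (268, 1), (269, 1), (273, 1), (276, 1), (277, 1), (278, 1), (279, 1), (282, 1), (283, 1), (284, 1), (296, 1), (298, 1), (304, 1)])]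

theorem fu_eq0_6 : (fuP0_6.map (certTwo.fuseEq 0 (certTwo.fuse.getD 0 ([], [], [])).1
    (certTwo.fuse.getD 0 ([], [], [])).2.1) == fuE0_6) = true := by decide +kernel

def fuP0_7 : List (List ℕ × List ℕ) :=
  [([5,2], [2,5,12,14,15])]

def fuE0_7 : List (Bool × Cfsg.Lib.Schur.Prime.Form) := [
  (true, [(35, 1), (52, 1), (69, 1), (70, 1), (72, 1), (87, 1), (90, 1), (103, 1), (104, 1), (105, 1), (106, 1), (107, 1), (108, 1), (120, 1), (123, 1), (126, 1), (143, 1), (155, 1), (157, 1), (158, 1), (161, 1), (162, 1), (175, 1), (176, 1), (177, 1), (179, 1), (180, 1), (188, 1), (193, 1), (197, 1), (205, 1), (207, 1), (210, 1), (211, 1), (213, 1), (216, 1), (224, 1), (227, 1), (229, 1), (232, 1), (234, 1), (239, 1), (240, 1), (243, 1), (245, 1), (247, 1), (249, 1), (250, 1), (251, 1), (252, 1), (257, 1), (259, 1), (260, 1), (261, 1), (266, 1), (269, 1), (273, 1), (275, 1), (276, 1), (278, 1), (280, 1), (281, 1), (282, 1), (283, 1), (285, 1), (286, 1), (288, 1), (301,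 1), (303, 1), (304, 1)])]

theorem fu_eq0_7 : (fuP0_7.map (certTwo.fuseEq 0 (certTwo.fuse.getD 0 ([], [], [])).1
    (certTwo.fuse.getD 0 ([], [], [])).2.1) == fuE0_7) = true := by decide +kernel

def fuP1_0 : List (List ℕ × List ℕ) :=
  [([0,0], [4,5,8,11,12]), ([1,1], [7,8,10])]

def fuE1_0 : List (Bool × Cfsg.Lib.Schur.Prime.Form) := [
  (true, [(0, 1), (17, 1), (34, 1), (36, 1), (51, 1), (69, 1), (71, 1), (85, 1), (86, 1), (88, 1), (89, 1), (104, 1), (106, 1), (107, 1), (122, 1), (124, 1), (136, 1), (141, 1), (142, 1), (143, 1), (144, 1), (155, 1), (158, 1), (160, 1), (161, 1), (171, 1), (174, 1), (177, 1), (180, 1), (187, 1), (188, 1), (190, 1), (192, 1), (195, 1), (198, 1), (207, 1), (208, 1), (209, 1), (210, 1), (211, 1), (213, 1), (221, 1), (222, 1), (223, 1), (224, 1), (225, 1), (226, 1), (230, 1), (231, 1), (233, 1), (238, 1), (239, 1), (242, 1), (243, 1), (244, 1), (245, 1), (246, 1), (247, 1), (248, 1), (249, 1), (251, 1), (256, 1), (261, 1), (262, 1),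 (263, 1), (265, 1), (266, 1), (272, 1), (275, 1), (276, 1), (278, 1), (279, 1), (281, 1), (282, 1), (284, 1), (285, 1), (287, 1), (288, 1), (357, 1), (358, 1), (361, 1), (364, 1), (365, 1)]),
  (true, [(18, 1), (35, 1), (36, 1), (72, 1), (87, 1), (104, 1), (120, 1), (121, 1), (123, 1), (125, 1), (126, 1), (138, 1), (141, 1), (142, 1), (144, 1), (155, 1), (158, 1), (159, 1), (161, 1), (162, 1), (176, 1), (178, 1), (179, 1), (180, 1), (188, 1), (191, 1), (192, 1), (195, 1), (196, 1), (197, 1), (198, 1), (205, 1), (206, 1), (208, 1), (213, 1), (215, 1), (216, 1), (223, 1), (225, 1), (227, 1), (228, 1), (232, 1), (233, 1), (234, 1), (239, 1), (243, 1), (244, 1), (245, 1), (249, 1), (251, 1), (259, 1), (260, 1), (262, 1), (264, 1), (268, 1), (273, 1), (276, 1), (277, 1), (279, 1), (281, 1), (282, 1), (360, 1), (361, 1), (363, 1)])]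

theorem fu_eq1_0 : (fuP1_0.map (certTwo.fuseEq 1 (certTwo.fuse.getD 1 ([], [], [])).1
    (certTwo.fuse.getD 1 ([], [], [])).2.1) == fuE1_0) = true := by decide +kernel

def fuP1_1 : List (List ℕ × List ℕ) :=
  [([2,0], [0,2,4,5,8,11,12]), ([2,1], [1,2,7,10,11,12])]

def fuE1_1 : List (Bool × Cfsg.Lib.Schur.Prime.Form) := [
  (true, [(34, 1), (35, 1), (36, 1), (53, 1), (68, 1), (71, 1), (72, 1), (85, 1), (87, 1), (88, 1), (90, 1), (102, 1), (103, 1), (105, 1), (106, 1), (107, 1), (108, 1), (119, 1), (120, 1), (121, 1), (122, 1), (124, 1), (126, 1), (138, 1), (139, 1), (155, 1), (156, 1), (157, 1), (159, 1), (160, 1), (161, 1), (174, 1), (178, 1), (179, 1), (180, 1), (190, 1), (191, 1), (192, 1), (197, 1), (204, 1), (205, 1), (206, 1), (209, 1), (212, 1), (214, 1), (215, 1), (221, 1), (223, 1), (226, 1), (228, 1), (229, 1), (230, 1), (231, 1), (232, 1), (233, 1), (239, 1), (240, 1), (241, 1), (243, 1), (244, 1), (245, 1), (246, 1), (247, 1), (248, 1), (249, 1),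 (252, 1), (258, 1), (260, 1), (263, 1), (268, 1), (269, 1), (270, 1), (272, 1), (274, 1), (276, 1), (279, 1), (281, 1), (282, 1), (357, 1), (358, 1), (361, 1), (364, 1), (365, 1)]),
  (true, [(34, 1), (35, 1), (36, 1), (52, 1), (68, 1), (69, 1), (70, 1), (71, 1), (72, 1), (86, 1), (87, 1), (90, 1), (107, 1), (119, 1), (120, 1), (121, 1), (123, 1), (124, 1), (126, 1), (137, 1), (139, 1), (141, 1), (144, 1), (153, 1), (154, 1), (156, 1), (157, 1), (158, 1), (161, 1), (162, 1), (171, 1), (173, 1), (174, 1), (175, 1), (176, 1), (177, 1), (178, 1), (180, 1), (188, 1), (189, 1), (190, 1), (191, 1), (192, 1), (193, 1), (194, 1), (204, 1), (206, 1), (207, 1), (210, 1), (215, 1), (216, 1), (221, 1), (222, 1), (223, 1), (227, 1), (228, 1), (229, 1), (231, 1), (232, 1), (238, 1), (239, 1), (241, 1), (242, 1), (243, 1), (244, 1), (246, 1), (247, 1), (252, 1), (256, 1), (257, 1), (263, 1), (269, 1), (273, 1), (275, 1), (277, 1), (280, 1), (281, 1), (282, 1), (284, 1), (285,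 1), (287, 1), (360, 1), (363, 1), (364, 1), (365, 1)])]

theorem fu_eq1_1 : (fuP1_1.map (certTwo.fuseEq 1 (certTwo.fuse.getD 1 ([], [], [])).1
    (certTwo.fuse.getD 1 ([], [], [])).2.1) == fuE1_1) = true := by decide +kernel

def fuP1_2 : List (List ℕ × List ℕ) :=
  [([2,2], []), ([3,0], [0,3,5,6,10,11,12])]

def fuE1_2 : List (Bool × Cfsg.Lib.Schur.Prime.Form) := [
  (true, [(0, 1), (17, 1), (35, 1), (36, 1), (51, 1), (53, 1), (68, 1), (69, 1), (70, 1), (86, 1), (102, 1), (103, 1), (104, 1), (105, 1), (106, 1), (107, 1), (119, 1), (120, 1), (123, 1), (124, 1), (125, 1), (136, 1), (156, 1), (157, 1), (158, 1), (171, 1), (172, 1), (177, 1), (179, 1), (187, 1), (188, 1), (189, 1), (190, 1), (197, 1), (198, 1), (204, 1), (205, 1), (207, 1), (209, 1), (212, 1), (213, 1), (214, 1), (216, 1), (222, 1), (226, 1), (227, 1), (229, 1), (232, 1), (238, 1), (241, 1), (243, 1), (246, 1), (247, 1), (248, 1), (250, 1), (251, 1), (252, 1), (256, 1), (261, 1), (262, 1), (263, 1),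 (264, 1), (266, 1), (269, 1), (274, 1), (276, 1), (277, 1), (283, 1), (287, 1), (288, 1)]),
  (true, [(35, 1), (53, 1), (68, 1), (71, 1), (85, 1), (87, 1), (88, 1), (89, 1), (103, 1), (104, 1), (105, 1), (107, 1), (108, 1), (120, 1), (121, 1), (122, 1), (123, 1), (124, 1), (126, 1), (139, 1), (140, 1), (143, 1), (144, 1), (153, 1), (156, 1), (158, 1), (160, 1), (161, 1), (162, 1), (174, 1), (175, 1), (179, 1), (187, 1), (192, 1), (194, 1), (196, 1), (197, 1), (198, 1), (204, 1), (206, 1), (209, 1), (213, 1), (215, 1), (221, 1), (223, 1), (226, 1), (227, 1), (228, 1), (229, 1), (231, 1), (238, 1), (239, 1), (242, 1), (244, 1), (245, 1), (247, 1), (249, 1), (250, 1), (251, 1), (256, 1), (257, 1), (260, 1), (263, 1), (267, 1), (270, 1), (272, 1), (273, 1), (277, 1), (278, 1), (279, 1), (280, 1), (281, 1), (283, 1), (284, 1), (287, 1), (358, 1), (359, 1), (363, 1), (364, 1), (365, 1)])]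

theorem fu_eq1_2 : (fuP1_2.map (certTwo.fuseEq 1 (certTwo.fuse.getD 1 ([], [], [])).1
    (certTwo.fuse.getD 1 ([], [], [])).2.1) == fuE1_2) = true := by decide +kernel

def fuP1_3 : List (List ℕ × List ℕ) :=
  [([3,2], [2,3,5,6,10,11,12]), ([3,3], [])]

def fuE1_3 : List (Bool × Cfsg.Lib.Schur.Prime.Form) := [
  (true, [(35, 1), (53, 1), (68, 1), (70, 1), (71, 1), (85, 1), (88, 1), (89, 1), (103, 1), (105, 1), (106, 1), (108, 1), (120, 1), (121, 1), (122, 1), (125, 1), (126, 1), (139, 1), (142, 1), (143, 1), (153, 1), (155, 1), (156, 1), (157, 1), (159, 1), (160, 1), (161, 1), (162, 1), (172, 1), (174, 1), (175, 1), (176, 1), (177, 1), (178, 1), (187, 1), (191, 1), (192, 1), (193, 1), (194, 1), (197, 1), (198, 1), (204, 1), (207, 1), (208, 1), (209, 1), (211, 1), (215, 1), (216, 1), (221, 1), (226, 1), (227, 1), (229, 1), (230, 1), (232, 1), (238, 1), (239, 1), (242, 1), (243, 1), (249, 1), (250, 1), (251, 1), (256, 1), (257, 1), (258, 1), (259, 1), (260, 1),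 (264, 1), (266, 1), (270, 1), (272, 1), (273, 1), (274, 1), (275, 1), (276, 1), (277, 1), (278, 1), (279, 1), (280, 1), (281, 1), (284, 1), (358, 1), (359, 1), (363, 1), (364, 1), (365, 1)]),
  (true, [(36, 1), (70, 1), (87, 1), (104, 1), (106, 1), (107, 1), (108, 1), (121, 1), (123, 1), (124, 1), (125, 1), (126, 1), (138, 1), (157, 1), (158, 1), (162, 1), (192, 1), (193, 1), (195, 1), (196, 1), (198, 1), (210, 1), (212, 1), (213, 1), (223, 1), (225, 1), (228, 1), (230, 1), (232, 1), (233, 1), (243, 1), (244, 1), (245, 1), (246, 1), (249, 1), (252, 1), (260, 1), (263, 1), (264, 1), (266, 1), (268, 1), (269, 1), (270, 1), (277, 1), (278, 1), (279, 1), (280, 1), (281, 1), (283, 1), (284, 1), (285, 1), (286, 1), (287, 1), (288, 1)])]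

theorem fu_eq1_3 : (fuP1_3.map (certTwo.fuseEq 1 (certTwo.fuse.getD 1 ([], [], [])).1
    (certTwo.fuse.getD 1 ([], [], [])).2.1) == fuE1_3) = true := by decide +kernel

def fuP1_4 : List (List ℕ × List ℕ) :=
  [([4,0], [0,4,7,10,11,12]), ([4,1], [1,4,7,8,9,12])]

def fuE1_4 : List (Bool × Cfsg.Lib.Schur.Prime.Form) := [
  (true, [(35, 1), (36, 1), (53, 1), (71, 1), (87, 1), (88, 1), (89, 1), (120, 1), (122, 1), (124, 1), (126, 1), (136, 1), (141, 1), (142, 1), (153, 1), (155, 1), (157, 1), (158, 1), (160, 1), (162, 1), (171, 1), (173, 1), (176, 1), (177, 1), (188, 1), (191, 1), (192, 1), (193, 1), (194, 1), (195, 1), (196, 1), (197, 1), (207, 1), (208, 1), (209, 1), (210, 1), (211, 1), (214, 1), (221, 1), (223, 1), (229, 1), (230, 1), (231, 1), (232, 1), (233, 1), (238, 1), (244, 1), (246, 1), (248, 1), (250, 1), (252, 1), (255, 1), (256, 1), (257, 1), (259, 1), (260, 1), (261, 1), (262, 1), (263, 1), (264, 1), (265, 1), (266, 1), (270, 1), (272, 1), (273, 1),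 (274, 1), (279, 1), (283, 1), (285, 1), (286, 1), (287, 1), (288, 1), (360, 1), (363, 1), (364, 1), (365, 1)]),
  (true, [(35, 1), (36, 1), (70, 1), (87, 1), (104, 1), (120, 1), (121, 1), (125, 1), (126, 1), (137, 1), (138, 1), (144, 1), (154, 1), (158, 1), (159, 1), (160, 1), (171, 1), (172, 1), (174, 1), (175, 1), (176, 1), (177, 1), (178, 1), (179, 1), (180, 1), (188, 1), (191, 1), (192, 1), (194, 1), (197, 1), (205, 1), (206, 1), (209, 1), (211, 1), (214, 1), (223, 1), (226, 1), (229, 1), (230, 1), (231, 1), (232, 1), (233, 1), (234, 1), (239, 1), (242, 1), (243, 1), (249, 1), (250, 1), (251, 1), (259, 1), (260, 1), (267, 1), (268, 1), (269, 1), (270, 1), (277, 1), (280, 1), (281, 1), (285, 1), (288, 1), (360, 1), (361, 1), (362, 1), (365, 1)])]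

theorem fu_eq1_4 : (fuP1_4.map (certTwo.fuseEq 1 (certTwo.fuse.getD 1 ([], [], [])).1
    (certTwo.fuse.getD 1 ([], [], [])).2.1) == fuE1_4) = true := by decide +kernel

def fuP1_5 : List (List ℕ × List ℕ) :=
  [([4,2], [2,4,7,10,11,12]), ([5,0], [0,5,7,9,11])]

def fuE1_5 : List (Bool × Cfsg.Lib.Schur.Prime.Form) := [
  (true, [(35, 1), (36, 1), (53, 1), (71, 1), (87, 1), (88, 1), (89, 1), (104, 1), (106, 1), (107, 1), (120, 1), (122, 1), (124, 1), (125, 1), (126, 1), (136, 1), (140, 1), (153, 1), (155, 1), (157, 1), (158, 1), (159, 1), (160, 1), (161, 1), (162, 1), (171, 1), (172, 1), (173, 1), (174, 1), (175, 1), (179, 1), (188, 1), (192, 1), (196, 1), (198, 1), (206, 1), (207, 1), (209, 1), (211, 1), (213, 1), (215, 1), (216, 1), (221, 1), (223, 1), (225, 1), (226, 1), (227, 1), (229, 1), (231, 1), (234, 1), (238, 1), (241, 1), (242, 1), (245, 1), (246, 1), (251, 1), (255, 1), (256, 1), (257, 1), (258, 1), (260, 1), (262, 1), (264, 1), (265, 1), (268, 1), (269,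 1), (270, 1), (272, 1), (273, 1), (274, 1), (276, 1), (277, 1), (279, 1), (280, 1), (281, 1), (282, 1), (283, 1), (284, 1), (286, 1), (288, 1), (360, 1), (363, 1), (364, 1), (365, 1)]),
  (true, [(35, 1), (36, 1), (53, 1), (71, 1), (87, 1), (88, 1), (89, 1), (103, 1), (104, 1), (105, 1), (107, 1), (120, 1), (122, 1), (124, 1), (126, 1), (136, 1), (137, 1), (138, 1), (139, 1), (153, 1), (156, 1), (158, 1), (159, 1), (172, 1), (175, 1), (176, 1), (177, 1), (178, 1), (179, 1), (187, 1), (188, 1), (194, 1), (198, 1), (204, 1), (206, 1), (211, 1), (212, 1), (213, 1), (222, 1), (228, 1), (231, 1), (232, 1), (233, 1), (234, 1), (238, 1), (241, 1), (242, 1), (244, 1), (246, 1), (248, 1), (250, 1), (251, 1), (252, 1), (255, 1), (256, 1), (259, 1), (260, 1), (261, 1), (262, 1), (263, 1), (264, 1), (265, 1), (268, 1), (273, 1), (276, 1), (277, 1), (278, 1), (283, 1), (286, 1), (287, 1), (360, 1), (362, 1), (364, 1)])]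

theorem fu_eq1_5 : (fuP1_5.map (certTwo.fuseEq 1 (certTwo.fuse.getD 1 ([], [], [])).1
    (certTwo.fuse.getD 1 ([], [], [])).2.1) == fuE1_5) = true := by decide +kernel

def fuP1_6 : List (List ℕ × List ℕ) :=
  [([6,0], [0,6,7,9,11]), ([6,1], [1,6,7,8,9,12])]

def fuE1_6 : List (Bool × Cfsg.Lib.Schur.Prime.Form) := [
  (true, [(34, 1), (36, 1), (70, 1), (72, 1), (87, 1), (89, 1), (90, 1), (102, 1), (106, 1), (107, 1), (108, 1), (119, 1), (121, 1), (126, 1), (136, 1), (137, 1), (140, 1), (142, 1), (143, 1), (144, 1), (153, 1), (155, 1), (157, 1), (158, 1), (159, 1), (162, 1), (172, 1), (174, 1), (175, 1), (176, 1), (177, 1), (178, 1), (179, 1), (189, 1), (190, 1), (192, 1), (193, 1), (194, 1), (196, 1), (208, 1), (210, 1), (212, 1), (214, 1), (216, 1), (221, 1), (222, 1), (223, 1), (224, 1), (225, 1), (227, 1), (231, 1), (232, 1), (233, 1), (234, 1), (241, 1), (243, 1), (247, 1), (250, 1), (251, 1), (252, 1), (255, 1), (256, 1), (259, 1), (260, 1), (261, 1), (262,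 1), (263, 1), (265, 1), (266, 1), (269, 1), (273, 1), (274, 1), (275, 1), (277, 1), (278, 1), (279, 1), (280, 1), (281, 1), (286, 1), (288, 1), (360, 1), (362, 1), (364, 1)]),
  (true, [(35, 1), (36, 1), (69, 1), (70, 1), (86, 1), (106, 1), (107, 1), (108, 1), (120, 1), (121, 1), (125, 1), (137, 1), (138, 1), (143, 1), (159, 1), (161, 1), (162, 1), (171, 1), (172, 1), (174, 1), (188, 1), (192, 1), (193, 1), (194, 1), (196, 1), (197, 1), (206, 1), (208, 1), (210, 1), (211, 1), (212, 1), (215, 1), (216, 1), (222, 1), (225, 1), (226, 1), (228, 1), (230, 1), (233, 1), (240, 1), (242, 1), (245, 1), (246, 1), (248, 1), (249, 1), (256, 1), (257, 1), (259, 1), (260, 1), (262, 1), (263, 1), (265, 1), (267, 1), (269, 1), (274, 1), (276, 1), (277, 1), (278, 1), (280, 1), (281, 1), (282, 1), (283, 1), (285, 1), (286, 1), (288, 1), (360, 1), (361, 1), (362, 1), (365, 1)])]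

theorem fu_eq1_6 : (fuP1_6.map (certTwo.fuseEq 1 (certTwo.fuse.getD 1 ([], [], [])).1
    (certTwo.fuse.getD 1 ([], [], [])).2.1) == fuE1_6) = true := by decide +kernel

theorem ov_split : (certTwo.overlaps == ovP0 ++ ovP1 ++ ovP2 ++ ovP3 ++ ovP4 ++ ovP5 ++ ovP6 ++ ovP7 ++ ovP8 ++ ovP9 ++ ovP10) = true := by decide +kernel

theorem fu_split0 : ((certTwo.fuse.getD 0 ([], [], [])).2.2 == fuP0_0 ++ fuP0_1 ++ fuP0_2 ++ fuP0_3 ++ fuP0_4 ++ fuP0_5 ++ fuP0_6 ++ fuP0_7) = true := by decide +kernel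

theorem fu_split1 : ((certTwo.fuse.getD 1 ([], [], [])).2.2 == fuP1_0 ++ fuP1_1 ++ fuP1_2 ++ fuP1_3 ++ fuP1_4 ++ fuP1_5 ++ fuP1_6) = true := by decide +kernel

/-- The equations. -/
def eqsTwo : List (Bool × Cfsg.Lib.Schur.Prime.Form) :=
  (ovE0 ++ ovE1 ++ ovE2 ++ ovE3 ++ ovE4 ++ ovE5 ++ ovE6 ++ ovE7 ++ ovE8 ++ ovE9 ++ ovE10) ++
    ((fuE0_0 ++ fuE0_1 ++ fuE0_2 ++ fuE0_3 ++ fuE0_4 ++ fuE0_5 ++ fuE0_6 ++ fuE0_7) ++ (fuE1_0 ++ fuE1_1 ++ fuE1_2 ++ fuE1_3 ++ fuE1_4 ++ fuE1_5 ++ fuE1_6))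

theorem eqsTwo_lit : (certTwo.eqs == eqsTwo) = true := by
  rw [beq_iff_eq]
  unfold Cert.eqs eqsTwo
  rw [show certTwo.fuse.length = 2 by decide +kernel, beq_iff_eq.mp ov_split]
  simp only [List.range_succ, List.range_zero, List.nil_append, List.flatMap_append, List.flatMap_cons,
    List.flatMap_nil, List.append_nil, List.map_append, beq_iff_eq.mp fu_split0, beq_iff_eq.mp fu_split1,
    beq_iff_eq.mp ov_eq0, beq_iff_eq.mp ov_eq1, beq_iff_eq.mp ov_eq2, beq_iff_eq.mp ov_eq3, beq_iff_eq.mp ov_eq4, beq_iff_eq.mp ov_eq5, beq_iff_eq.mp ov_eq6, beq_iff_eq.mp ov_eq7, beq_iff_eq.mp ov_eq8, beq_iff_eq.mp ov_eq9, beq_iff_eq.mp ov_eq10,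
    beq_iff_eq.mp fu_eq0_0, beq_iff_eq.mp fu_eq0_1, beq_iff_eq.mp fu_eq0_2, beq_iff_eq.mp fu_eq0_3, beq_iff_eq.mp fu_eq0_4, beq_iff_eq.mp fu_eq0_5, beq_iff_eq.mp fu_eq0_6, beq_iff_eq.mp fu_eq0_7, beq_iff_eq.mp fu_eq1_0, beq_iff_eq.mp fu_eq1_1, beq_iff_eq.mp fu_eq1_2, beq_iff_eq.mp fu_eq1_3, beq_iff_eq.mp fu_eq1_4, beq_iff_eq.mp fu_eq1_5, beq_iff_eq.mp fu_eq1_6]

theorem baseTwo : (Nat.blt 1 certTwo.p && eqsTwo.all (·.1) && certTwo.shapesOK) = true := by decide +kernel

theorem selTwo0 : certTwo.rowOK eqsTwo 0 = true := by decide +kernel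

theorem selTwo1 : certTwo.rowOK eqsTwo 1 = true := by decide +kernel

theorem selTwo2 : certTwo.rowOK eqsTwo 2 = true := by decide +kernel

theorem selTwo3 : certTwo.rowOK eqsTwo 3 = true := by decide +kernel

theorem selTwo4 : certTwo.rowOK eqsTwo 4 = true := by decide +kernel

theorem selTwo5 : certTwo.rowOK eqsTwo 5 = true := by decide +kernel

theorem selTwo6 : certTwo.rowOK eqsTwo 6 = true := by decide +kernel

theorem selTwo7 : certTwo.rowOK eqsTwo 7 = true := by decide +kernel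

theorem selTwo8 : certTwo.rowOK eqsTwo 8 = true := by decide +kernel

theorem selTwo9 : certTwo.rowOK eqsTwo 9 = true := by decide +kernel

theorem selTwo10 : certTwo.rowOK eqsTwo 10 = true := by decide +kernel

theorem selTwo11 : certTwo.rowOK eqsTwo 11 = true := by decide +kernel

theorem selTwo12 : certTwo.rowOK eqsTwo 12 = true := by decide +kernel

theorem selTwo13 : certTwo.rowOK eqsTwo 13 = true := by decide +kernel

theorem selTwo14 : certTwo.rowOK eqsTwo 14 = true := by decide +kernel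

theorem selTwo15 : certTwo.rowOK eqsTwo 15 = true := by decide +kernel

theorem selTwo16 : certTwo.rowOK eqsTwo 16 = true := by decide +kernel

theorem certTwo_ok : certTwo.ok = true :=
  Cert.ok_of_lit certTwo eqsTwo_lit baseTwo fun j hj => match j, hj with
    | 0, _ => selTwo0
    | 1, _ => selTwo1
    | 2, _ => selTwo2
    | 3, _ => selTwo3
    | 4, _ => selTwo4
    | 5, _ => selTwo5
    | 6, _ => selTwo6
    | 7, _ => selTwo7
    | 8, _ => selTwo8
    | 9, _ => selTwo9
    | 10, _ => selTwo10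
    | 11, _ => selTwo11
    | 12, _ => selTwo12
    | 13, _ => selTwo13
    | 14, _ => selTwo14
    | 15, _ => selTwo15
    | 16, _ => selTwo16
    | _ + 17, h => absurd h (by simp [certTwo])

end Cfsg.Lib.USixTwoCover
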