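import Cfsg.Agent.USixTwoCover.Data
import Cfsg.Agent.USixTwoCover.CertTwo
import Cfsg.Agent.USixTwoCover.Forms

/-!
Computations on the three involutions generating the cover of degree 12.
-/

set_option autoImplicit false
set_option maxRecDepth 100000
set_option Elab.async false

namespace Cfsg.Lib.USixTwoCover

open Cfsg.Lib.PermCert Cfsg.Lib.CosetCert

/-- A letter on the points. -/
def tab (l : ℕ) : ℕ := (covTabs.getD l (0, 0)).1

theorem valid_tabs : covTabs.all (valid 4704) = true := by decide +kernel

theorem covTabs_sq : ((List.range 3).all fun l => trivWord 4704 covTabs [l, l]) = true := by decide +kernel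

theorem chain_ok : chainOK covTabs 4704 3 (covChain.map SLev.lev) = true := by decide +kernel

theorem chain_idx : covChain.all (SLev.ok covTabs) = true := by decide +kernel

theorem chain_size : chainSize (covChain.map SLev.lev) = 110361968640 ∧ covTabs.length = 3 := by decide +kernel

/-- Product in the field with four elements. -/
def mul4 (x y : ℕ) : ℕ := (2625168384 >>> (2 * (4 * x + y))) % 4

/-- The code of a vector. -/
def vcode (r : ℕ) : ℕ := ap vecTab r

/-- An entry of a letter. -/
def mc (l i j : ℕ) : ℕ := ((matTabs.getD l []).getD i []).getD j 0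

/-- A coordinate. -/
def coord (c i : ℕ) : ℕ := c / 4 ^ i % 4

/-- A coordinate of an image. -/
def imgC (l c i : ℕ) : ℕ :=
  mul4 (mc l i 0) (coord c 0) ^^^ mul4 (mc l i 1) (coord c 1) ^^^ mul4 (mc l i 2) (coord c 2) ^^^ mul4 (mc l i 3) (coord c 3) ^^^ mul4 (mc l i 4) (coord c 4) ^^^ mul4 (mc l i 5) (coord c 5)

/-- The letters act on the vectors by their matrices. -/
def vecOK (l : ℕ) : Bool :=
  (List.range 2016).all fun r => Nat.blt (ap (tab l) r) 2016 &&
    (List.range 6).all fun i => imgC l (vcode r) i == coord (vcode (ap (tab l) r)) i

theorem vec_0 : vecOK 0 = true := by decide +kernel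
theorem vec_1 : vecOK 1 = true := by decide +kernel
theorem vec_2 : vecOK 2 = true := by decide +kernel

theorem vec_code : ((List.range 2016).all fun r => decide (vcode r < 4096) && (ap idxTab (vcode r) == r)) = true := by
  decide +kernel

theorem vec_unit : ((List.range 6).all fun k => vcode (3 * k) == 4 ^ k) = true := by decide +kernel

/-- The next multiple of a vector. -/
def nextV (r : ℕ) : ℕ := 3 * (r / 3) + (r + 1) % 3

theorem vec_next : ((List.range 2016).all fun r => decide (nextV r < 2016) && (List.range 6).all fun i =>
    coord (vcode (nextV r)) i == mul4 2 (coord (vcode r) i)) = true := by decide +kernel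

/-- The other point of a fibre. -/
def flipOf (a : ℕ) : ℕ := 2 * (a / 2) + (a + 1) % 2

/-- A letter moves the objects of one copy as the points of the projective space. -/
def linkOK (l h T : ℕ) : Bool :=
  (List.range 1344).all fun r => Nat.ble h (ap (tab l) (h + r)) && Nat.blt (ap (tab l) (h + r)) (h + 1344) &&
    (ap (tab l) (h + flipOf r) - h == flipOf (ap (tab l) (h + r) - h)) &&
    (ap T ((ap (tab l) (h + r) - h) / 2) == ap (tab l) (3 * ap T (r / 2)) / 3)

theorem link_0 : linkOK 0 2016 objTab1 = true ∧ linkOK 0 3360 objTab2 = true := by decide +kernel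
theorem link_1 : linkOK 1 2016 objTab1 = true ∧ linkOK 1 3360 objTab2 = true := by decide +kernel
theorem link_2 : linkOK 2 2016 objTab1 = true ∧ linkOK 2 3360 objTab2 = true := by decide +kernel

theorem obj_inj : ((List.range 672).all fun u => decide (ap objTab1 u < 672) && (ap objTab1 (ap objTab1 u) == u) &&
    decide (ap objTab2 u < 672) && (ap invTab2 (ap objTab2 u) == u)) = true := by decide +kernel

/-- The entry of a point. -/
def row (r : ℕ) : ℕ × ℕ := (nbrRows.getD (r / 32) []).getD (r % 32) (0, 0)

/-- The packed neighbours of a point. -/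
def nbrP (r : ℕ) : ℕ := (row r).1

/-- The points related to one. -/
def nbr (r : ℕ) : ℕ := (row r).2

/-- The image of a packed set of points. -/
def imgMask (f : ℕ → ℕ) (P : ℕ) : ℕ := (List.range 176).foldl (fun acc i => acc ||| 2 ^ f (ap P i)) 0

/-- A property of every entry of a list, with its index. -/
def allIdx (f : ℕ → ℕ × ℕ → Bool) : ℕ → List (ℕ × ℕ) → Bool
  | _, [] => true
  | i, e :: L => f i e && allIdx f (i + 1) L

/-- A letter keeps the relation on one copy. -/
def relOK (l h a : ℕ) : Bool :=
  (List.range' a 7).all fun b => allIdx (fun r e =>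
    imgMask (fun s => ap (tab l) (h + s) - h) e.1 == nbr (ap (tab l) (h + r) - h)) (32 * b) (nbrRows.getD b [])

theorem rel_0_0_0 : relOK 0 2016 0 = true := by decide +kernel
theorem rel_0_0_1 : relOK 0 2016 7 = true := by decide +kernel
theorem rel_0_0_2 : relOK 0 2016 14 = true := by decide +kernel
theorem rel_0_0_3 : relOK 0 2016 21 = true := by decide +kernel
theorem rel_0_0_4 : relOK 0 2016 28 = true := by decide +kernel
theorem rel_0_0_5 : relOK 0 2016 35 = true := by decide +kernel
theorem rel_0_1_0 : relOK 0 3360 0 = true := by decide +kernel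
theorem rel_0_1_1 : relOK 0 3360 7 = true := by decide +kernel
theorem rel_0_1_2 : relOK 0 3360 14 = true := by decide +kernel
theorem rel_0_1_3 : relOK 0 3360 21 = true := by decide +kernel
theorem rel_0_1_4 : relOK 0 3360 28 = true := by decide +kernel
theorem rel_0_1_5 : relOK 0 3360 35 = true := by decide +kernel
theorem rel_1_0_0 : relOK 1 2016 0 = true := by decide +kernel
theorem rel_1_0_1 : relOK 1 2016 7 = true := by decide +kernel
theorem rel_1_0_2 : relOK 1 2016 14 = true := by decide +kernel
theorem rel_1_0_3 : relOK 1 2016 21 = true := by decide +kernel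
theorem rel_1_0_4 : relOK 1 2016 28 = true := by decide +kernel
theorem rel_1_0_5 : relOK 1 2016 35 = true := by decide +kernel
theorem rel_1_1_0 : relOK 1 3360 0 = true := by decide +kernel
theorem rel_1_1_1 : relOK 1 3360 7 = true := by decide +kernel
theorem rel_1_1_2 : relOK 1 3360 14 = true := by decide +kernel
theorem rel_1_1_3 : relOK 1 3360 21 = true := by decide +kernel
theorem rel_1_1_4 : relOK 1 3360 28 = true := by decide +kernel
theorem rel_1_1_5 : relOK 1 3360 35 = true := by decide +kernel
theorem rel_2_0_0 : relOK 2 2016 0 = true := by decide +kernel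
theorem rel_2_0_1 : relOK 2 2016 7 = true := by decide +kernel
theorem rel_2_0_2 : relOK 2 2016 14 = true := by decide +kernel
theorem rel_2_0_3 : relOK 2 2016 21 = true := by decide +kernel
theorem rel_2_0_4 : relOK 2 2016 28 = true := by decide +kernel
theorem rel_2_0_5 : relOK 2 2016 35 = true := by decide +kernel
theorem rel_2_1_0 : relOK 2 3360 0 = true := by decide +kernel
theorem rel_2_1_1 : relOK 2 3360 7 = true := by decide +kernel
theorem rel_2_1_2 : relOK 2 3360 14 = true := by decide +kernel
theorem rel_2_1_3 : relOK 2 3360 21 = true := by decide +kernel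
theorem rel_2_1_4 : relOK 2 3360 28 = true := by decide +kernel
theorem rel_2_1_5 : relOK 2 3360 35 = true := by decide +kernel

/-- The packed sets agree with the sets, and no two related points lie in a fibre. -/
def fibreOK (a : ℕ) : Bool :=
  (List.range' a 7).all fun b => ((nbrRows.getD b []).length == 32) && allIdx (fun _ e =>
    (imgMask (fun s => s) e.1 == e.2) &&
      (List.range 176).all fun i => Nat.blt (ap e.1 i) 1344 && !(Nat.testBit e.2 (flipOf (ap e.1 i))))
    (32 * b) (nbrRows.getD b [])

theorem fibre_0 : fibreOK 0 = true := by decide +kernel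
theorem fibre_1 : fibreOK 7 = true := by decide +kernel
theorem fibre_2 : fibreOK 14 = true := by decide +kernel
theorem fibre_3 : fibreOK 21 = true := by decide +kernel
theorem fibre_4 : fibreOK 28 = true := by decide +kernel
theorem fibre_5 : fibreOK 35 = true := by decide +kernel

/-- The objects reached along a list of edges. -/
def reach : List (ℕ × ℕ) → List ℕ → List ℕ
  | [], S => S
  | e :: l, S => reach l (bif S.contains (e.2 / 2) then e.1 / 2 :: S else S)

theorem tree_ok : (treeEdges.all fun e => decide (e.1 < 1344) && decide (e.2 < 1344) && (nbr e.2).testBit e.1) = true := by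
  decide +kernel

theorem tree_reach : ((fun S => (List.range 672).all fun p => S.contains p) (reach treeEdges [0])) = true := by
  decide +kernel

/-- Two words have the same images of the base points. -/
def sameC (w u : List ℕ) : Bool :=
  (w.all fun l => decide (l < 3)) && (u.all fun l => decide (l < 3)) &&
    covChain.all fun S => evalW covTabs w S.lev.b == evalW covTabs u S.lev.b

theorem coms_ok : ((List.range 3).all fun l => sameC ((letterComs.getD l ([], [])).1 ++ (letterComs.getD l ([], [])).2 ++
    (letterComs.getD l ([], [])).1.reverse ++ (letterComs.getD l ([], [])).2.reverse) [l]) = true := by decide +kernel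

/-- A product of the three central elements. -/
def zProd (i j k : ℕ) : List ℕ :=
  (List.replicate i (zWords.getD 0 [])).flatten ++ ((List.replicate j (zWords.getD 1 [])).flatten ++
    (List.replicate k (zWords.getD 2 [])).flatten)

/-- The base points moved by a product. -/
def zImg (i j k : ℕ) : List ℕ := covChain.map fun S => evalW covTabs (zProd i j k) S.lev.b

theorem z_ok : zWords.length = 3 ∧
    ((List.range 3).all fun k => (List.range 3).all fun l => sameC (zWords.getD k [] ++ [l]) ([l] ++ zWords.getD k [])) = true ∧
    sameC (List.replicate 3 (zWords.getD 0 [])).flatten [] = true ∧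
    sameC (List.replicate 2 (zWords.getD 1 [])).flatten [] = true ∧
    sameC (List.replicate 2 (zWords.getD 2 [])).flatten [] = true ∧
    ((List.range 3).all fun i => (List.range 2).all fun j => (List.range 2).all fun k =>
      ((i == 0) && (j == 0) && (k == 0)) || zImg i j k != zImg 0 0 0) = true := by
  decide +kernel

/-- The word of a product of generators. -/
def pcFlat (pcw : List (List ℕ)) (l : List ℕ) : List ℕ := l.flatMap fun k => pcw.getD k []

/-- The rules with a given first index. -/
def ruleC (c : Cfsg.Lib.Schur.Prime.Cert) (pcw : List (List ℕ)) (j : ℕ) : Bool :=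
  (List.range (j + 1)).all fun i => sameC (pcFlat pcw (c.lhs j i)) (pcFlat pcw (c.tail j i))

/-- The conjugations. -/
def fusC (c : Cfsg.Lib.Schur.Prime.Cert) (pcw fw : List (List ℕ)) : Bool :=
  (List.range c.fuse.length).all fun f =>
    (List.range (c.fuse.getD f ([], [], [])).1.length).all fun k =>
      sameC (fw.getD f [] ++ pcFlat pcw ((c.fuse.getD f ([], [], [])).1.getD k []))
        (pcFlat pcw ((c.fuse.getD f ([], [], [])).2.1.getD k []) ++ fw.getD f [])

/-- The chain of a Sylow subgroup as levels. -/
def levsOf (pcw : List (List ℕ)) (levels : List (ℕ × List (List ℕ) × List (ℕ × ℕ × ℕ))) : List Lev :=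
  levels.map fun L => ⟨L.1, L.2.1.map (pcFlat pcw), L.2.2⟩

/-- The Sylow subgroup is large enough. -/
def countC (c : Cfsg.Lib.Schur.Prime.Cert) (pcw : List (List ℕ))
    (levels : List (ℕ × List (List ℕ) × List (ℕ × ℕ × ℕ))) : Bool :=
  (levels.all fun L => L.2.1.all fun l => l.all fun k => decide (k < c.n)) &&
    chainOK covTabs 4704 3 (levsOf pcw levels) && decide (chainSize (levsOf pcw levels) = c.p ^ c.n)

theorem rulesTwo : ((List.range' 0 17).all fun j => ruleC certTwo pcwTwo j) = true := by decide +kernel

theorem rulesThree : ((List.range' 0 7).all fun j => ruleC certThree pcwThree j) = true := by decide +kernel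

theorem fusTwo : fusC certTwo pcwTwo fwTwo = true := by decide +kernel

theorem fusThree : fusC certThree pcwThree fwThree = true := by decide +kernel

theorem countTwo : countC certTwo pcwTwo sylTwo = true := by decide +kernel

theorem countThree : countC certThree pcwThree sylThree = true := by decide +kernel

theorem certThree_ok : certThree.ok = true := by decide +kernel

end Cfsg.Lib.USixTwoCover
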