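import Cfsg.Agent.PrimeGraph.FieldFour
import Cfsg.Agent.UFourThreeCover.Field

/-!
The field with four elements, unitary matrices over it, and the order of the six-dimensional projective group.
-/

set_option autoImplicit false
set_option maxRecDepth 100000

namespace Cfsg.Lib.USixTwoCover

open scoped Matrix
open Cfsg.Lib.PrimeGraph

/-- The field with four elements. -/
abbrev K : Type := KQuad

theorem card_K : Fintype.card K = 4 := KQuad.card_eq

/-- The square. -/
def sqr : K →+* K where
  toFun x := x * x
  map_one' := one_mul 1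
  map_mul' := fun a b => by ring
  map_zero' := zero_mul 0
  map_add' := fun a b => CharTwo.add_mul_self a b

theorem sqr_apply (x : K) : sqr x = x ^ 2 := by
  show x * x = _
  ring

theorem hermForm_eq (n : ℕ) (u v : Fin n → K) :
    Cfsg.hermForm n K 2 u v = u ⬝ᵥ (fun i => sqr (v i)) := by
  simp [Cfsg.hermForm, dotProduct, sqr_apply]

/-- Unitary matrices preserve the form. -/
theorem herm_preserved {n : ℕ} {M : Matrix (Fin n) (Fin n) K} (h : Mᵀ * M.map sqr = 1) (u v : Fin n → K) :
    Cfsg.hermForm n K 2 (M *ᵥ u) (M *ᵥ v) = Cfsg.hermForm n K 2 u v := by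
  rw [hermForm_eq, hermForm_eq]
  have e : (fun i => sqr ((M *ᵥ v) i)) = M.map sqr *ᵥ fun i => sqr (v i) :=
    funext fun i => RingHom.map_mulVec sqr M v i
  rw [e, Matrix.dotProduct_mulVec, ← Matrix.mulVec_transpose, Matrix.mulVec_mulVec,
    show (M.map sqr)ᵀ * M = (Mᵀ * M.map sqr)ᵀ by rw [Matrix.transpose_mul, Matrix.transpose_transpose], h,
    Matrix.transpose_one, Matrix.one_mulVec]

theorem det_one_of_sq {M : Matrix (Fin 6) (Fin 6) K} (h : M * M = 1) : M.det = 1 := by
  have e := congrArg Matrix.det h
  rw [Matrix.det_mul, Matrix.det_one] at e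
  exact (show ∀ x : K, x * x = 1 → x = 1 by simp only [KQuad.forall_iff]; decide +kernel) _ e

theorem card_psu : Nat.card (Cfsg.PSU 6 K 2) = 9196830720 := by
  have h := Cfsg.Agent.S0280.result (F := K) (q := 2) (by rw [card_K]; norm_num) 6 (by norm_num)
  norm_num [Finset.prod_range_succ, Nat.even_iff] at h
  omega

end Cfsg.Lib.USixTwoCover
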