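import Cfsg.Agent.USixTwoCover.Checks
import Cfsg.Agent.USixTwoCover.Field
import Cfsg.Agent.CosetCert.Kit
import Cfsg.Prelude.Def_KGroupFacts

/-!
The group generated by three permutations of 4704 points as a central extension of degree at most 12 of the projective
special unitary group in dimension six over four elements.
-/

set_option autoImplicit false
set_option maxHeartbeats 1000000
set_option maxRecDepth 100000
set_option linter.style.haveILetI false

namespace Cfsg.Lib.USixTwoCover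

open Cfsg.Lib.PermCert Cfsg.Lib.CosetCert
open scoped Matrix

theorem covTabs_length : covTabs.length = 3 := chain_size.2

theorem tab_valid {l : ℕ} (hl : l < 3) : valid 4704 (covTabs.getD l (0, 0)) = true := by
  rw [List.getD_eq_getElem _ _ (covTabs_length.symm ▸ hl)]
  exact List.all_eq_true.1 valid_tabs _ (List.getElem_mem _)

/-- The three involutions. -/
def imC (l : ℕ) : Equiv.Perm (Fin 4704) := perm 4704 (covTabs.getD l (0, 0))

theorem imC_sq {l : ℕ} (hl : l < 3) : imC l * imC l = 1 := by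
  have h := List.all_eq_true.1 covTabs_sq l (List.mem_range.2 hl)
  simp only [trivWord, Bool.and_eq_true] at h
  simpa [wperm, imC] using isId_sound (w := [l, l].map fun l => covTabs.getD l (0, 0))
    (fun g hg => by
      obtain ⟨l', hl', rfl⟩ := List.mem_map.1 hg
      exact tab_valid (by simp at hl'; omega)) h.2

/-- The generated group. -/
abbrev Cover : Type := ↥(lgp imC (List.range 3))

/-- The letters. -/
def imD (l : ℕ) : Cover := if h : l < 3 then ⟨imC l, lgp_mem imC (List.mem_range.2 h)⟩ else 1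

theorem coe_imD {l : ℕ} (hl : l < 3) : ((imD l : Cover) : Equiv.Perm (Fin 4704)) = imC l := by
  rw [imD, dif_pos hl]

theorem imD_sq {l : ℕ} (hl : l < 3) : imD l * imD l = 1 :=
  Subtype.ext (by rw [Subgroup.coe_mul, coe_imD hl]; exact imC_sq hl)

theorem tabledD : Tabled imD (lgp imC (List.range 3)).subtype covTabs where
  act := fun l hl => ⟨tab_valid (covTabs_length ▸ hl), coe_imD (covTabs_length ▸ hl)⟩
  sq := fun l hl => imD_sq (covTabs_length ▸ hl)

theorem top_eq {P : Subgroup Cover} (h : ∀ l < 3, imD l ∈ P) : P = ⊤ := by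
  have hle : lgp imC (List.range 3) ≤ P.map (lgp imC (List.range 3)).subtype := by
    refine (Subgroup.closure_le _).2 ?_
    rintro _ ⟨l, hl, rfl⟩
    exact ⟨imD l, h l (List.mem_range.1 hl), coe_imD (List.mem_range.1 hl)⟩
  refine eq_top_iff.2 fun g _ => ?_
  obtain ⟨g', hg', e⟩ := hle g.2
  exact Subtype.ext e ▸ hg'

/-- A point of a block. -/
def blockPt {m : ℕ} (h : ℕ) (hh : h + m ≤ 4704) (x : Fin m) : Fin 4704 :=
  ⟨h + x.val, lt_of_lt_of_le (Nat.add_lt_add_left x.isLt h) hh⟩

theorem blockPt_inj {m : ℕ} (h : ℕ) (hh : h + m ≤ 4704) : Function.Injective (blockPt (m := m) h hh) :=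
  fun x y e => Fin.ext (by have := congrArg Fin.val e; simp only [blockPt] at this; omega)

/-- The permutations preserving a block. -/
def Rest (h m : ℕ) (hh : h + m ≤ 4704) : Subgroup (Equiv.Perm (Fin 4704)) where
  carrier := {g | ∃ q : Equiv.Perm (Fin m), ∀ x, g (blockPt h hh x) = blockPt h hh (q x)}
  one_mem' := ⟨1, fun _ => rfl⟩
  mul_mem' := by
    rintro g k ⟨q, hq⟩ ⟨r, hr⟩
    exact ⟨q * r, fun x => by rw [Equiv.Perm.mul_apply, hr, hq, Equiv.Perm.mul_apply]⟩
  inv_mem' := by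
    rintro g ⟨q, hq⟩
    refine ⟨q⁻¹, fun x => g.injective ?_⟩
    rw [hq, Equiv.Perm.coe_inv, Equiv.Perm.coe_inv, Equiv.apply_symm_apply, Equiv.apply_symm_apply]

/-- The letters keep a block. -/
def Keeps (h m : ℕ) : Prop := ∀ l < 3, ∀ x < m, h ≤ ap (tab l) (h + x) ∧ ap (tab l) (h + x) < h + m

theorem imC_block {h m : ℕ} (hh : h + m ≤ 4704) {l : ℕ} (hl : l < 3) (x : Fin m) :
    (imC l (blockPt h hh x)).val = ap (tab l) (h + x.val) := perm_apply (tab_valid hl) _

theorem cover_le {h m : ℕ} (hh : h + m ≤ 4704) (hk : Keeps h m) : lgp imC (List.range 3) ≤ Rest h m hh := by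
  refine (Subgroup.closure_le _).2 ?_
  rintro _ ⟨l, hl, rfl⟩
  have hl' := List.mem_range.1 hl
  let f : Fin m → Fin m := fun x => ⟨ap (tab l) (h + x.val) - h, by have := hk l hl' x.val x.isLt; omega⟩
  have hf : ∀ x, imC l (blockPt h hh x) = blockPt h hh (f x) := fun x => Fin.ext (by
    rw [imC_block hh hl']
    have := hk l hl' x.val x.isLt
    simp only [blockPt, f]
    omega)
  have hinj : Function.Injective f := fun x y e => blockPt_inj h hh ((imC l).injective (by rw [hf, hf, e]))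
  exact ⟨Equiv.ofBijective f (Finite.injective_iff_bijective.1 hinj), hf⟩

/-- The action on a block. -/
noncomputable def res (h m : ℕ) (hh : h + m ≤ 4704) (hk : Keeps h m) : Cover →* Equiv.Perm (Fin m) :=
  MonoidHom.mk' (fun g => (cover_le hh hk g.2).choose) fun g k => Equiv.ext fun x => blockPt_inj h hh (by
    rw [← (cover_le hh hk (g * k).2).choose_spec x, Subgroup.coe_mul, Equiv.Perm.mul_apply,
      (cover_le hh hk k.2).choose_spec x, (cover_le hh hk g.2).choose_spec, Equiv.Perm.mul_apply])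

theorem res_spec {h m : ℕ} (hh : h + m ≤ 4704) (hk : Keeps h m) (g : Cover) (x : Fin m) :
    (g : Equiv.Perm (Fin 4704)) (blockPt h hh x) = blockPt h hh (res h m hh hk g x) :=
  (cover_le hh hk g.2).choose_spec x

theorem res_imD {h m : ℕ} (hh : h + m ≤ 4704) (hk : Keeps h m) {l : ℕ} (hl : l < 3) (x : Fin m) :
    (res h m hh hk (imD l) x).val = ap (tab l) (h + x.val) - h := by
  have e := congrArg Fin.val (res_spec hh hk (imD l) x)
  rw [coe_imD hl, imC_block hh hl] at e
  simp only [blockPt] at e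
  omega

theorem vec_ok {l : ℕ} (hl : l < 3) : vecOK l = true := by
  interval_cases l
  exacts [vec_0, vec_1, vec_2]

theorem link_ok {l : ℕ} (hl : l < 3) : linkOK l 2016 objTab1 = true ∧ linkOK l 3360 objTab2 = true := by
  interval_cases l
  exacts [link_0, link_1, link_2]

theorem link_facts {l : ℕ} (hl : l < 3) {h T : ℕ} (hc : linkOK l h T = true) {r : ℕ} (hr : r < 1344) :
    (h ≤ ap (tab l) (h + r) ∧ ap (tab l) (h + r) < h + 1344) ∧
      ap (tab l) (h + flipOf r) - h = flipOf (ap (tab l) (h + r) - h) ∧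
      ap T ((ap (tab l) (h + r) - h) / 2) = ap (tab l) (3 * ap T (r / 2)) / 3 := by
  have h' := List.all_eq_true.1 hc r (List.mem_range.2 hr)
  simp only [Bool.and_eq_true, beq_iff_eq] at h'
  exact ⟨⟨Nat.le_of_ble_eq_true h'.1.1.1, Nat.le_of_ble_eq_true h'.1.1.2⟩, h'.1.2, h'.2⟩

theorem allIdx_get {f : ℕ → ℕ × ℕ → Bool} : ∀ {L : List (ℕ × ℕ)} {i : ℕ}, allIdx f i L = true →
    ∀ k < L.length, f (i + k) (L.getD k (0, 0)) = true
  | [], _, _, k, hk => absurd hk (by simp)
  | e :: L, i, h, 0, _ => by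
    rw [allIdx, Bool.and_eq_true] at h
    simpa using h.1
  | e :: L, i, h, k + 1, hk => by
    rw [allIdx, Bool.and_eq_true] at h
    have := allIdx_get h.2 k (by simpa using hk)
    simpa [Nat.add_assoc, Nat.add_comm 1 k] using this

theorem part_cases {r : ℕ} (hr : r < 1344) : ∃ a, (a = 0 ∨ a = 7 ∨ a = 14 ∨ a = 21 ∨ a = 28 ∨ a = 35) ∧
    r / 32 ∈ List.range' a 7 :=
  ⟨r / 32 / 7 * 7, by omega, List.mem_range'_1.2 (by omega)⟩

theorem row_facts {r : ℕ} (hr : r < 1344) :
    (nbrRows.getD (r / 32) []).length = 32 ∧ imgMask (fun s => s) (nbrP r) = nbr r ∧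
      ∀ i < 176, ap (nbrP r) i < 1344 ∧ (nbr r).testBit (flipOf (ap (nbrP r) i)) = false := by
  obtain ⟨a, ha, hb⟩ := part_cases hr
  have hc : fibreOK a = true := by
    rcases ha with rfl | rfl | rfl | rfl | rfl | rfl
    exacts [fibre_0, fibre_1, fibre_2, fibre_3, fibre_4, fibre_5]
  have h := List.all_eq_true.1 hc _ hb
  simp only [Bool.and_eq_true, beq_iff_eq] at h
  refine ⟨h.1, ?_⟩
  have h' := allIdx_get h.2 (r % 32) (by rw [h.1]; omega)
  simp only [Bool.and_eq_true, beq_iff_eq, List.all_eq_true, List.mem_range, Bool.not_eq_true'] at h'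
  exact ⟨h'.1, fun i hi => ⟨Nat.le_of_ble_eq_true (h'.2 i hi).1, (h'.2 i hi).2⟩⟩

theorem rel_ok {l : ℕ} (hl : l < 3) {r : ℕ} (hr : r < 1344) :
    ∀ h, h = 2016 ∨ h = 3360 → (∀ i < 176, ap (nbrP r) i < 1344) ∧
      imgMask (fun s => ap (tab l) (h + s) - h) (nbrP r) = nbr (ap (tab l) (h + r) - h) := by
  have hall : ∀ a, a = 0 ∨ a = 7 ∨ a = 14 ∨ a = 21 ∨ a = 28 ∨ a = 35 → relOK l 2016 a = true ∧ relOK l 3360 a = true := by
    rintro a (rfl | rfl | rfl | rfl | rfl | rfl) <;> interval_cases l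
    · exact ⟨rel_0_0_0, rel_0_1_0⟩
    · exact ⟨rel_1_0_0, rel_1_1_0⟩
    · exact ⟨rel_2_0_0, rel_2_1_0⟩
    · exact ⟨rel_0_0_1, rel_0_1_1⟩
    · exact ⟨rel_1_0_1, rel_1_1_1⟩
    · exact ⟨rel_2_0_1, rel_2_1_1⟩
    · exact ⟨rel_0_0_2, rel_0_1_2⟩
    · exact ⟨rel_1_0_2, rel_1_1_2⟩
    · exact ⟨rel_2_0_2, rel_2_1_2⟩
    · exact ⟨rel_0_0_3, rel_0_1_3⟩
    · exact ⟨rel_1_0_3, rel_1_1_3⟩
    · exact ⟨rel_2_0_3, rel_2_1_3⟩
    · exact ⟨rel_0_0_4, rel_0_1_4⟩
    · exact ⟨rel_1_0_4, rel_1_1_4⟩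
    · exact ⟨rel_2_0_4, rel_2_1_4⟩
    · exact ⟨rel_0_0_5, rel_0_1_5⟩
    · exact ⟨rel_1_0_5, rel_1_1_5⟩
    · exact ⟨rel_2_0_5, rel_2_1_5⟩
  obtain ⟨a, ha, hb⟩ := part_cases hr
  intro h hh
  refine ⟨fun i hi => ((row_facts hr).2.2 i hi).1, ?_⟩
  have hc : relOK l h a = true := by
    rcases hh with rfl | rfl
    exacts [(hall a ha).1, (hall a ha).2]
  have h' := allIdx_get (List.all_eq_true.1 hc _ hb) (r % 32) (by rw [(row_facts hr).1]; omega)
  rw [beq_iff_eq, Nat.div_add_mod] at h'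
  exact h'

theorem keepsV : Keeps 0 2016 := fun l hl x hx => by
  have h := List.all_eq_true.1 (vec_ok hl) x (List.mem_range.2 hx)
  simp only [Bool.and_eq_true] at h
  rw [Nat.zero_add, Nat.zero_add]
  exact ⟨Nat.zero_le _, Nat.le_of_ble_eq_true h.1⟩

theorem keepsA : Keeps 2016 1344 := fun _ hl _ hx => (link_facts hl (link_ok hl).1 hx).1

theorem keepsB : Keeps 3360 1344 := fun _ hl _ hx => (link_facts hl (link_ok hl).2 hx).1

/-- The action on the vectors. -/
noncomputable def actV : Cover →* Equiv.Perm (Fin 2016) := res 0 2016 (by norm_num) keepsV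

theorem actV_imD {l : ℕ} (hl : l < 3) (r : Fin 2016) : (actV (imD l) r).val = ap (tab l) r.val := by
  rw [actV, res_imD _ _ hl, Nat.zero_add, Nat.sub_zero]

/-! ### Arithmetic -/

open Cfsg.Lib.PrimeGraph (KQuad)

/-- An element from its code. -/
def dec (c : ℕ) : K := KQuad.ofCode c

theorem dec_ops : ∀ x y : Fin 4,
    dec (x.val ^^^ y.val) = dec x.val + dec y.val ∧ dec (mul4 x.val y.val) = dec x.val * dec y.val := by
  decide +kernel

theorem dec_inj : ∀ x y : Fin 4, dec x.val = dec y.val → x = y := by decide +kernel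

theorem mul_lt (x y : ℕ) : mul4 x y < 4 := Nat.mod_lt _ (by norm_num)

theorem xor_lt {x y : ℕ} (hx : x < 4) (hy : y < 4) : x ^^^ y < 4 := Nat.xor_lt_two_pow (n := 2) hx hy

theorem dec_add {x y : ℕ} (hx : x < 4) (hy : y < 4) : dec (x ^^^ y) = dec x + dec y := (dec_ops ⟨x, hx⟩ ⟨y, hy⟩).1

theorem dec_mul {x y : ℕ} (hx : x < 4) (hy : y < 4) : dec (mul4 x y) = dec x * dec y :=
  (dec_ops ⟨x, hx⟩ ⟨y, hy⟩).2

theorem mc_lt (l : Fin 3) : ∀ i j : Fin 6, mc l.val i.val j.val < 4 := by
  revert l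
  decide +kernel

theorem coord_lt (c i : ℕ) : coord c i < 4 := Nat.mod_lt _ (by norm_num)

/-- The vector with a code. -/
def vOf (c : ℕ) : Fin 6 → K := fun i => dec (coord c i.val)

/-- The vector of a point. -/
def vp (r : Fin 2016) : Fin 6 → K := vOf (vcode r.val)

theorem vcode_facts (r : Fin 2016) : vcode r.val < 4096 ∧ ap idxTab (vcode r.val) = r.val := by
  simpa using List.all_eq_true.1 vec_code r.val (List.mem_range.2 r.isLt)

theorem vp_inj : Function.Injective vp := by
  intro a b h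
  have hc : ∀ i : Fin 6, coord (vcode a.val) i.val = coord (vcode b.val) i.val := fun i =>
    congrArg Fin.val (dec_inj ⟨_, coord_lt _ _⟩ ⟨_, coord_lt _ _⟩ (congrFun h i))
  have h0 := hc 0
  have h1 := hc 1
  have h2 := hc 2
  have h3 := hc 3
  have h4 := hc 4
  have h5 := hc 5
  have ha := (vcode_facts a).1
  have hb := (vcode_facts b).1
  simp only [coord, Fin.val_zero, Fin.val_one, Fin.val_two, show ((3 : Fin 6).val) = 3 from rfl,
    show ((4 : Fin 6).val) = 4 from rfl, show ((5 : Fin 6).val) = 5 from rfl] at h0 h1 h2 h3 h4 h5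
  norm_num at h0 h1 h2 h3 h4 h5
  have e : vcode a.val = vcode b.val := by omega
  exact Fin.ext ((vcode_facts a).2.symm.trans (e ▸ (vcode_facts b).2))

/-- The point of a basis vector. -/
def unitV (k : Fin 6) : Fin 2016 := ⟨3 * k.val, by have := k.isLt; omega⟩

theorem vp_unit (k : Fin 6) : vp (unitV k) = Pi.single k 1 := by
  have e := beq_iff_eq.1 (List.all_eq_true.1 vec_unit k.val (List.mem_range.2 k.isLt))
  have h : ∀ k i : Fin 6, vOf (4 ^ k.val) i = (Pi.single k 1 : Fin 6 → K) i := by decide +kernel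
  rw [vp, show vcode (unitV k).val = 4 ^ k.val from e]
  exact funext (h k)

/-- The matrix of a letter. -/
def mat (l : ℕ) : Matrix (Fin 6) (Fin 6) K := Matrix.of fun i j => dec (mc l i.val j.val)

theorem mat_unitary : ∀ l : Fin 3, (mat l.val)ᵀ * (mat l.val).map sqr = 1 ∧ mat l.val * mat l.val = 1 := by
  decide +kernel

theorem mat_vec {l : ℕ} (hl : l < 3) (r : Fin 2016) : mat l *ᵥ vp r = vp (actV (imD l) r) := by
  funext i
  have h := List.all_eq_true.1 (vec_ok hl) r.val (List.mem_range.2 r.isLt)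
  simp only [Bool.and_eq_true, List.all_eq_true, List.mem_range, beq_iff_eq] at h
  have m : ∀ j : ℕ, j < 6 → mc l i.val j < 4 := fun j hj => mc_lt ⟨l, hl⟩ i ⟨j, hj⟩
  have c := coord_lt (vcode r.val)
  have p : ∀ j : ℕ, mul4 (mc l i.val j) (coord (vcode r.val) j) < 4 := fun j => mul_lt _ _
  show _ = dec (coord (vcode (actV (imD l) r).val) i.val)
  rw [actV_imD hl, ← h.2 i.val i.isLt, imgC]
  simp only [Matrix.mulVec, dotProduct, Fin.sum_univ_six, mat, Matrix.of_apply, vp, vOf]
  rw [dec_add (xor_lt (xor_lt (xor_lt (xor_lt (p 0) (p 1)) (p 2)) (p 3)) (p 4)) (p 5),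
    dec_add (xor_lt (xor_lt (xor_lt (p 0) (p 1)) (p 2)) (p 3)) (p 4),
    dec_add (xor_lt (xor_lt (p 0) (p 1)) (p 2)) (p 3), dec_add (xor_lt (p 0) (p 1)) (p 2), dec_add (p 0) (p 1),
    dec_mul (m 0 (by norm_num)) (c 0), dec_mul (m 1 (by norm_num)) (c 1), dec_mul (m 2 (by norm_num)) (c 2),
    dec_mul (m 3 (by norm_num)) (c 3), dec_mul (m 4 (by norm_num)) (c 4), dec_mul (m 5 (by norm_num)) (c 5)]
  rfl

/-- A letter as an element of the special unitary group. -/
def gamma (l : Fin 3) : Cfsg.SU 6 K 2 :=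
  ⟨⟨mat l.val, det_one_of_sq (mat_unitary l).2⟩, fun u v => herm_preserved (mat_unitary l).1 u v⟩

/-- The matrix of an element. -/
def mt (g : Cfsg.SU 6 K 2) : Matrix (Fin 6) (Fin 6) K := g.1.1

theorem mt_mul (g h : Cfsg.SU 6 K 2) : mt (g * h) = mt g * mt h := rfl

theorem mt_one : mt 1 = 1 := rfl

theorem mt_ext {g h : Cfsg.SU 6 K 2} (e : mt g = mt h) : g = h := Subtype.ext (Subtype.ext e)

/-- Elements with a matrix. -/
def pairsM : Subgroup (Cover × Cfsg.SU 6 K 2) where
  carrier := {t | ∀ r, mt t.2 *ᵥ vp r = vp (actV t.1 r)}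
  one_mem' := fun r => by simp [mt_one]
  mul_mem' := fun {s t} hs ht r => by
    rw [Prod.snd_mul, Prod.fst_mul, mt_mul, ← Matrix.mulVec_mulVec, ht, hs, map_mul, Equiv.Perm.mul_apply]
  inv_mem' := fun {t} ht r => by
    have h := ht ((actV t.1)⁻¹ r)
    rw [Equiv.Perm.coe_inv, Equiv.apply_symm_apply] at h
    rw [Prod.snd_inv, Prod.fst_inv, map_inv, Equiv.Perm.coe_inv, ← h, Matrix.mulVec_mulVec, ← mt_mul,
      inv_mul_cancel, mt_one, Matrix.one_mulVec]

theorem exists_mat (g : Cover) : ∃ M, (g, M) ∈ pairsM := by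
  have h : pairsM.map (MonoidHom.fst Cover _) = ⊤ := top_eq fun l hl =>
    ⟨(imD l, gamma ⟨l, hl⟩), fun r => mat_vec hl r, rfl⟩
  obtain ⟨⟨g', M⟩, hM, rfl⟩ := (h.symm ▸ Subgroup.mem_top g : g ∈ pairsM.map (MonoidHom.fst Cover _))
  exact ⟨M, hM⟩

theorem mat_unique {M N : Matrix (Fin 6) (Fin 6) K} (h : ∀ k, M *ᵥ vp (unitV k) = N *ᵥ vp (unitV k)) : M = N := by
  refine Matrix.ext fun i j => ?_
  have e := h j
  rw [vp_unit, Matrix.mulVec_single_one, Matrix.mulVec_single_one] at e
  exact congrFun e i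

/-- The representation. -/
noncomputable def toSU : Cover →* Cfsg.SU 6 K 2 :=
  MonoidHom.mk' (fun g => (exists_mat g).choose) fun g k => mt_ext (mat_unique fun j => by
    rw [(exists_mat (g * k)).choose_spec _]
    exact (pairsM.mul_mem (exists_mat g).choose_spec (exists_mat k).choose_spec _).symm)

theorem toSU_spec (g : Cover) (r : Fin 2016) : mt (toSU g) *ᵥ vp r = vp (actV g r) := (exists_mat g).choose_spec r

theorem toSU_imD {l : ℕ} (hl : l < 3) : mt (toSU (imD l)) = mat l :=
  mat_unique fun k => by rw [toSU_spec, mat_vec hl]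

/-- The projection. -/
noncomputable def toP : Cover →* Cfsg.PSU 6 K 2 := (QuotientGroup.mk' _).comp toSU

/-! ### Scalars -/

theorem scal_facts : ∀ k : Fin 3,
    (dec 2 ^ k.val • (1 : Matrix (Fin 6) (Fin 6) K))ᵀ * (dec 2 ^ k.val • (1 : Matrix (Fin 6) (Fin 6) K)).map sqr = 1 ∧
      dec 2 ^ k.val ^ 1 * (dec 2 ^ k.val) ^ 5 = 1 := by
  decide +kernel

/-- A scalar. -/
def scal (k : Fin 3) : Cfsg.SU 6 K 2 :=
  ⟨⟨dec 2 ^ k.val • 1, by
    rw [Matrix.det_smul, Matrix.det_one, mul_one, Fintype.card_fin, pow_succ' (dec 2 ^ k.val) 5]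
    simpa using (scal_facts k).2⟩, fun u v => herm_preserved (scal_facts k).1 u v⟩

theorem mt_scal (k : Fin 3) : mt (scal k) = dec 2 ^ k.val • 1 := rfl

theorem scal_center (k : Fin 3) : scal k ∈ Subgroup.center (Cfsg.SU 6 K 2) :=
  Subgroup.mem_center_iff.2 fun g => mt_ext (by
    rw [mt_mul, mt_mul, mt_scal, Matrix.mul_smul, Matrix.mul_one, Matrix.smul_mul, Matrix.one_mul])

theorem pow_inj : ∀ k l : Fin 3, dec 2 ^ k.val = dec 2 ^ l.val → k = l := by decide +kernel

theorem center_cases {g : Cfsg.SU 6 K 2} (hg : g ∈ Subgroup.center (Cfsg.SU 6 K 2)) : ∃ k, g = scal k := by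
  let f : Fin 3 → Subgroup.center (Cfsg.SU 6 K 2) := fun k => ⟨scal k, scal_center k⟩
  have hinj : Function.Injective f := fun k l e => pow_inj k l (by
    have := congrFun (congrFun (congrArg (fun z : Subgroup.center (Cfsg.SU 6 K 2) => mt z.1) e) 0) 0
    simpa [f, mt_scal] using this)
  have hcard : Nat.card (Subgroup.center (Cfsg.SU 6 K 2)) = Nat.card (Fin 3) := by
    rw [Cfsg.Lib.Classical.card_center_SU (F := K) (q := 2) (by rw [card_K]; norm_num) (by norm_num), Nat.card_fin]
    norm_num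
  haveI : Finite (Subgroup.center (Cfsg.SU 6 K 2)) := Nat.finite_of_card_ne_zero (by rw [hcard]; simp)
  obtain ⟨k, hk⟩ := ((Nat.bijective_iff_injective_and_card f).2 ⟨hinj, hcard.symm⟩).2 ⟨g, hg⟩
  exact ⟨k, (congrArg Subtype.val hk).symm⟩

/-- The next multiple of a vector. -/
def nextF (r : Fin 2016) : Fin 2016 := ⟨nextV r.val, by
  have := r.isLt; simp only [nextV]; omega⟩

theorem vp_next (r : Fin 2016) : vp (nextF r) = dec 2 • vp r := by
  funext i
  have h := List.all_eq_true.1 vec_next r.val (List.mem_range.2 r.isLt)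
  simp only [Bool.and_eq_true, List.all_eq_true, List.mem_range, beq_iff_eq] at h
  show dec (coord (vcode (nextV r.val)) i.val) = dec 2 * dec (coord (vcode r.val) i.val)
  rw [h.2 i.val i.isLt, dec_mul (by norm_num) (coord_lt _ _)]

theorem vp_iter (r : Fin 2016) : ∀ k : ℕ, vp (nextF^[k] r) = dec 2 ^ k • vp r
  | 0 => by simp
  | k + 1 => by rw [Function.iterate_succ', Function.comp_apply, vp_next, vp_iter r k, smul_smul, pow_succ']

theorem ker_scalar {g : Cover} (hg : g ∈ toP.ker) :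
    ∃ k : Fin 3, mt (toSU g) = dec 2 ^ k.val • (1 : Matrix (Fin 6) (Fin 6) K) ∧
      ∀ r, actV g r = nextF^[k.val] r := by
  obtain ⟨k, hk⟩ := center_cases ((QuotientGroup.eq_one_iff _).1 (show QuotientGroup.mk (toSU g) = 1 from hg))
  refine ⟨k, by rw [hk, mt_scal], fun r => vp_inj ?_⟩
  rw [← toSU_spec, hk, mt_scal, vp_iter, Matrix.smul_mulVec, Matrix.one_mulVec]

/-! ### Fibres -/

/-- The other point of a fibre. -/
def flipF (a : Fin 1344) : Fin 1344 := ⟨flipOf a.val, by have := a.isLt; simp only [flipOf]; omega⟩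

theorem same_fibre {a x : Fin 1344} (h : x.val / 2 = a.val / 2) : x = a ∨ x = flipF a := by
  simp only [Fin.ext_iff, flipF, flipOf]
  have := a.isLt
  have := x.isLt
  omega

theorem testBit_img (f : ℕ → ℕ) (P y : ℕ) :
    (imgMask f P).testBit y = true ↔ ∃ i < 176, f (ap P i) = y := by
  have key : ∀ (L : List ℕ) (acc : ℕ),
      (L.foldl (fun acc i => acc ||| 2 ^ f (ap P i)) acc).testBit y = true ↔
        acc.testBit y = true ∨ ∃ i ∈ L, f (ap P i) = y := by
    intro L
    induction L with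
    | nil => intro acc; simp
    | cons a L ih =>
      intro acc
      rw [List.foldl_cons, ih]
      simp [Nat.testBit_or, Nat.testBit_two_pow, or_assoc]
  rw [imgMask, key]
  simp [List.mem_range]

theorem testBit_nbr {r : ℕ} (hr : r < 1344) (y : ℕ) :
    (nbr r).testBit y = true ↔ ∃ i < 176, ap (nbrP r) i = y := by
  rw [← (row_facts hr).2.1]
  exact testBit_img _ _ _

theorem fibre_ok {r : ℕ} (hr : r < 1344) {i : ℕ} (hi : i < 176) :
    (nbr r).testBit (flipOf (ap (nbrP r) i)) = false := ((row_facts hr).2.2 i hi).2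

/-- Elements commuting with a map between two actions. -/
def equivar {α β : Type} (u : Cover →* Equiv.Perm α) (v : Cover →* Equiv.Perm β) (f : α → β) :
    Subgroup Cover where
  carrier := {g | ∀ x, v g (f x) = f (u g x)}
  one_mem' := fun x => by simp
  mul_mem' := fun {g k} hg hk x => by simp only [map_mul, Equiv.Perm.mul_apply]; rw [hk, hg]
  inv_mem' := fun {g} hg x => by
    refine (v g).injective ?_
    rw [hg, map_inv, map_inv, Equiv.Perm.coe_inv, Equiv.Perm.coe_inv, Equiv.apply_symm_apply,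
      Equiv.apply_symm_apply]

theorem flip_top {h T : ℕ} (hb : h + 1344 ≤ 4704) (hk : Keeps h 1344) (hc : ∀ l < 3, linkOK l h T = true) :
    equivar (res h 1344 hb hk) (res h 1344 hb hk) flipF = ⊤ := top_eq fun l hl a => Fin.ext (by
  show (res h 1344 hb hk (imD l) (flipF a)).val = flipOf (res h 1344 hb hk (imD l) a).val
  rw [res_imD hb hk hl, res_imD hb hk hl]
  exact (link_facts hl (hc l hl) a.isLt).2.1)

theorem nbr_equiv {h : ℕ} (hh : h = 2016 ∨ h = 3360) (hb : h + 1344 ≤ 4704) (hk : Keeps h 1344) (g : Cover)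
    (r s : Fin 1344) :
    (nbr (res h 1344 hb hk g r).val).testBit (res h 1344 hb hk g s).val = (nbr r.val).testBit s.val := by
  let u : Cover →* Equiv.Perm (Fin 1344 × Fin 1344) :=
    MonoidHom.mk' (fun g => Equiv.prodCongr (res h 1344 hb hk g) (res h 1344 hb hk g)) fun a b =>
      Equiv.ext fun ⟨_, _⟩ => by simp [Prod.map]
  have hu : equivar u (1 : Cover →* Equiv.Perm Bool) (fun x => (nbr x.1.val).testBit x.2.val) = ⊤ := by
    refine top_eq fun l hl x => ?_
    show (nbr x.1.val).testBit x.2.val =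
      (nbr (res h 1344 hb hk (imD l) x.1).val).testBit (res h 1344 hb hk (imD l) x.2).val
    rw [res_imD hb hk hl x.1, ← (rel_ok hl x.1.isLt h hh).2, Bool.eq_iff_iff, testBit_img, testBit_nbr x.1.isLt]
    constructor
    · rintro ⟨i, hi, e⟩
      exact ⟨i, hi, by rw [e, res_imD hb hk hl x.2]⟩
    · rintro ⟨i, hi, e⟩
      refine ⟨i, hi, congrArg Fin.val ((res h 1344 hb hk (imD l)).injective
        (a₁ := ⟨_, (rel_ok hl x.1.isLt h hh).1 i hi⟩) (a₂ := x.2) (Fin.ext ?_))⟩
      rw [res_imD hb hk hl ⟨_, (rel_ok hl x.1.isLt h hh).1 i hi⟩]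
      exact e
  exact ((hu.symm ▸ Subgroup.mem_top g : g ∈ equivar u (1 : Cover →* Equiv.Perm Bool) _) (r, s)).symm

/-- The object of a point of the projective space. -/
def objF (T : ℕ) (hT : ∀ u < 672, ap T u < 672) (r : Fin 1344) : Fin 672 :=
  ⟨ap T (r.val / 2), hT _ (by have := r.isLt; omega)⟩

theorem iter_div : ∀ (k : ℕ) (r : Fin 2016), (nextF^[k] r).val / 3 = r.val / 3
  | 0, _ => rfl
  | k + 1, r => by
    rw [Function.iterate_succ', Function.comp_apply]
    show nextV (nextF^[k] r).val / 3 = _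
    have := iter_div k r
    simp only [nextV]
    omega

theorem mulVec_next (g : Cover) (r : Fin 2016) : actV g (nextF r) = nextF (actV g r) := vp_inj (by
  rw [← toSU_spec, vp_next, Matrix.mulVec_smul, toSU_spec, ← vp_next])

theorem actV_div (g : Cover) {r s : Fin 2016} (h : r.val / 3 = s.val / 3) :
    (actV g r).val / 3 = (actV g s).val / 3 := by
  have hit : ∀ (k : ℕ) (x : Fin 2016), actV g (nextF^[k] x) = nextF^[k] (actV g x) := by
    intro k
    induction k with
    | zero => exact fun x => rfl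
    | succ k ih => intro x; rw [Function.iterate_succ', Function.comp_apply, mulVec_next, ih]; rfl
  obtain ⟨k, hk⟩ : ∃ k : ℕ, nextF^[k] r = s := by
    refine ⟨(s.val + 3 - r.val % 3) % 3, Fin.ext ?_⟩
    rcases (by omega : r.val % 3 = 0 ∨ r.val % 3 = 1 ∨ r.val % 3 = 2) with e | e | e <;>
      rcases (by omega : s.val % 3 = 0 ∨ s.val % 3 = 1 ∨ s.val % 3 = 2) with e' | e' | e' <;>
      (have e1 : (s.val + 3 - r.val % 3) % 3 = (s.val % 3 + 3 - r.val % 3) % 3 := by omega
       rw [e1, e, e']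
       simp only [Nat.reduceAdd, Nat.reduceSub, Nat.reduceMod, Function.iterate_succ', Function.iterate_zero,
         Function.comp_apply, id_eq, nextF, nextV]
       omega)
  rw [← hk, hit, iter_div]

theorem obj_fixed {h T : ℕ} (hb : h + 1344 ≤ 4704) (hk : Keeps h 1344) (hc : ∀ l < 3, linkOK l h T = true)
    (hT : ∀ u < 672, ap T u < 672) (hinj : ∀ u < 672, ∀ v < 672, ap T u = ap T v → u = v)
    {g : Cover} (hg : g ∈ toP.ker) (a : Fin 1344) : (res h 1344 hb hk g a).val / 2 = a.val / 2 := by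
  let link : Subgroup Cover :=
    { carrier := {g | ∀ r : Fin 1344, ap T ((res h 1344 hb hk g r).val / 2) =
        (actV g ⟨3 * ap T (r.val / 2), by have := hT _ (show r.val / 2 < 672 by omega); omega⟩).val / 3}
      one_mem' := fun r => by simp
      mul_mem' := fun {x y} hx hy r => by
        simp only [map_mul, Equiv.Perm.mul_apply]
        rw [hx]
        refine actV_div x ?_
        rw [← hy r]
        exact Nat.mul_div_cancel_left _ (by norm_num)
      inv_mem' := fun {x} hx r => by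
        have h1 := hx ((res h 1344 hb hk x)⁻¹ r)
        rw [Equiv.Perm.coe_inv, Equiv.apply_symm_apply] at h1
        have h2 := actV_div x⁻¹ (r := actV x ⟨3 * ap T (((res h 1344 hb hk x)⁻¹ r).val / 2), by
            have := hT _ (show ((res h 1344 hb hk x)⁻¹ r).val / 2 < 672 by omega); omega⟩)
          (s := ⟨3 * ap T (r.val / 2), by have := hT _ (show r.val / 2 < 672 by omega); omega⟩)
          (by rw [Nat.mul_div_cancel_left _ (by norm_num)]; exact h1.symm)
        rw [← Equiv.Perm.mul_apply, ← map_mul, inv_mul_cancel, map_one, Equiv.Perm.one_apply,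
          Nat.mul_div_cancel_left _ (by norm_num)] at h2
        rw [map_inv (res h 1344 hb hk), h2] }
  have htop : link = ⊤ := top_eq fun l hl r => by
    rw [res_imD hb hk hl, actV_imD hl]
    exact (link_facts hl (hc l hl) r.isLt).2.2
  have e := (htop.symm ▸ Subgroup.mem_top g : g ∈ link) a
  obtain ⟨k, -, hk'⟩ := ker_scalar hg
  rw [hk', iter_div, Nat.mul_div_cancel_left _ (by norm_num)] at e
  exact hinj _ (by omega) _ (by omega) e

theorem fibre_fixed {h T : ℕ} (hh : h = 2016 ∨ h = 3360) (hb : h + 1344 ≤ 4704) (hk : Keeps h 1344)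
    (hc : ∀ l < 3, linkOK l h T = true) {g : Cover}
    (hobj : ∀ a, (res h 1344 hb hk g a).val / 2 = a.val / 2)
    (h0 : res h 1344 hb hk g ⟨0, by norm_num⟩ = ⟨0, by norm_num⟩) : res h 1344 hb hk g = 1 := by
  set C := res h 1344 hb hk g
  have hrot : ∀ a, C (flipF a) = flipF (C a) := fun a =>
    ((flip_top hb hk hc).symm ▸ Subgroup.mem_top g : g ∈ equivar _ _ flipF) a
  let Fixed : ℕ → Prop := fun o => ∀ x : Fin 1344, x.val / 2 = o → C x = x
  have hone : ∀ r : Fin 1344, C r = r → Fixed (r.val / 2) := fun r hr x hx => by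
    rcases same_fibre hx with rfl | rfl
    · exact hr
    · rw [hrot, hr]
  have hreach : ∀ (L : List (ℕ × ℕ)) (S : List ℕ),
      (∀ e ∈ L, e.1 < 1344 ∧ e.2 < 1344 ∧ (nbr e.2).testBit e.1 = true) → (∀ q ∈ S, Fixed q) →
      ∀ q ∈ reach L S, Fixed q := by
    intro L
    induction L with
    | nil => exact fun S _ hS => hS
    | cons e L ih =>
      intro S hL hS
      refine ih _ (fun x hx => hL x (List.mem_cons_of_mem _ hx)) fun q hq => ?_
      cases hbit : S.contains (e.2 / 2)
      · rw [hbit, cond_false] at hq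
        exact hS q hq
      · rw [hbit, cond_true, List.mem_cons] at hq
        rcases hq with rfl | hq
        · obtain ⟨h1, h2, h3⟩ := hL e List.mem_cons_self
          have hr : C ⟨e.2, h2⟩ = ⟨e.2, h2⟩ := hS _ (List.contains_iff_mem.1 hbit) ⟨e.2, h2⟩ rfl
          refine hone ⟨e.1, h1⟩ ?_
          have e' := nbr_equiv hh hb hk g ⟨e.2, h2⟩ ⟨e.1, h1⟩
          rw [show res h 1344 hb hk g = C from rfl, hr, h3] at e'
          rcases same_fibre (hobj ⟨e.1, h1⟩) with q | q
          · exact q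
          · rw [q] at e'
            obtain ⟨i, hi, hi'⟩ := (testBit_nbr h2 _).1 h3
            have hn := fibre_ok h2 hi
            rw [hi'] at hn
            exact Bool.noConfusion (hn.symm.trans e')
        · exact hS q hq
  refine Equiv.ext fun x => hreach treeEdges [0] (fun e he => ?_) (fun q hq => ?_) (x.val / 2)
    (List.contains_iff_mem.1 (List.all_eq_true.1 tree_reach _ (List.mem_range.2 (by have := x.isLt; omega)))) x rfl
  · have h' := List.all_eq_true.1 tree_ok e he
    simp only [Bool.and_eq_true, decide_eq_true_eq] at h'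
    exact ⟨h'.1.1, h'.1.2, h'.2⟩
  · rw [List.mem_singleton] at hq
    subst hq
    exact hone _ h0

/-- The first pairs. -/
noncomputable def actA : Cover →* Equiv.Perm (Fin 1344) := res 2016 1344 (by norm_num) keepsA

/-- The second pairs. -/
noncomputable def actB : Cover →* Equiv.Perm (Fin 1344) := res 3360 1344 (by norm_num) keepsB

theorem obj_facts {u : ℕ} (hu : u < 672) :
    ap objTab1 u < 672 ∧ ap objTab1 (ap objTab1 u) = u ∧ ap objTab2 u < 672 ∧ ap invTab2 (ap objTab2 u) = u := by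
  simpa [and_assoc] using List.all_eq_true.1 obj_inj u (List.mem_range.2 hu)

theorem ker_objs {g : Cover} (hg : g ∈ toP.ker) (a : Fin 1344) :
    (actA g a).val / 2 = a.val / 2 ∧ (actB g a).val / 2 = a.val / 2 :=
  ⟨obj_fixed _ _ (fun _ hl => (link_ok hl).1) (fun _ hu => (obj_facts hu).1)
      (fun _ hu _ hv e => (obj_facts hu).2.1.symm.trans (e ▸ (obj_facts hv).2.1)) hg a,
    obj_fixed _ _ (fun _ hl => (link_ok hl).2) (fun _ hu => (obj_facts hu).2.2.1)
      (fun _ hu _ hv e => (obj_facts hu).2.2.2.symm.trans (e ▸ (obj_facts hv).2.2.2)) hg a⟩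

/-- The first point of each action. -/
def pV : Fin 2016 := ⟨0, by norm_num⟩

/-- The first point of each triple action. -/
def pA : Fin 1344 := ⟨0, by norm_num⟩

theorem next_zero : ∀ k : Fin 3, (nextF^[k.val] pV).val = k.val := by decide +kernel

theorem ker_eq_one {g : Cover} (hg : g ∈ toP.ker) (hV : actV g pV = pV) (hA : actA g pA = pA)
    (hB : actB g pA = pA) : g = 1 := by
  obtain ⟨k, -, hk⟩ := ker_scalar hg
  have hk0 : k.val = 0 := by
    have := next_zero k
    rw [← hk pV, hV] at this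
    simpa [pV] using this.symm
  have eA : actA g = 1 := fibre_fixed (Or.inl rfl) _ _ (fun _ hl => (link_ok hl).1) (fun a => (ker_objs hg a).1) hA
  have eB : actB g = 1 := fibre_fixed (Or.inr rfl) _ _ (fun _ hl => (link_ok hl).2) (fun a => (ker_objs hg a).2) hB
  refine Subtype.ext (Equiv.ext fun x => ?_)
  show (g : Equiv.Perm (Fin 4704)) x = x
  have hpt : ∀ (h m : ℕ) (hh : h + m ≤ 4704) (hk : Keeps h m), res h m hh hk g = 1 →
      h ≤ x.val → x.val < h + m → (g : Equiv.Perm (Fin 4704)) x = x := fun h m hh hk e h1 h2 => by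
    have hx : blockPt h hh ⟨x.val - h, by omega⟩ = x := Fin.ext (by simp only [blockPt]; omega)
    rw [← hx, res_spec hh hk, e, Equiv.Perm.one_apply]
  have eV : actV g = 1 := Equiv.ext fun r => by rw [hk r, hk0]; rfl
  have := x.isLt
  rcases Nat.lt_or_ge x.val 2016 with h1 | h1
  · exact hpt 0 2016 _ keepsV eV (Nat.zero_le _) (by omega)
  rcases Nat.lt_or_ge x.val 3360 with h2 | h2
  · exact hpt 2016 1344 _ keepsA eA h1 (by omega)
  · exact hpt 3360 1344 _ keepsB eB h2 (by omega)

theorem card_ker_le : Nat.card toP.ker ≤ 12 := by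
  have hV : ∀ g : toP.ker, (actV g.1 pV).val < 3 := fun g => by
    obtain ⟨k, -, hk⟩ := ker_scalar g.2
    rw [hk, next_zero]
    exact k.isLt
  have hA : ∀ g : toP.ker, (actA g.1 pA).val < 2 ∧ (actB g.1 pA).val < 2 := fun g => by
    obtain ⟨h1, h2⟩ := ker_objs g.2 pA
    simp only [pA] at h1 h2 ⊢
    omega
  let f : toP.ker → Fin 3 × Fin 2 × Fin 2 := fun g => (⟨_, hV g⟩, ⟨_, (hA g).1⟩, ⟨_, (hA g).2⟩)
  have hinj : Function.Injective f := fun g h e => by
    simp only [f, Prod.mk.injEq, Fin.mk.injEq] at e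
    obtain ⟨e1, e2, e3⟩ := e
    have hz : (g⁻¹ * h : toP.ker).1 = 1 := by
      refine ker_eq_one (g⁻¹ * h).2 ?_ ?_ ?_
      all_goals
        rw [Subgroup.coe_mul, Subgroup.coe_inv, map_mul, map_inv, Equiv.Perm.mul_apply, Equiv.Perm.coe_inv,
          Equiv.symm_apply_eq]
      exacts [(Fin.ext e1).symm, (Fin.ext e2).symm, (Fin.ext e3).symm]
    exact inv_mul_eq_one.1 (Subtype.ext hz)
  simpa using Nat.card_le_card_of_injective f hinj

theorem card_facts : Nat.card Cover = 110361968640 ∧ Nat.card toP.ker = 12 ∧ Function.Surjective toP := by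
  haveI : Finite (Cfsg.PSU 6 K 2) := Nat.finite_of_card_ne_zero (by rw [card_psu]; norm_num)
  have hlow : 110361968640 ≤ Nat.card (⊤ : Subgroup Cover) := chain_size.1 ▸ chain_bound imD
    (lgp imC (List.range 3)).subtype covTabs tabledD.act (covChain.map SLev.lev) ⊤
    (covTabs_length.symm ▸ chain_ok) inferInstance (fun _ _ _ _ => Subgroup.mem_top _)
  rw [Subgroup.card_top] at hlow
  have hr : Nat.card toP.range ≤ 9196830720 := card_psu ▸ Subgroup.card_le_card_group _
  have hk := card_ker_le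
  have hprod : Nat.card Cover = Nat.card toP.range * Nat.card toP.ker := by
    rw [Subgroup.card_eq_card_quotient_mul_card_subgroup toP.ker,
      Nat.card_congr (QuotientGroup.quotientKerEquivRange toP).toEquiv]
  have hrpos : 0 < Nat.card toP.range := Nat.card_pos
  have hbound : Nat.card toP.range * Nat.card toP.ker ≤ 9196830720 * 12 := Nat.mul_le_mul hr hk
  have hr' : Nat.card toP.range = 9196830720 := by
    by_contra hne
    have : Nat.card toP.range * Nat.card toP.ker ≤ 9196830719 * 12 := Nat.mul_le_mul (by omega) hk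
    omega
  refine ⟨by omega, ?_, MonoidHom.range_eq_top.1 (Subgroup.eq_top_of_card_eq _ (hr'.trans card_psu.symm))⟩
  rw [hr'] at hprod hbound
  omega

end Cfsg.Lib.USixTwoCover
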